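import Mathlib
import Cfsg.Prelude.Def_Local
import Cfsg.Agent.Lib.helper27.PLocal3

set_option autoImplicit false

namespace Cfsg.Agent.Lib.helper27

open Subgroup
open scoped commutatorElement

variable {G : Type*} [Group G]

/-! ### `O_{q',q}` of a solvable group -/

section PPrimeP

variable (q : ℕ)

theorem mem_pPrimePCore_iff (x : G) :
    x ∈ Cfsg.pPrimePCore q G ↔
      QuotientGroup.mk' (Cfsg.pPrimeCore q G) x ∈ Cfsg.pCore q (G ⧸ Cfsg.pPrimeCore q G) :=
  Iff.rfl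

instance pPrimePCore_characteristic : (Cfsg.pPrimePCore q G).Characteristic := by
  rw [Subgroup.characteristic_iff_map_le]
  rintro φ _ ⟨x, hx, rfl⟩
  rw [SetLike.mem_coe, mem_pPrimePCore_iff] at hx
  rw [mem_pPrimePCore_iff]
  have h1 : (Cfsg.pPrimeCore q G).map (φ : G →* G) = Cfsg.pPrimeCore q G := map_pPrimeCore_equiv q φ
  have h2 := map_pCore_equiv q (QuotientGroup.congr (Cfsg.pPrimeCore q G) (Cfsg.pPrimeCore q G) φ h1)
  have h3 : (QuotientGroup.congr (Cfsg.pPrimeCore q G) (Cfsg.pPrimeCore q G) φ h1)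
      (QuotientGroup.mk' (Cfsg.pPrimeCore q G) x) ∈ Cfsg.pCore q (G ⧸ Cfsg.pPrimeCore q G) := by
    rw [← h2]
    exact Subgroup.mem_map_of_mem _ hx
  exact h3

instance pPrimePCore_normal' : (Cfsg.pPrimePCore q G).Normal := inferInstance

/-- An element of `O_{q',q}(G)` of order prime to `q` lies in `O_{q'}(G)`. -/
theorem mem_pPrimeCore_of_mem_pPrimePCore [Finite G] [hq : Fact q.Prime] {x : G}
    (hx : x ∈ Cfsg.pPrimePCore q G) (hxo : (orderOf x).Coprime q) : x ∈ Cfsg.pPrimeCore q G := by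
  rw [mem_pPrimePCore_iff] at hx
  obtain ⟨k, hk⟩ := (pCore_isPGroup q (G := G ⧸ Cfsg.pPrimeCore q G)) ⟨_, hx⟩
  have hk' : (QuotientGroup.mk' (Cfsg.pPrimeCore q G) x) ^ q ^ k = 1 := by
    have := congrArg Subtype.val hk
    simpa using this
  have h1 : orderOf (QuotientGroup.mk' (Cfsg.pPrimeCore q G) x) ∣ q ^ k :=
    orderOf_dvd_of_pow_eq_one hk'
  have h2 : orderOf (QuotientGroup.mk' (Cfsg.pPrimeCore q G) x) ∣ orderOf x := orderOf_map_dvd _ x
  have h3 : (orderOf (QuotientGroup.mk' (Cfsg.pPrimeCore q G) x)).Coprime (q ^ k) :=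
    Nat.Coprime.pow_right k (Nat.Coprime.coprime_dvd_left h2 hxo)
  have h4 := Nat.Coprime.eq_one_of_dvd h3 h1
  rw [orderOf_eq_one_iff, QuotientGroup.mk'_apply, QuotientGroup.eq_one_iff] at h4
  exact h4

/-- In a solvable group, an element centralizing `O_{q',q}(G)` modulo `O_{q'}(G)` lies in
`O_{q',q}(G)`. -/
theorem mem_pPrimePCore_of_centralizes [Finite G] [hq : Fact q.Prime] [hs : Group.IsSolvable G]
    {u : G}
    (hu : Cfsg.pPrimePCore q G ≤
      (centralizer ({QuotientGroup.mk' (Cfsg.pPrimeCore q G) u} :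
        Set (G ⧸ Cfsg.pPrimeCore q G))).comap (QuotientGroup.mk' (Cfsg.pPrimeCore q G))) :
    u ∈ Cfsg.pPrimePCore q G := by
  have hF : Cfsg.generalizedFittingSubgroup (G ⧸ Cfsg.pPrimeCore q G) =
      Cfsg.pCore q (G ⧸ Cfsg.pPrimeCore q G) :=
    (generalizedFitting_eq_pCore_iff q).mpr ⟨layer_eq_bot_of_isSolvable, pPrimeCore_quotient_eq_bot q⟩
  rw [mem_pPrimePCore_iff, ← hF]
  apply centralizer_generalizedFittingSubgroup_le
  rw [Subgroup.mem_centralizer_iff]
  intro z hz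
  rw [SetLike.mem_coe, hF] at hz
  obtain ⟨x, rfl⟩ := QuotientGroup.mk'_surjective (Cfsg.pPrimeCore q G) z
  have h1 := hu ((mem_pPrimePCore_iff q x).mpr hz)
  rw [Subgroup.mem_comap, Subgroup.mem_centralizer_singleton_iff] at h1
  exact h1

end PPrimeP

/-! ### `S1288` -/

section S1288

variable [Finite G]

/-- A `p`-group of order at least `p ^ 2` has a subgroup of index `p`. -/
theorem exists_relIndex_eq_prime (p : ℕ) [hp : Fact p.Prime] (A : Subgroup G) (hA : IsPGroup p ↥A)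
    (hA2 : p ^ 2 ≤ Nat.card ↥A) : ∃ B : Subgroup G, B ≤ A ∧ B.relIndex A = p := by
  obtain ⟨m, hm⟩ := IsPGroup.iff_card.mp hA
  have hm1 : 1 ≤ m := by
    by_contra h
    have h0 : m = 0 := by omega
    rw [h0, pow_zero] at hm
    have := hp.out.two_le
    rw [hm] at hA2
    nlinarith
  obtain ⟨B₀, hB₀⟩ := Sylow.exists_subgroup_card_pow_prime (G := ↥A) p (n := m - 1)
    (by rw [hm]; exact pow_dvd_pow p (Nat.sub_le m 1))
  refine ⟨B₀.map A.subtype, Subgroup.map_subtype_le _, ?_⟩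
  have h1 : (B₀.map A.subtype).subgroupOf A = B₀ := by
    ext x
    rw [Subgroup.mem_subgroupOf]
    constructor
    · rintro ⟨y, hy, hyx⟩
      have : y = x := Subtype.ext hyx
      rwa [this] at hy
    · intro hx
      exact Subgroup.mem_map_of_mem _ hx
  show ((B₀.map A.subtype).subgroupOf A).index = p
  rw [h1]
  have h2 := Subgroup.card_mul_index B₀
  rw [hB₀, hm] at h2
  have h3 : p ^ m = p ^ (m - 1) * p := by
    rw [← pow_succ]; congr 1; omega
  rw [h3] at h2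
  exact Nat.eq_of_mul_eq_mul_left (pow_pos hp.out.pos _) h2

/-- A subgroup of index at most `p` in a `p`-group of order at least `p ^ 2` contains a subgroup
of index exactly `p`. -/
theorem exists_le_relIndex_eq_prime (p : ℕ) [hp : Fact p.Prime] (A : Subgroup G)
    (hA : IsPGroup p ↥A) (hA2 : p ^ 2 ≤ Nat.card ↥A) (B : Subgroup G) (hBA : B ≤ A)
    (hB : B.relIndex A ≤ p) : ∃ B' : Subgroup G, B' ≤ B ∧ B' ≤ A ∧ B'.relIndex A = p := by
  obtain ⟨m, hm⟩ := IsPGroup.iff_card.mp hA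
  have h1 : B.relIndex A ∣ p ^ m := by rw [← hm]; exact Subgroup.relIndex_dvd_card B A
  obtain ⟨j, -, hj⟩ := (Nat.dvd_prime_pow hp.out).mp h1
  rcases Nat.lt_or_ge j 1 with hj0 | hj1
  · have h0 : j = 0 := by omega
    rw [h0, pow_zero, Subgroup.relIndex_eq_one] at hj
    obtain ⟨B', hB'A, hB'⟩ := exists_relIndex_eq_prime p A hA hA2
    exact ⟨B', hB'A.trans hj, hB'A, hB'⟩
  · have h2 : j = 1 := by
      by_contra hne
      have h3 : 2 ≤ j := by omega
      have h4 : p ^ 2 ≤ p ^ j := Nat.pow_le_pow_right hp.out.pos h3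
      rw [← hj] at h4
      have := hp.out.two_le
      nlinarith
    rw [h2, pow_one] at hj
    exact ⟨B, le_rfl, hBA, hj⟩

theorem signalizer_le_pPrimeCore (p : ℕ) [hp : Fact p.Prime] (A K : Subgroup G)
    (hA : Cfsg.IsElementaryAbelian p A) (hA2 : p ^ 2 ≤ Nat.card ↥A) (hK : ¬ p ∣ Nat.card ↥K)
    (hKs : Group.IsSolvable ↥K) (hAK : A ≤ Subgroup.normalizer (K : Set G)) (q : ℕ)
    [hq : Fact q.Prime] (U : Subgroup G) (hU : U ≤ K) (hUq : ¬ q ∣ Nat.card ↥U)
    (hcomm : ∀ B : Subgroup G, B ≤ A → B.relIndex A = p →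
      ¬ q ∣ Nat.card ↥⁅U, K ⊓ Subgroup.centralizer (B : Set G)⁆) :
    U ≤ (Cfsg.pPrimeCore q ↥K).map K.subtype := by
  have hAc : ∀ a ∈ A, ∀ b ∈ A, a * b = b * a := by
    intro a ha b hb
    have := hA.1
    exact congrArg Subtype.val (mul_comm' (⟨a, ha⟩ : A) ⟨b, hb⟩)
  have hAp : ∀ a ∈ A, a ^ p = 1 := hA.2
  have hApg : IsPGroup p ↥A := by
    rintro ⟨a, ha⟩
    exact ⟨1, Subtype.ext (by simpa using hA.2 a ha)⟩
  -- `Q = O_{q',q}(K)` is `A`-invariant and generated by the `C_Q(B)`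
  have hAQ : A ≤ normalizer (((Cfsg.pPrimePCore q ↥K).map K.subtype : Subgroup G) : Set G) :=
    hAK.trans (normalizer_le_normalizer_map_subtype_of_characteristic K _)
  have hQK : (Cfsg.pPrimePCore q ↥K).map K.subtype ≤ K := Subgroup.map_subtype_le _
  have hQp : ¬ p ∣ Nat.card ↥((Cfsg.pPrimePCore q ↥K).map K.subtype) := fun h =>
    hK (h.trans (Subgroup.card_dvd_of_le hQK))
  have hgen := Cfsg.Agent.Lib.helper37.coprime_gen_hyperplane p A
    ((Cfsg.pPrimePCore q ↥K).map K.subtype) hAc hAp hQp hAQ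
  intro u hu
  have huK : u ∈ K := hU hu
  -- the key claim: `Q` centralizes `u` modulo `O_{q'}(K)`
  have hkey : Cfsg.pPrimePCore q ↥K ≤
      (centralizer ({QuotientGroup.mk' (Cfsg.pPrimeCore q ↥K) ⟨u, huK⟩} :
        Set (↥K ⧸ Cfsg.pPrimeCore q ↥K))).comap (QuotientGroup.mk' (Cfsg.pPrimeCore q ↥K)) := by
    rw [← Subgroup.map_le_map_iff_of_injective K.subtype_injective, hgen]
    apply iSup_le
    rintro ⟨B, hBA, hBi⟩
    obtain ⟨B', hB'B, hB'A, hB'i⟩ := exists_le_relIndex_eq_prime p A hApg hA2 B hBA hBi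
    intro x hx
    obtain ⟨hxQ, hxC⟩ := Subgroup.mem_inf.mp hx
    obtain ⟨x', hx', rfl⟩ := hxQ
    refine ⟨x', ?_, rfl⟩
    rw [SetLike.mem_coe, Subgroup.mem_comap, Subgroup.mem_centralizer_singleton_iff]
    -- the commutator `⁅u, x'⁆` lies in `O_{q'}(K)`
    have hcomQ : ⁅(⟨u, huK⟩ : ↥K), x'⁆ ∈ Cfsg.pPrimePCore q ↥K := by
      rw [commutatorElement_def]
      exact mul_mem (Subgroup.Normal.conj_mem inferInstance x' hx' _) (inv_mem hx')
    have hcomU : ⁅u, (x' : G)⁆ ∈ ⁅U, K ⊓ centralizer (B' : Set G)⁆ := by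
      apply Subgroup.commutator_mem_commutator hu
      refine Subgroup.mem_inf.mpr ⟨x'.2, ?_⟩
      exact Subgroup.centralizer_le (show (B' : Set G) ⊆ (B : Set G) from hB'B) hxC
    have hord : (orderOf ⁅(⟨u, huK⟩ : ↥K), x'⁆).Coprime q := by
      have h1 : orderOf ⁅(⟨u, huK⟩ : ↥K), x'⁆ = orderOf ⁅u, (x' : G)⁆ := by
        rw [← Subgroup.orderOf_coe]
        rfl
      rw [h1]
      have h2 := Subgroup.orderOf_dvd_natCard _ hcomU
      exact Nat.Coprime.coprime_dvd_left h2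
        ((Nat.Prime.coprime_iff_not_dvd hq.out).mpr (hcomm B' hB'A hB'i)).symm
    have hO := mem_pPrimeCore_of_mem_pPrimePCore q hcomQ hord
    rw [← QuotientGroup.eq_one_iff, ← QuotientGroup.mk'_apply, map_commutatorElement,
      commutatorElement_eq_one_iff_mul_comm] at hO
    exact hO.symm
  have huQ := mem_pPrimePCore_of_centralizes q hkey
  have huo : (orderOf (⟨u, huK⟩ : ↥K)).Coprime q := by
    rw [← Subgroup.orderOf_coe]
    have h2 : orderOf u ∣ Nat.card ↥U := Subgroup.orderOf_dvd_natCard _ hu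
    exact Nat.Coprime.coprime_dvd_left h2 ((Nat.Prime.coprime_iff_not_dvd hq.out).mpr hUq).symm
  exact ⟨⟨u, huK⟩, mem_pPrimeCore_of_mem_pPrimePCore q huQ huo, rfl⟩

end S1288

end Cfsg.Agent.Lib.helper27
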