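import Mathlib
import Cfsg.Agent.Lib.helper71.BGRegNA
import Cfsg.Agent.S1408
import Cfsg.Agent.S1414
import Cfsg.Agent.Lib.helper97.BGEight1
import Cfsg.Agent.Lib.helper97.BGSeven1
import Cfsg.Agent.Lib.helper1.Coprime
import Cfsg.Agent.Lib.helper8.BGTwelve
import Cfsg.Agent.Lib.helper71.BGTenA
import Cfsg.Agent.Lib.helper25.BGSigma

/-!
# S1430 (NA), piece N6: a `P`-invariant Sylow `r`-subgroup of `G` containing `A`
-/

set_option autoImplicit false
open Cfsg

namespace Cfsg.Agent.Lib.helper27.BGNA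

open Cfsg.Agent.Lib.helper8 Cfsg.Agent.Lib.helper97

variable {G : Type*} [Group G]

/-- a subgroup whose order is coprime to the index of a normal subgroup lies in it -/
theorem na6_le_of_coprime_index {X : Type*} [Group X] [Finite X] (N Q : Subgroup X) [N.Normal]
    (h : (Nat.card Q).Coprime N.index) : Q ≤ N := by
  intro x hx
  have h0 : x ^ Nat.card Q = 1 := by
    have h00 : ((⟨x, hx⟩ : ↥Q) ^ Nat.card Q : ↥Q) = 1 := pow_card_eq_one'
    have h01 := congrArg Subtype.val h00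
    rw [Subgroup.coe_pow] at h01
    exact h01
  have h1 : (QuotientGroup.mk x : X ⧸ N) ^ Nat.card Q = 1 := by
    rw [← QuotientGroup.mk_pow, h0]
    rfl
  have h2 : (QuotientGroup.mk x : X ⧸ N) ^ N.index = 1 := by
    rw [Subgroup.index_eq_card]
    exact pow_card_eq_one'
  have h3 : orderOf (QuotientGroup.mk x : X ⧸ N) ∣ 1 := by
    have h4 := Nat.dvd_gcd (orderOf_dvd_of_pow_eq_one h1) (orderOf_dvd_of_pow_eq_one h2)
    rwa [Nat.Coprime.gcd_eq_one h] at h4
  have h5 : (QuotientGroup.mk x : X ⧸ N) = 1 := orderOf_eq_one_iff.mp (Nat.dvd_one.mp h3)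
  exact (QuotientGroup.eq_one_iff x).mp h5

/-- a `p`-subgroup whose index is prime to `p` is a Sylow `p`-subgroup -/
theorem na6_sylow_of_index [Finite G] {p : ℕ} [Fact p.Prime] (Q : Subgroup G)
    (hQ : IsPGroup p Q) (hidx : ¬ p ∣ Q.index) : ∃ S : Sylow p G, (S : Subgroup G) = Q := by
  obtain ⟨S, hS⟩ := hQ.exists_le_sylow
  refine ⟨S, le_antisymm ?_ hS⟩
  have h1 : Q.relIndex S * (S : Subgroup G).index = Q.index := Subgroup.relIndex_mul_index hS
  have h2 : Q.relIndex S ∣ Nat.card (S : Subgroup G) := Subgroup.index_dvd_card _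
  obtain ⟨n, hn⟩ := IsPGroup.iff_card.mp S.isPGroup'
  rw [hn] at h2
  obtain ⟨k, -, hk⟩ := (Nat.dvd_prime_pow Fact.out).mp h2
  have hk0 : k = 0 := by
    by_contra hk0
    apply hidx
    rw [← h1, hk]
    exact Dvd.dvd.mul_right (dvd_pow_self p hk0) _
  rw [hk0, pow_zero] at hk
  exact Subgroup.relIndex_eq_one.mp hk

/-- PIECE N6 (the maximal subgroup `M₁ ≥ N_G(A)`): a `P`-invariant Sylow `r`-subgroup of `G`
containing `A`. -/
theorem na_M1 [Finite G] (hG : IsMinSimpleOddOrder G) (M : Subgroup G) (hM : IsCoatom M)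
    (E : Subgroup G) (hE : IsComplIn E (sigmaCore M) M) (r : ℕ) [Fact r.Prime] (hr : r ∈ tau2 M)
    (A : Subgroup G) (hAE : A ≤ E) (hAe : IsElementaryAbelian r A) (hA2 : Nat.card A = r ^ 2)
    (p : ℕ) (hp : p ∈ tau1 M) (P : Subgroup G) (hPE : P ≤ E) (hP : Nat.card P = p)
    (hAP : ¬ A ≤ Subgroup.centralizer (P : Set G)) :
    ∃ S : Sylow r G, A ≤ (S : Subgroup G) ∧
      P ≤ Subgroup.normalizer ((S : Subgroup G) : Set G) := by
  have hrp : r.Prime := Fact.out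
  have hpp : p.Prime := hp.1
  have : Fact p.Prime := ⟨hpp⟩
  obtain ⟨hodd, hsimple, hna, hsolv⟩ := id hG
  have hU : BGUniqHyp G := fun K hK h1 h2 => Cfsg.Agent.S1403.result hG K hK h1 h2
  have hF : BGFusHyp G := by
    intro M hM p hp X hXp hX1 hXM g hg
    have : Fact p.Prime := ⟨hp.1⟩
    exact (Cfsg.Agent.S1404.result hG M hM p hp X hXp hX1 hXM).1 g hg
  have h17 := bg8_h17 hG
  have hpr : p ≠ r := by
    rintro rfl
    exact hr.2.2.2 hp.2.2.2.2
  -- `E` normalizes `A`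
  have hEA : E ≤ Subgroup.normalizer (A : Set G) :=
    (Cfsg.Agent.S1418.result hG M hM E hE r hr A ⟨hAE, hAe, hA2⟩).1.1
  have hPA : P ≤ Subgroup.normalizer (A : Set G) := hPE.trans hEA
  have hAr : IsPGroup r A := IsPGroup.of_card hA2
  have hPp : IsPGroup p P := IsPGroup.of_card (n := 1) (by rw [hP, pow_one])
  -- a maximal subgroup over `N_G(A)`
  have hAn : Subgroup.normalizer (A : Set G) ≠ ⊤ := by
    intro h
    have hA_normal : A.Normal := Subgroup.normalizer_eq_top_iff.mp h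
    have := hsimple
    rcases hA_normal.eq_bot_or_eq_top with h1 | h1
    · rw [h1, Subgroup.card_bot] at hA2
      have h2 : 1 < r ^ 2 := Nat.one_lt_pow (by norm_num) hrp.one_lt
      omega
    · apply hna
      rw [isMulCommutative_iff]
      intro a b
      have h2 := hAe.1
      rw [isMulCommutative_iff] at h2
      have ha : a ∈ A := by rw [h1]; exact Subgroup.mem_top a
      have hb : b ∈ A := by rw [h1]; exact Subgroup.mem_top b
      exact congrArg Subtype.val (h2 ⟨a, ha⟩ ⟨b, hb⟩)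
  obtain ⟨M1, hM1, hNM1⟩ :=
    (eq_top_or_exists_le_coatom (Subgroup.normalizer (A : Set G))).resolve_left hAn
  have hAM1 : A ≤ M1 := Subgroup.le_normalizer.trans hNM1
  have hPM1 : P ≤ M1 := hPA.trans hNM1
  have hrσ : r ∈ sigma M1 := bg7_mem_sigma_of_normalizer_le hG h17 M1 hM1 r A hAe hA2 hNM1
  have hAσ : A ≤ sigmaCore M1 := bg_pgroup_le_sigmaCore hG hU hF M1 hM1 hrσ A hAM1 hAr
  -- `p ∉ σ(M₁)`
  have hpσ : p ∉ sigma M1 := by
    intro hpσ
    have hPσ : P ≤ sigmaCore M1 := bg_pgroup_le_sigmaCore hG hU hF M1 hM1 hpσ P hPM1 hPp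
    have hnotideal : ¬ IsIdealPrime r G :=
      (Cfsg.Agent.S1408.result hG M hM r hr.2.1 hr.2.2.1 hr.2.2.2).1
    have hrβ : r ∉ beta M1 := fun h => hnotideal h.2
    have hrM1 : r ∣ Nat.card M1 := hrσ.2.1
    obtain ⟨-, ⟨Pr, N, hNn, hNc⟩, -⟩ :=
      (Cfsg.Agent.S1414.result hG M1 hM1).2.2.2.2 r hrp hrM1 hrβ
    have hNidx : N.index = Nat.card (Pr : Subgroup ↥(sigmaCore M1)) := hNc.symm.index_eq_card
    have hNcard : ¬ r ∣ Nat.card N := by
      rw [← hNc.index_eq_card]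
      exact Pr.not_dvd_index
    obtain ⟨n, hn⟩ := IsPGroup.iff_card.mp Pr.isPGroup'
    have hPN : P.subgroupOf (sigmaCore M1) ≤ N := by
      apply na6_le_of_coprime_index
      have hcP : Nat.card ↥(P.subgroupOf (sigmaCore M1)) = p := by
        rw [Nat.card_congr (Subgroup.subgroupOfEquivOfLe hPσ).toEquiv, hP]
      rw [hNidx, hn, hcP]
      exact Nat.Coprime.pow_right n ((Nat.coprime_primes hpp hrp).mpr hpr)
    apply hAP
    intro a ha
    rw [Subgroup.mem_centralizer_iff]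
    intro x hx
    have hxP : x ∈ P := hx
    have hcA : a * x * a⁻¹ * x⁻¹ ∈ A := by
      have h1 : x * a⁻¹ * x⁻¹ ∈ A := by
        have h2 := (Subgroup.mem_normalizer_iff.mp (hPA hxP) a⁻¹).mp (A.inv_mem ha)
        exact h2
      have h3 : a * x * a⁻¹ * x⁻¹ = a * (x * a⁻¹ * x⁻¹) := by group
      rw [h3]
      exact A.mul_mem ha h1
    have hcN : (⟨a * x * a⁻¹ * x⁻¹, hAσ hcA⟩ : ↥(sigmaCore M1)) ∈ N := by
      have hx' : (⟨x, hPσ hxP⟩ : ↥(sigmaCore M1)) ∈ N := hPN (Subgroup.mem_subgroupOf.mpr hxP)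
      have h1 := hNn.conj_mem _ hx' (⟨a, hAσ ha⟩ : ↥(sigmaCore M1))
      have h2 := N.mul_mem h1 (N.inv_mem hx')
      have h3 : (⟨a * x * a⁻¹ * x⁻¹, hAσ hcA⟩ : ↥(sigmaCore M1))
          = (⟨a, hAσ ha⟩ : ↥(sigmaCore M1)) * ⟨x, hPσ hxP⟩ * (⟨a, hAσ ha⟩ : ↥(sigmaCore M1))⁻¹
            * (⟨x, hPσ hxP⟩ : ↥(sigmaCore M1))⁻¹ := by
        apply Subtype.ext
        simp
      rw [h3]
      exact h2
    have hc1 : (⟨a * x * a⁻¹ * x⁻¹, hAσ hcA⟩ : ↥(sigmaCore M1)) = 1 := by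
      have h1 : (⟨a * x * a⁻¹ * x⁻¹, hAσ hcA⟩ : ↥(sigmaCore M1)) ^ r = 1 := by
        apply Subtype.ext
        simpa using hAe.2 _ hcA
      have h2 : (⟨a * x * a⁻¹ * x⁻¹, hAσ hcA⟩ : ↥(sigmaCore M1)) ^ Nat.card N = 1 := by
        have h3 : ((⟨_, hcN⟩ : ↥N) ^ Nat.card N : ↥N) = 1 := pow_card_eq_one'
        have h3' := congrArg Subtype.val h3
        rw [Subgroup.coe_pow] at h3'
        exact h3'
      have h4 := Nat.dvd_gcd (orderOf_dvd_of_pow_eq_one h1) (orderOf_dvd_of_pow_eq_one h2)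
      have h5 : Nat.gcd r (Nat.card N) = 1 := (Nat.Prime.coprime_iff_not_dvd hrp).mpr hNcard
      rw [h5] at h4
      exact orderOf_eq_one_iff.mp (Nat.dvd_one.mp h4)
    have hc2 : a * x * a⁻¹ * x⁻¹ = 1 := congrArg Subtype.val hc1
    calc x * a = (a * x * a⁻¹ * x⁻¹)⁻¹ * (a * x) := by group
      _ = a * x := by rw [hc2]; group
  -- a `P`-invariant Sylow `r`-subgroup of `(M₁)_σ` over `A`
  have hcop : (Nat.card P).Coprime (Nat.card (sigmaCore M1)) := by
    rw [hP]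
    exact (bg_sigmaCore_card_coprime M1 hpp hpσ).symm
  have hPn : P ≤ Subgroup.normalizer ((sigmaCore M1 : Subgroup G) : Set G) :=
    hPM1.trans (Cfsg.Agent.Lib.helper71.BGA.le_normalizer_sigmaCore M1)
  obtain ⟨S₀, hAS, hPS⟩ := Cfsg.Agent.Lib.helper1.exists_invariant_sylow_ge (p := r) P
    (sigmaCore M1) hPn hcop (Or.inl (bg8_solvable hG M1 hM1 P hPM1)) A hAσ hAr hPA
  -- it is a Sylow subgroup of `G`
  have hS₁p : IsPGroup r ((S₀ : Subgroup ↥(sigmaCore M1)).map (sigmaCore M1).subtype) :=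
    S₀.isPGroup'.map _
  have hidx : ¬ r ∣ ((S₀ : Subgroup ↥(sigmaCore M1)).map (sigmaCore M1).subtype).index := by
    rw [Subgroup.index_map_subtype]
    have h1 : ¬ r ∣ (S₀ : Subgroup ↥(sigmaCore M1)).index := S₀.not_dvd_index
    have h2 : ¬ r ∣ (sigmaCore M1).index := by
      have h3 : (sigmaCore M1).index = (piCore (sigma M1) ↥M1).index * M1.index := by
        unfold sigmaCore
        exact Subgroup.index_map_subtype _
      rw [h3]
      intro h4
      rcases (Nat.Prime.dvd_mul hrp).mp h4 with h5 | h5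
      · exact Cfsg.Agent.Lib.helper25.BGS.sigma_core_not_dvd_index hG hU hF M1 hM1 hrσ h5
      · exact bg_sigma_not_dvd_index M1 hrσ h5
    intro h4
    rcases (Nat.Prime.dvd_mul hrp).mp h4 with h5 | h5
    · exact h1 h5
    · exact h2 h5
  obtain ⟨S, hS⟩ := na6_sylow_of_index _ hS₁p hidx
  refine ⟨S, ?_, ?_⟩
  · rw [hS]; exact hAS
  · rw [hS]; exact hPS

end Cfsg.Agent.Lib.helper27.BGNA
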