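import Mathlib
import Cfsg.Agent.Lib.helper71.BGRegNA
import Cfsg.Agent.Lib.helper97.BGEight1
import Cfsg.Agent.Lib.helper8.BGTwelve
import Cfsg.Agent.Lib.helper8.BGTen5
import Cfsg.Agent.Lib.helper71.BGTenA
import Cfsg.Agent.Lib.helper60.BGTau2Ab
import Cfsg.Agent.Lib.helper30.RankTwoC

/-!
# S1430 (NA), piece N4: `M` centralizes `R = A ⊓ C_G(M_σ)`
-/

set_option autoImplicit false
open Cfsg

namespace Cfsg.Agent.Lib.helper27.BGNA

open Cfsg.Agent.Lib.helper8 Cfsg.Agent.Lib.helper97

variable {G : Type*} [Group G]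

theorem na4_cyclic_comm {X : Type*} [Group X] (h : IsCyclic X) (a b : X) : a * b = b * a := by
  obtain ⟨g, hg⟩ := h.exists_generator
  obtain ⟨i, hi⟩ := Subgroup.mem_zpowers_iff.mp (hg a)
  obtain ⟨j, hj⟩ := Subgroup.mem_zpowers_iff.mp (hg b)
  rw [← hi, ← hj, ← zpow_add, ← zpow_add, add_comm]

/-- PIECE N4 (Claim A: `M` centralizes `R = A ⊓ C_G(M_σ)`). -/
theorem na_cent [Finite G] (hG : IsMinSimpleOddOrder G) (M : Subgroup G) (hM : IsCoatom M)
    (E : Subgroup G) (hE : IsComplIn E (sigmaCore M) M) (r : ℕ) [Fact r.Prime] (hr : r ∈ tau2 M)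
    (hS : ∀ S : Sylow r G, ¬ IsMulCommutative (S : Subgroup G))
    (A : Subgroup G) (hAE : A ≤ E) (hAe : IsElementaryAbelian r A) (hA2 : Nat.card A = r ^ 2)
    (p : ℕ) (hp : p ∈ tau1 M) (P : Subgroup G) (hPE : P ≤ E) (hP : Nat.card P = p)
    (hRP : A ⊓ Subgroup.centralizer (sigmaCore M : Set G) ≤ Subgroup.centralizer (P : Set G))
    (hR : Nat.card ↥(A ⊓ Subgroup.centralizer (sigmaCore M : Set G)) = r)
    (hRM : M ≤ Subgroup.normalizer
      ((A ⊓ Subgroup.centralizer (sigmaCore M : Set G) : Subgroup G) : Set G))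
    (h1 : ∀ s ∈ tau1 M, s = p)
    (H : Subgroup G) (hH : IsCoatom H) (hNP : Subgroup.normalizer (P : Set G) ≤ H)
    (hrH : r ∉ sigma H) (hpH : p ∈ sigma H) :
    M ≤ Subgroup.centralizer ((A ⊓ Subgroup.centralizer (sigmaCore M : Set G) : Subgroup G) : Set G) := by
  have hrp : r.Prime := Fact.out
  have hpp : p.Prime := hp.1
  obtain ⟨hodd, hsimple, hna, hsolv⟩ := id hG
  have hU : BGUniqHyp G := fun K hK h1 h2 => Cfsg.Agent.S1403.result hG K hK h1 h2
  have hF : BGFusHyp G := by
    intro M hM p hp X hXp hX1 hXM g hg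
    have : Fact p.Prime := ⟨hp.1⟩
    exact (Cfsg.Agent.S1404.result hG M hM p hp X hXp hX1 hXM).1 g hg
  have hτ2 : tau2 M = {r} :=
    (Cfsg.Agent.S1419.result hG M hM E hE r hr hS A ⟨hAE, hAe, hA2⟩).1
  obtain ⟨R, hRdef⟩ : ∃ R : Subgroup G,
      R = A ⊓ Subgroup.centralizer (sigmaCore M : Set G) := ⟨_, rfl⟩
  rw [← hRdef] at hRP hR hRM ⊢
  have hRA : R ≤ A := by rw [hRdef]; exact inf_le_left
  have hRσ : R ≤ Subgroup.centralizer (sigmaCore M : Set G) := by rw [hRdef]; exact inf_le_right
  have hRcyc : IsCyclic R := isCyclic_of_prime_card hR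
  have hcomm : ⁅M, M⁆ ≤ Subgroup.centralizer (R : Set G) :=
    Cfsg.Agent.Lib.helper60.BGTau2Ab.commutator_le_centralizer_of_cyclic hRcyc hRM
  have hPM : P ≤ M := hPE.trans hE.1
  have key : ∀ q : ℕ, q.Prime → q ∣ Nat.card M →
      ∃ Q₁ : Sylow q ↥M, (Q₁ : Subgroup ↥M).map M.subtype ≤ Subgroup.centralizer (R : Set G) := by
    intro q hq hqM
    have : Fact q.Prime := ⟨hq⟩
    by_cases hqσ : q ∈ sigma M
    · obtain ⟨Q₁⟩ : Nonempty (Sylow q ↥M) := inferInstance
      refine ⟨Q₁, ?_⟩
      have h2 : (Q₁ : Subgroup ↥M).map M.subtype ≤ sigmaCore M :=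
        bg_pgroup_le_sigmaCore hG hU hF M hM hqσ _ (Subgroup.map_subtype_le _)
          (Q₁.isPGroup'.map _)
      intro y hy
      rw [Subgroup.mem_centralizer_iff]
      intro x hx
      exact (Subgroup.mem_centralizer_iff.mp (hRσ hx) y (h2 hy)).symm
    · by_cases hqr : q = r
      · obtain ⟨Q₁⟩ : Nonempty (Sylow q ↥M) := inferInstance
        refine ⟨Q₁, ?_⟩
        intro y hy
        have hyM : y ∈ M := Subgroup.map_subtype_le _ hy
        obtain ⟨j, hj⟩ := (Q₁.isPGroup'.map M.subtype) ⟨y, hy⟩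
        have hj' : y ^ q ^ j = 1 := congrArg Subtype.val hj
        rw [hqr] at hj'
        have hcop1 : Nat.Coprime r (r - 1) := by
          rw [Nat.Prime.coprime_iff_not_dvd hrp]
          intro h
          have h3 := Nat.le_of_dvd (by have := hrp.two_le; omega) h
          have := hrp.two_le
          omega
        have hcop : (r ^ j).Coprime (r - 1) := Nat.Coprime.pow_left j hcop1
        have hbn : y ∈ Subgroup.normalizer (((⊥ : Subgroup G) : Subgroup G) : Set G) := by
          rw [Subgroup.mem_normalizer_iff]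
          intro h
          simp
        have h3 := Cfsg.Agent.Lib.helper30.section_trivial_of_card_dvd_prime r (r ^ j) hcop R ⊥
          bot_le (fun x _ => by
            rw [Subgroup.mem_normalizer_iff]
            intro h
            simp)
          (by rw [Subgroup.relIndex_bot_left, hR]) y (hRM hyM) hbn hj'
        rw [Subgroup.mem_centralizer_iff]
        intro x hx
        have h4 := h3 x hx
        rw [Subgroup.mem_bot] at h4
        calc x * y = (y * x * y⁻¹ * x⁻¹)⁻¹ * (y * x) := by group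
          _ = y * x := by rw [h4]; group
      · have hr2 : PRankLE q 2 M := by
          by_contra h
          exact hqσ (bg_alpha_sub_sigma hG hU M hM ⟨hq, h⟩)
        have hr1 : PRankLE q 1 M := by
          by_contra h
          have h2 : q ∈ tau2 M := ⟨hq, hqσ, hr2, h⟩
          rw [hτ2] at h2
          exact hqr h2
        by_cases hqd : q ∣ Nat.card ↥⁅M, M⁆
        · obtain ⟨Q₁⟩ : Nonempty (Sylow q ↥M) := inferInstance
          refine ⟨Q₁, ?_⟩
          have hd' : q ∣ Nat.card ↥(commutator ↥M) := by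
            have h3 : Nat.card ↥⁅M, M⁆ = Nat.card ↥(commutator ↥M) := by
              rw [← Subgroup.map_subtype_commutator]
              exact Subgroup.card_map_of_injective M.subtype_injective
            rwa [h3] at hqd
          have h2 := bg_pgroup_le_comm (E := M)
            (fun P' => bg_sylow_cyclic_of_prank_one hodd (le_refl M) q hr1 P') hd' _
            (Subgroup.map_subtype_le _) (Q₁.isPGroup'.map _)
          exact h2.trans hcomm
        · have hq1 : q ∈ tau1 M := ⟨hq, hqσ, hqM, hqd, hr1⟩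
          have hqp := h1 q hq1
          subst hqp
          have hPp : IsPGroup q (P.subgroupOf M) := by
            apply IsPGroup.of_card (n := 1)
            rw [Nat.card_congr (Subgroup.subgroupOfEquivOfLe hPM).toEquiv, hP, pow_one]
          obtain ⟨Q₁, hQ₁⟩ := hPp.exists_le_sylow
          refine ⟨Q₁, ?_⟩
          have hcyc : IsCyclic Q₁ := bg_sylow_cyclic_of_prank_one hodd (le_refl M) q hr1 Q₁
          have hQM : (Q₁ : Subgroup ↥M).map M.subtype ≤ M := Subgroup.map_subtype_le _
          have hQp : IsPGroup q ((Q₁ : Subgroup ↥M).map M.subtype) := Q₁.isPGroup'.map _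
          have hPQ : P ≤ (Q₁ : Subgroup ↥M).map M.subtype := by
            intro x hx
            exact ⟨⟨x, hPM hx⟩, hQ₁ (Subgroup.mem_subgroupOf.mpr hx), rfl⟩
          have hQab : ∀ a ∈ (Q₁ : Subgroup ↥M).map M.subtype,
              ∀ b ∈ (Q₁ : Subgroup ↥M).map M.subtype, a * b = b * a := by
            rintro a ⟨a', ha', rfl⟩ b ⟨b', hb', rfl⟩
            have h5 := na4_cyclic_comm hcyc ⟨a', ha'⟩ ⟨b', hb'⟩
            have h6 := congrArg (fun z : ↥(Q₁ : Subgroup ↥M) => ((z : ↥M) : G)) h5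
            exact h6
          have hQP : (Q₁ : Subgroup ↥M).map M.subtype ≤ Subgroup.centralizer (P : Set G) := by
            intro y hy
            rw [Subgroup.mem_centralizer_iff]
            intro x hx
            exact hQab x (hPQ hx) y hy
          have hCN : Subgroup.centralizer (P : Set G) ≤ H :=
            (Subgroup.centralizer_le_normalizer (P : Set G)).trans hNP
          have hQH : (Q₁ : Subgroup ↥M).map M.subtype ≤ H := hQP.trans hCN
          have hQσ : (Q₁ : Subgroup ↥M).map M.subtype ≤ sigmaCore H :=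
            bg_pgroup_le_sigmaCore hG hU hF H hH hpH _ hQH hQp
          have hRH : R ≤ H := hRP.trans hCN
          intro y hy
          rw [Subgroup.mem_centralizer_iff]
          intro x hx
          have hyM : y ∈ M := hQM hy
          have hcR : y * x * y⁻¹ * x⁻¹ ∈ R :=
            R.mul_mem ((Subgroup.mem_normalizer_iff.mp (hRM hyM) x).mp hx) (R.inv_mem hx)
          have hcσ : y * x * y⁻¹ * x⁻¹ ∈ sigmaCore H := by
            have hn := Cfsg.Agent.Lib.helper71.BGA.le_normalizer_sigmaCore H (hRH hx)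
            have h6 : x * y⁻¹ * x⁻¹ ∈ sigmaCore H :=
              (Subgroup.mem_normalizer_iff.mp hn y⁻¹).mp ((sigmaCore H).inv_mem (hQσ hy))
            have h7 : y * x * y⁻¹ * x⁻¹ = y * (x * y⁻¹ * x⁻¹) := by group
            rw [h7]
            exact (sigmaCore H).mul_mem (hQσ hy) h6
          have hc1 : y * x * y⁻¹ * x⁻¹ = 1 := by
            have e1 : (y * x * y⁻¹ * x⁻¹) ^ r = 1 := hAe.2 _ (hRA hcR)
            have e2 : (y * x * y⁻¹ * x⁻¹) ^ Nat.card (sigmaCore H) = 1 := by
              have e3 : ((⟨_, hcσ⟩ : ↥(sigmaCore H)) ^ Nat.card (sigmaCore H) : ↥(sigmaCore H)) = 1 :=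
                pow_card_eq_one'
              have e3' := congrArg Subtype.val e3
              rw [Subgroup.coe_pow] at e3'
              exact e3'
            have hcop := bg_sigmaCore_card_coprime H hrp hrH
            have h8 := Nat.dvd_gcd (orderOf_dvd_of_pow_eq_one e2) (orderOf_dvd_of_pow_eq_one e1)
            rw [Nat.Coprime.gcd_eq_one hcop] at h8
            exact orderOf_eq_one_iff.mp (Nat.dvd_one.mp h8)
          calc x * y = (y * x * y⁻¹ * x⁻¹)⁻¹ * (y * x) := by group
            _ = y * x := by rw [hc1]; group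
  rw [← Subgroup.relIndex_eq_one]
  by_contra hne
  obtain ⟨q, hq, hqd⟩ := Nat.exists_prime_and_dvd hne
  have : Fact q.Prime := ⟨hq⟩
  have hqM : q ∣ Nat.card M := hqd.trans (Subgroup.index_dvd_card _)
  obtain ⟨Q₁, hQ₁⟩ := key q hq hqM
  have h2 : (Q₁ : Subgroup ↥M) ≤ (Subgroup.centralizer (R : Set G)).subgroupOf M :=
    fun x hx => Subgroup.mem_subgroupOf.mpr (hQ₁ ⟨x, hx, rfl⟩)
  exact Q₁.not_dvd_index (hqd.trans (Subgroup.index_dvd_of_le h2))

end Cfsg.Agent.Lib.helper27.BGNA
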