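import Mathlib
import Cfsg.Agent.S1350
import Cfsg.Agent.S1403
import Cfsg.Agent.S1417
import Cfsg.Agent.Lib.helper69.BGKappaA
import Cfsg.Agent.Lib.helper12.FrobFixB
import Cfsg.Agent.Lib.helper8.BGTen4
import Cfsg.Agent.Lib.helper8.BGTen5
import Cfsg.Agent.Lib.helper8.BGTwelve
import Cfsg.Agent.Lib.helper97.BGEight1

/-!
# A Hall `κ(M)`-subgroup has prime order as soon as `M` has a prime outside `σ(M) ∪ κ(M)`

(First conjunct of Bender–Glauberman Theorem 15.2 / frozen S1372, proved from the frozen S1430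
taken as the hypothesis `helper69.H1430`.)

Let `K ≠ 1` be a Hall `κ(M)`-subgroup of the maximal subgroup `M` and `r` a prime divisor of `|M|`
outside `σ(M) ∪ κ(M)`.  S1430 gives an abelian `K`-invariant Hall subgroup `U` for the primes outside
`σ(M) ∪ κ(M)` on which `K` acts regularly, and `C_{M_σ}(k) = C_{M_σ}(K)` for all `k ∈ K#`.
`A := Ω₁(O_r(U))` is a nontrivial `K`-invariant elementary abelian `r`-group with `C_{M_σ}(A) = 1`
(cyclic Sylow `r`-subgroups: the definition of `r ∉ κ(M)`; otherwise `r ∈ τ₂(M)` and S1417(d)).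
The Frobenius–Wielandt fixed point formula for the Frobenius group `A K₀` (`1 ≠ K₀ ≤ K`) acting on
`M_σ` gives `|M_σ| = |C_{M_σ}(K)| ^ |K₀|`; as `M_σ ≠ 1` this forces `|K₀| = |K|`: `|K|` is prime.
-/

set_option autoImplicit false

namespace Cfsg.Agent.Lib.helper27.BGKP

open Cfsg Subgroup Cfsg.Agent.Lib.helper8

variable {G : Type*} [Group G]

/-- The elements of order dividing `r` of a commutative subgroup. -/
def omegaSub (U : Subgroup G) (hU : IsMulCommutative U) (r : ℕ) : Subgroup G where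
  carrier := {u | u ∈ U ∧ u ^ r = 1}
  mul_mem' := by
    rintro a b ⟨ha, ha'⟩ ⟨hb, hb'⟩
    refine ⟨U.mul_mem ha hb, ?_⟩
    have hc : Commute a b := congrArg Subtype.val (hU.is_comm.comm ⟨a, ha⟩ ⟨b, hb⟩)
    rw [hc.mul_pow, ha', hb', one_mul]
  one_mem' := ⟨U.one_mem, one_pow _⟩
  inv_mem' := by
    rintro a ⟨ha, ha'⟩
    exact ⟨U.inv_mem ha, by rw [inv_pow, ha', inv_one]⟩

theorem mem_omegaSub {U : Subgroup G} {hU : IsMulCommutative U} {r : ℕ} {u : G} :
    u ∈ omegaSub U hU r ↔ u ∈ U ∧ u ^ r = 1 := Iff.rfl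

/-- `M_σ ≠ 1` when `κ(M)` is nonempty. -/
theorem sigmaCore_ne_bot_of_kappa [Finite G] (M : Subgroup G) {q : ℕ} (hq : q ∈ kappa M) :
    sigmaCore M ≠ ⊥ := by
  obtain ⟨hqp, -, -, hall⟩ := hq
  have : Fact q.Prime := ⟨hqp⟩
  obtain ⟨P⟩ : Nonempty (Sylow q M) := inferInstance
  obtain ⟨-, x, -, -, y, hyσ, hy1, -⟩ := hall P
  intro h
  rw [h, Subgroup.mem_bot] at hyσ
  exact hy1 hyσ

/-- **Lemma P (core form).** -/
theorem kappa_card_prime_of_prime [Finite G] (hG : IsMinSimpleOddOrder G)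
    (h1430 : Cfsg.Agent.Lib.helper69.H1430 G) (M : Subgroup G) (hM : IsCoatom M)
    (K : Subgroup G) (hK : IsPiHallOf (kappa M) K M) (hK1 : K ≠ ⊥)
    (r : ℕ) (hr : r.Prime) (hrM : r ∣ Nat.card M) (hrσ : r ∉ sigma M) (hrκ : r ∉ kappa M) :
    (Nat.card K).Prime := by
  obtain ⟨hodd, -, -, -⟩ := id hG
  have : Fact r.Prime := ⟨hr⟩
  obtain ⟨hpa, ⟨U, hUc, hUh, hKU, hreg⟩, -⟩ := h1430 M hM K hK hK1
  -- `r` divides `|U|`
  have hrU : r ∣ Nat.card U := by
    have e := Cfsg.Agent.Lib.helper69.bgk_card_mul_relIndex hUh.1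
    rw [← e] at hrM
    rcases (Nat.Prime.dvd_mul hr).mp hrM with h | h
    · exact h
    · exact absurd h (hUh.2.2 r hr ⟨hr, hrκ, hrσ⟩)
  -- the subgroup `A`
  obtain ⟨A, hA⟩ : ∃ A : Subgroup G, A = omegaSub U hUc r := ⟨_, rfl⟩
  have hAmem : ∀ u : G, u ∈ A ↔ u ∈ U ∧ u ^ r = 1 := fun u => by rw [hA]; exact Iff.rfl
  have hAU : A ≤ U := fun a ha => ((hAmem a).mp ha).1
  have hAM : A ≤ M := hAU.trans hUh.1
  have hA1 : A ≠ ⊥ := by
    obtain ⟨u, hu⟩ := exists_prime_orderOf_dvd_card' r hrU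
    intro h
    have hmem : (u : G) ∈ A := by
      rw [hAmem]
      refine ⟨u.2, ?_⟩
      have h1 := pow_orderOf_eq_one u
      rw [hu] at h1
      have h2 := congrArg Subtype.val h1
      rwa [Subgroup.coe_pow] at h2
    rw [h, Subgroup.mem_bot] at hmem
    have h3 : u = 1 := Subtype.ext hmem
    rw [h3, orderOf_one] at hu
    exact hr.one_lt.ne hu
  have hKA : ∀ k ∈ K, ∀ a ∈ A, k * a * k⁻¹ ∈ A := by
    intro k hk a ha
    rw [hAmem] at ha ⊢
    refine ⟨Subgroup.le_normalizer_iff.mp hKU k hk a ha.1, ?_⟩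
    rw [conj_pow, ha.2, mul_one, mul_inv_cancel]
  have hMσn : ∀ m ∈ M, ∀ y ∈ sigmaCore M, m * y * m⁻¹ ∈ sigmaCore M :=
    Subgroup.le_normalizer_iff.mp (Cfsg.Agent.Lib.helper71.BGA.le_normalizer_sigmaCore M)
  -- `C_{M_σ}(A) = 1`
  have hCA : sigmaCore M ⊓ centralizer (A : Set G) = ⊥ := by
    rw [eq_bot_iff]
    intro y hy
    rw [Subgroup.mem_bot]
    by_contra hy1
    obtain ⟨hyσ, hyc⟩ := Subgroup.mem_inf.mp hy
    by_cases hr1 : PRankLE r 1 M
    · apply hrκ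
      refine ⟨hr, hrM, hrσ, fun P =>
        ⟨bg_sylow_cyclic_of_prank_one hodd (le_refl M) r hr1 P, ?_⟩⟩
      obtain ⟨⟨a, haA'⟩, ha1⟩ := (Subgroup.ne_bot_iff_exists_ne_one.mp hA1)
      have ha1' : a ≠ 1 := fun h => ha1 (Subtype.ext h)
      have haM : a ∈ M := hAM haA'
      have hapow : a ^ r = 1 := ((hAmem a).mp haA').2
      have hzp : IsPGroup r (Subgroup.zpowers (⟨a, haM⟩ : M)) := by
        apply IsPGroup.of_card (n := 1)
        rw [Nat.card_zpowers, pow_one]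
        exact orderOf_eq_prime (Subtype.ext (by rw [Subgroup.coe_pow]; exact hapow))
          (fun h => ha1' (congrArg Subtype.val h))
      obtain ⟨Q, hQ⟩ := hzp.exists_le_sylow
      obtain ⟨g, hg⟩ := MulAction.exists_smul_eq M Q P
      refine ⟨g * ⟨a, haM⟩ * g⁻¹, ?_, ?_, (g : G) * y * (g : G)⁻¹, hMσn g g.2 y hyσ, ?_, ?_⟩
      · rw [← hg, Cfsg.Agent.Lib.helper69.bg1210_mem_smul_sylow]
        have h1 : g⁻¹ * (g * ⟨a, haM⟩ * g⁻¹) * g = ⟨a, haM⟩ := by group
        rw [h1]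
        exact hQ (Subgroup.mem_zpowers _)
      · intro h
        apply ha1'
        have h2 : (⟨a, haM⟩ : M) = g⁻¹ * (g * ⟨a, haM⟩ * g⁻¹) * g := by group
        rw [h] at h2
        have h3 : (⟨a, haM⟩ : M) = 1 := by rw [h2]; group
        exact congrArg Subtype.val h3
      · intro h
        apply hy1
        have h2 : y = (g : G)⁻¹ * ((g : G) * y * (g : G)⁻¹) * (g : G) := by group
        rw [h2, h]; group
      · have hc : a * y = y * a := Subgroup.mem_centralizer_iff.mp hyc a haA'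
        show (g : G) * a * (g : G)⁻¹ * ((g : G) * y * (g : G)⁻¹) =
          (g : G) * y * (g : G)⁻¹ * ((g : G) * a * (g : G)⁻¹)
        calc (g : G) * a * (g : G)⁻¹ * ((g : G) * y * (g : G)⁻¹)
            = (g : G) * (a * y) * (g : G)⁻¹ := by group
          _ = (g : G) * (y * a) * (g : G)⁻¹ := by rw [hc]
          _ = (g : G) * y * (g : G)⁻¹ * ((g : G) * a * (g : G)⁻¹) := by group
    · have hU' : BGUniqHyp G := fun K hK h1 h2 => Cfsg.Agent.S1403.result hG K hK h1 h2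
      have hr2 : PRankLE r 2 M := by
        by_contra h
        exact hrσ (bg_alpha_sub_sigma hG hU' M hM ⟨hr, h⟩)
      obtain ⟨B, hBM, hBe, hBc⟩ := bg_exists_elemAb_sq M r hr2 hr1
      have h17 := (Cfsg.Agent.S1417.result hG M hM r ⟨hr, hrσ, hr2, hr1⟩ B
        ⟨hBM, hBe, hBc⟩).2.2.2.1
      have hBp : IsPGroup r B := IsPGroup.of_card hBc
      obtain ⟨g, hgM, hg⟩ := Cfsg.Agent.Lib.helper69.bgk_conj_into_hall hUh (p := r)
        ⟨hr, hrκ, hrσ⟩ hBM hBp
      have hmem : g⁻¹ * y * g ∈ sigmaCore M ⊓ centralizer (B : Set G) := by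
        refine Subgroup.mem_inf.mpr ⟨?_, ?_⟩
        · have h1 := hMσn g⁻¹ (M.inv_mem hgM) y hyσ
          rwa [inv_inv] at h1
        · rw [Subgroup.mem_centralizer_iff]
          intro b hb
          have hbA : g * b * g⁻¹ ∈ A := by
            rw [hAmem]
            exact ⟨hg b hb, by rw [conj_pow, hBe.2 b hb, mul_one, mul_inv_cancel]⟩
          have hc := Subgroup.mem_centralizer_iff.mp hyc _ hbA
          calc b * (g⁻¹ * y * g) = g⁻¹ * ((g * b * g⁻¹) * y) * g := by group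
            _ = g⁻¹ * (y * (g * b * g⁻¹)) * g := by rw [hc]
            _ = g⁻¹ * y * g * b := by group
      rw [h17, Subgroup.mem_bot] at hmem
      apply hy1
      have h2 : y = g * (g⁻¹ * y * g) * g⁻¹ := by group
      rw [h2, hmem]; group
  -- prime action
  have hKstar : ∀ K₀ : Subgroup G, K₀ ≤ K → K₀ ≠ ⊥ →
      sigmaCore M ⊓ centralizer (K₀ : Set G) = sigmaCore M ⊓ centralizer (K : Set G) := by
    intro K₀ hK₀ hK₀1
    apply le_antisymm
    · obtain ⟨⟨k, hk⟩, hk1⟩ := Subgroup.ne_bot_iff_exists_ne_one.mp hK₀1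
      have hk1' : k ≠ 1 := fun h => hk1 (Subtype.ext h)
      rw [← hpa k (hK₀ hk) hk1']
      exact inf_le_inf_left _ (Subgroup.centralizer_le (Set.singleton_subset_iff.mpr hk))
    · exact inf_le_inf_left _ (Subgroup.centralizer_le hK₀)
  have hsolv : Group.IsSolvable (sigmaCore M) :=
    Cfsg.Agent.Lib.helper97.bg8_solvable hG M hM (sigmaCore M)
      (Cfsg.Agent.Lib.helper71.BGA.sigmaCore_le M)
  have hcopK : (Nat.card (sigmaCore M)).Coprime (Nat.card K) := by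
    apply Nat.coprime_of_dvd
    intro q hq h1 h2
    have hqσ : q ∉ sigma M := (hK.2.1 q hq h2).2.2.1
    exact (Nat.Prime.coprime_iff_not_dvd hq).mp (bg_sigmaCore_card_coprime M hq hqσ).symm h1
  obtain ⟨n, hn⟩ : ∃ n : ℕ, Nat.card A = r ^ n := by
    have hAp : IsPGroup r A := by
      intro a
      refine ⟨1, Subtype.ext ?_⟩
      rw [pow_one, Subgroup.coe_pow]
      exact ((hAmem a).mp a.2).2
    exact IsPGroup.iff_card.mp hAp
  -- the fixed point formula
  have hform : ∀ K₀ : Subgroup G, K₀ ≤ K → K₀ ≠ ⊥ →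
      Nat.card (sigmaCore M) =
        Nat.card ↥(sigmaCore M ⊓ centralizer (K : Set G)) ^ Nat.card K₀ := by
    intro K₀ hK₀ hK₀1
    have hUn : ∀ e ∈ K₀, ∀ u ∈ A, e * u * e⁻¹ ∈ A := fun e he u hu => hKA e (hK₀ he) u hu
    have hfpf : ∀ e ∈ K₀, e ≠ 1 → ∀ u ∈ A, e * u = u * e → u = 1 := by
      intro e he he1 u hu hc
      have h1 : u ∈ U ⊓ centralizer ({e} : Set G) := by
        refine Subgroup.mem_inf.mpr ⟨hAU hu, ?_⟩
        rw [Subgroup.mem_centralizer_iff]
        intro x hx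
        rw [Set.mem_singleton_iff.mp hx]
        exact hc
      rw [hreg e (hK₀ he) he1, Subgroup.mem_bot] at h1
      exact h1
    have hAK₀M : A ⊔ K₀ ≤ M := sup_le hAM (hK₀.trans hK.1)
    have hHn : ∀ x ∈ A ⊔ K₀, ∀ h ∈ sigmaCore M, x * h * x⁻¹ ∈ sigmaCore M :=
      fun x hx h hh => hMσn x (hAK₀M hx) h hh
    have hdisj : A ⊓ K₀ = ⊥ := by
      rw [eq_bot_iff]
      intro x hx
      rw [Subgroup.mem_bot]
      by_contra hx1
      obtain ⟨hxA, hxK⟩ := Subgroup.mem_inf.mp hx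
      exact hx1 (hfpf x hxK hx1 x hxA rfl)
    have hcompl : IsComplIn A K₀ (A ⊔ K₀) := by
      refine ⟨le_sup_left, le_sup_right, hdisj, fun m hm => ?_⟩
      have hnorm : K₀ ≤ normalizer (A : Set G) := Subgroup.le_normalizer_iff.mpr hUn
      exact Cfsg.Agent.Lib.helper29.exists_mul_of_mem_sup_of_le_normalizer hnorm hm
    have hcard : Nat.card A * Nat.card K₀ = Nat.card ↥(A ⊔ K₀) :=
      Cfsg.Agent.Lib.helper29.IsComplIn.card_mul hcompl
    have hcop : Nat.Coprime (Nat.card (sigmaCore M)) (Nat.card ↥(A ⊔ K₀)) := by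
      rw [← hcard, hn]
      apply Nat.Coprime.mul_right
      · exact Nat.Coprime.pow_right n (bg_sigmaCore_card_coprime M hr hrσ)
      · exact Nat.Coprime.coprime_dvd_right (Subgroup.card_dvd_of_le hK₀) hcopK
    have hff := Cfsg.Agent.Lib.helper12.ff_formula A K₀ (sigmaCore M) hK₀1 hUn hfpf hHn hsolv hcop
    have h1 : sigmaCore M ⊓ centralizer ((A ⊔ K₀ : Subgroup G) : Set G) = ⊥ := by
      rw [eq_bot_iff, ← hCA]
      exact inf_le_inf_left _ (Subgroup.centralizer_le (by exact_mod_cast (le_sup_left : A ≤ A ⊔ K₀)))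
    rw [h1, hCA, Subgroup.card_bot, one_pow, one_mul, mul_one, hKstar K₀ hK₀ hK₀1] at hff
    exact hff
  -- `M_σ ≠ 1`
  have hKcard1 : Nat.card K ≠ 1 := fun h => hK1 (Subgroup.eq_bot_of_card_eq K h)
  obtain ⟨q, hq, hqK⟩ := Nat.exists_prime_and_dvd hKcard1
  have hσ1 : sigmaCore M ≠ ⊥ := sigmaCore_ne_bot_of_kappa M (hK.2.1 q hq hqK)
  have hσcard : 1 < Nat.card (sigmaCore M) := by
    have h0 : 0 < Nat.card (sigmaCore M) := Nat.card_pos
    have h1 : Nat.card (sigmaCore M) ≠ 1 := fun h => hσ1 (Subgroup.eq_bot_of_card_eq _ h)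
    omega
  have hks : 2 ≤ Nat.card ↥(sigmaCore M ⊓ centralizer (K : Set G)) := by
    have h0 : 0 < Nat.card ↥(sigmaCore M ⊓ centralizer (K : Set G)) := Nat.card_pos
    by_contra h
    have h1 : Nat.card ↥(sigmaCore M ⊓ centralizer (K : Set G)) = 1 := by omega
    have h2 := hform K le_rfl hK1
    rw [h1, one_pow] at h2
    omega
  -- every nontrivial subgroup of `K` has order `|K|`
  have : Fact q.Prime := ⟨hq⟩
  obtain ⟨x, hx⟩ := exists_prime_orderOf_dvd_card' q hqK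
  have hzK : Subgroup.zpowers (x : G) ≤ K := Subgroup.zpowers_le.mpr x.2
  have hz1 : Subgroup.zpowers (x : G) ≠ ⊥ := by
    rw [Ne, Subgroup.zpowers_eq_bot]
    intro h
    have h3 : x = 1 := Subtype.ext h
    rw [h3, orderOf_one] at hx
    exact hq.one_lt.ne hx
  have e1 := hform K le_rfl hK1
  have e2 := hform _ hzK hz1
  rw [e1] at e2
  have e3 : Nat.card K = Nat.card (Subgroup.zpowers (x : G)) := Nat.pow_right_injective hks e2
  rw [e3, Nat.card_zpowers, Subgroup.orderOf_coe, hx]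
  exact hq

/-- **Lemma P (contrapositive).** If a Hall `κ(M)`-subgroup `K ≠ 1` of `M` does not have prime
order, every prime divisor of `|M|` lies in `σ(M) ∪ κ(M)`. -/
theorem sigma_or_kappa_of_card_not_prime [Finite G] (hG : IsMinSimpleOddOrder G)
    (h1430 : Cfsg.Agent.Lib.helper69.H1430 G) (M : Subgroup G) (hM : IsCoatom M)
    (K : Subgroup G) (hK : IsPiHallOf (kappa M) K M) (hK1 : K ≠ ⊥)
    (hnp : ¬ (Nat.card K).Prime) (r : ℕ) (hr : r.Prime) (hrM : r ∣ Nat.card M) :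
    r ∈ sigma M ∨ r ∈ kappa M := by
  by_contra h
  push Not at h
  exact hnp (kappa_card_prime_of_prime hG h1430 M hM K hK hK1 r hr hrM h.1 h.2)

/-- **Lemma P (complement form).** If `U ≠ 1` is a complement of `K M_σ` in `M`, the Hall
`κ(M)`-subgroup `K ≠ 1` has prime order. -/
theorem kappa_card_prime [Finite G] (hG : IsMinSimpleOddOrder G)
    (h1430 : Cfsg.Agent.Lib.helper69.H1430 G) (M : Subgroup G) (hM : IsCoatom M)
    (K : Subgroup G) (hK : IsPiHallOf (kappa M) K M) (hK1 : K ≠ ⊥) (U : Subgroup G)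
    (hC : IsComplIn U (K ⊔ sigmaCore M) M) (hU1 : U ≠ ⊥) : (Nat.card K).Prime := by
  have hHall : IsPiHallOf (sigma M) (sigmaCore M) M := (Cfsg.Agent.S1350.result hG M hM).1
  have hUcard1 : Nat.card U ≠ 1 := fun h => hU1 (Subgroup.eq_bot_of_card_eq U h)
  obtain ⟨r, hr, hrU⟩ := Nat.exists_prime_and_dvd hUcard1
  have eK : K.relIndex (K ⊔ sigmaCore M) * (K ⊔ sigmaCore M).relIndex M = K.relIndex M :=
    Subgroup.relIndex_mul_relIndex K (K ⊔ sigmaCore M) M le_sup_left hC.2.1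
  have eS : (sigmaCore M).relIndex (K ⊔ sigmaCore M) * (K ⊔ sigmaCore M).relIndex M =
      (sigmaCore M).relIndex M :=
    Subgroup.relIndex_mul_relIndex (sigmaCore M) (K ⊔ sigmaCore M) M le_sup_right hC.2.1
  have eD : Nat.card U = (K ⊔ sigmaCore M).relIndex M :=
    Cfsg.Agent.Lib.helper29.IsComplIn.card_left hC
  refine kappa_card_prime_of_prime hG h1430 M hM K hK hK1 r hr
    (hrU.trans (Subgroup.card_dvd_of_le hC.1)) (fun hps => ?_) (fun hpk => ?_)
  · exact hHall.2.2 r hr hps (by rw [← eS, ← eD]; exact Dvd.dvd.mul_left hrU _)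
  · exact hK.2.2 r hr hpk (by rw [← eK, ← eD]; exact Dvd.dvd.mul_left hrU _)

end Cfsg.Agent.Lib.helper27.BGKP
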