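import Mathlib
import Cfsg.Agent.Lib.helper24.SfuDefs

/-!
# S5982, piece COUNT, core (helper27): in an orthonormal basis the form is the standard one
-/

set_option autoImplicit false

namespace Cfsg.Agent.Lib.helper24

open Module Matrix Cfsg.Geo

/-- Linearity of a unitary form in its first argument, for finite sums. -/
theorem h27_sfu_sum_left {F : Type*} [Field F] {m : ℕ} (q₀ : ℕ)
    (f : (Fin m → F) → (Fin m → F) → F) (hf : IsUnitaryFormPow q₀ f)
    {ι : Type*} (s : Finset ι) (c : ι → F) (x : ι → (Fin m → F)) (w : Fin m → F) :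
    f (∑ i ∈ s, c i • x i) w = ∑ i ∈ s, c i * f (x i) w := by
  classical
  let fL : (Fin m → F) →ₗ[F] F :=
    { toFun := fun x => f x w
      map_add' := fun x y => hf.add_left x y w
      map_smul' := fun a x => by simpa using hf.smul_left a x w }
  have h := map_sum fL (fun i => c i • x i) s
  have h2 : ∀ i, fL (c i • x i) = c i * f (x i) w := fun i => hf.smul_left (c i) (x i) w
  simp only [h2] at h
  exact h

/-- In coordinates with respect to an orthonormal basis the form is `Σ c_k^(q₀+1)`. -/
theorem h27_sfu_onb_coord {F : Type*} [Field F] {m : ℕ} (q₀ : ℕ)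
    (f : (Fin m → F) → (Fin m → F) → F) (hf : IsUnitaryFormPow q₀ f)
    (e : Fin m → (Fin m → F))
    (hon : ∀ i j, f (e i) (e j) = if i = j then 1 else 0) (c : Fin m → F) :
    f (∑ i, c i • e i) (∑ i, c i • e i) = ∑ k, c k ^ (q₀ + 1) := by
  classical
  have h1 : ∀ i, f (∑ j, c j • e j) (e i) = c i := by
    intro i
    rw [h27_sfu_sum_left q₀ f hf]
    simp only [hon, mul_ite, mul_one, mul_zero]
    rw [Finset.sum_ite_eq' Finset.univ i]
    simp
  rw [h27_sfu_sum_left q₀ f hf]
  refine Finset.sum_congr rfl (fun i _ => ?_)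
  rw [hf.herm (e i) (∑ j, c j • e j), h1 i, pow_succ, mul_comm]

/-- COUNT, core: with an orthonormal basis the number of norm-1 vectors is that of the standard form. -/
theorem h27_sfu_count_core {F : Type*} [Field F] [Fintype F] [DecidableEq F] {m : ℕ} (q₀ : ℕ)
    (f : (Fin m → F) → (Fin m → F) → F) (hf : IsUnitaryFormPow q₀ f)
    (e : Fin m → (Fin m → F)) (he : LinearIndependent F e)
    (hon : ∀ i j, f (e i) (e j) = if i = j then 1 else 0) :
    (Finset.univ.filter (fun v : Fin m → F => f v v = 1)).card =
      (Finset.univ.filter (fun v : Fin m → F => ∑ k, v k ^ (q₀ + 1) = 1)).card := by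
  classical
  have hspan : Submodule.span F (Set.range e) = ⊤ :=
    he.span_eq_top_of_card_eq_finrank' (by simp)
  let b : Basis (Fin m) F (Fin m → F) := Basis.mk he (by rw [hspan])
  have hb : ∀ i, b i = e i := fun i => by
    simp only [b, Basis.coe_mk]
  have key : ∀ v : Fin m → F, f v v = ∑ k, (b.equivFun v k) ^ (q₀ + 1) := by
    intro v
    have hv : v = ∑ i, b.equivFun v i • e i := by
      conv_lhs => rw [← b.sum_equivFun v]
      exact Finset.sum_congr rfl (fun i _ => by rw [hb i])
    conv_lhs => rw [hv]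
    exact h27_sfu_onb_coord q₀ f hf e hon _
  refine Finset.card_bij (fun v _ => b.equivFun v) ?_ ?_ ?_
  · intro v hv
    rw [Finset.mem_filter] at hv ⊢
    exact ⟨Finset.mem_univ _, by rw [← key v]; exact hv.2⟩
  · intro v _ w _ h
    exact b.equivFun.injective h
  · intro c hc
    rw [Finset.mem_filter] at hc
    refine ⟨b.equivFun.symm c, ?_, LinearEquiv.apply_symm_apply _ _⟩
    rw [Finset.mem_filter]
    refine ⟨Finset.mem_univ _, ?_⟩
    rw [key, LinearEquiv.apply_symm_apply]
    exact hc.2

end Cfsg.Agent.Lib.helper24
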