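import Mathlib
import Cfsg.Agent.Lib.helper24.SfuDefs
import Cfsg.Agent.Lib.helper27.SfuCOUNTcore
import Cfsg.Agent.Lib.helper46.SfuONB
import Cfsg.Agent.Lib.helper89.SfuCNTSTD

/-!
# S5982, piece COUNT (helper27): number of norm-1 vectors of a unitary form
-/

set_option autoImplicit false

namespace Cfsg.Agent.Lib.helper24

open Module Matrix Cfsg.Geo

/-- COUNT -/
theorem h27_sfu_count {F : Type*} [Field F] [Fintype F] [DecidableEq F] {m : ℕ} (q₀ : ℕ)
    (hcard : Fintype.card F = q₀ ^ 2) (f : (Fin m → F) → (Fin m → F) → F)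
    (hf : IsUnitaryFormPow q₀ f) :
    ((Finset.univ.filter (fun v : Fin m → F => f v v = 1)).card : ℤ) =
      (q₀ : ℤ) ^ (m - 1) * ((q₀ : ℤ) ^ m - (-1) ^ m) := by
  obtain ⟨e, he, hon⟩ := sfu_onb q₀ hcard f hf
  rw [h27_sfu_count_core q₀ f hf e he hon]
  exact h89_sfu_count_std q₀ hcard m

end Cfsg.Agent.Lib.helper24
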