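import Mathlib
import Cfsg.Prelude.Def_LieExceptional

/-! S0996 piece ALPHA-D (sub-architect helper68): the conjugation action on the Sylow
`p`-subgroups is faithful when `|P| = p`, `C_G(P) = P` and there are `1 + p` Sylow subgroups. -/

set_option autoImplicit false

namespace Cfsg.Agent.Lib.helper27.BrAl

open MulAction

variable {G : Type*} [Group G] [Finite G] {p : ℕ} [Fact p.Prime] (P : Sylow p G)

/-- a non-identity element of `P` fixes only the point `P` (own copy of ALPHA-A). -/
theorem h27_al_fix (hP : Nat.card P = p) (x : G) (hx : x ∈ (P : Subgroup G)) (hx1 : x ≠ 1)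
    (Q : Sylow p G) (hQ : x • Q = Q) : Q = P := by
  have hxN : x ∈ Subgroup.normalizer ((Q : Subgroup G) : Set G) :=
    Sylow.smul_eq_iff_mem_normalizer.mp hQ
  have hzp : IsPGroup p (Subgroup.zpowers x) :=
    P.isPGroup'.to_le ((Subgroup.zpowers_le).mpr hx)
  have hinf := hzp.inf_normalizer_sylow Q
  have hxQ : x ∈ (Q : Subgroup G) := by
    have h1 : x ∈ Subgroup.zpowers x ⊓ (Q : Subgroup G) := by
      rw [← hinf]
      exact ⟨Subgroup.mem_zpowers x, hxN⟩
    exact h1.2
  have hPQ : (P : Subgroup G) ≤ (Q : Subgroup G) := by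
    intro y hy
    have hx1' : (⟨x, hx⟩ : (P : Subgroup G)) ≠ 1 := by
      intro h
      exact hx1 (congrArg Subtype.val h)
    have hmem : (⟨y, hy⟩ : (P : Subgroup G)) ∈ Subgroup.zpowers (⟨x, hx⟩ : (P : Subgroup G)) :=
      mem_zpowers_of_prime_card hP hx1'
    obtain ⟨k, hk⟩ := Subgroup.mem_zpowers_iff.mp hmem
    have hk' : x ^ k = y := by
      have := congrArg Subtype.val hk
      simpa using this
    rw [← hk']
    exact (Q : Subgroup G).zpow_mem hxQ k
  have hQP : (Q : Subgroup G) = (P : Subgroup G) := P.is_maximal' Q.isPGroup' hPQ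
  exact Sylow.ext hQP

/-- ALPHA-D: the action is faithful. -/
theorem al_faithful (hP : Nat.card P = p)
    (hC : Subgroup.centralizer ((P : Subgroup G) : Set G) = (P : Subgroup G))
    (hn : Nat.card (Sylow p G) = 1 + p) : FaithfulSMul G (Sylow p G) := by
  have hex : ∃ Q : Sylow p G, Q ≠ P := by
    by_contra hcon0
    have hcon : ∀ Q : Sylow p G, Q = P := fun Q => by
      by_contra h
      exact hcon0 ⟨Q, h⟩
    have hsub : Subsingleton (Sylow p G) := ⟨fun a b => (hcon a).trans (hcon b).symm⟩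
    have h1 : Nat.card (Sylow p G) ≤ 1 := Finite.card_le_one_iff_subsingleton.mpr hsub
    have hpos := (Fact.out : p.Prime).pos
    omega
  obtain ⟨Q₀, hQ₀⟩ := hex
  have key : ∀ g : G, (∀ Q : Sylow p G, g • Q = Q) → g = 1 := by
    intro g hg
    have hginv : ∀ Q : Sylow p G, g⁻¹ • Q = Q := fun Q => inv_smul_eq_iff.mpr (hg Q).symm
    have hgN : g ∈ Subgroup.normalizer ((P : Subgroup G) : Set G) :=
      Sylow.smul_eq_iff_mem_normalizer.mp (hg P)
    have hgC : g ∈ Subgroup.centralizer ((P : Subgroup G) : Set G) := by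
      rw [Subgroup.mem_centralizer_iff]
      intro x hx
      by_contra hne
      have hc1 : g * x * g⁻¹ * x⁻¹ ≠ 1 := by
        intro h
        apply hne
        have h2 : g * x * g⁻¹ = x := mul_inv_eq_one.mp h
        calc x * g = (g * x * g⁻¹) * g := by rw [h2]
          _ = g * x := by group
      have hcP : g * x * g⁻¹ * x⁻¹ ∈ (P : Subgroup G) := by
        have h1 : g * x * g⁻¹ ∈ (P : Subgroup G) := (Subgroup.mem_normalizer_iff.mp hgN x).mp hx
        exact (P : Subgroup G).mul_mem h1 ((P : Subgroup G).inv_mem hx)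
      have hcfix : (g * x * g⁻¹ * x⁻¹) • Q₀ = Q₀ := by
        rw [mul_smul, mul_smul, mul_smul, hginv, smul_inv_smul, hg]
      exact hQ₀ (h27_al_fix P hP _ hcP hc1 Q₀ hcfix)
    rw [hC] at hgC
    by_contra hg1
    exact hQ₀ (h27_al_fix P hP g hgC hg1 Q₀ (hg Q₀))
  refine ⟨fun {m₁ m₂} h => ?_⟩
  have h1 := key (m₂⁻¹ * m₁) (fun Q => by rw [mul_smul, h Q, inv_smul_smul])
  exact (inv_mul_eq_one.mp h1).symm

end Cfsg.Agent.Lib.helper27.BrAl
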