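import Mathlib
import Cfsg.Prelude.Def_LieExceptional

/-! S0996 piece ALPHA-G (sub-architect helper68): for a perfect group with `|P| = p`,
`C_G(P) = P`, `|N_G(P)| = e p` (`e ≥ 2`) and `1 + p` Sylow `p`-subgroups, no normal subgroup acts
regularly on the Sylow `p`-subgroups. -/

set_option autoImplicit false

namespace Cfsg.Agent.Lib.helper27.BrAl

open MulAction
open scoped commutatorElement Pointwise

variable {G : Type*} [Group G] [Finite G] {p : ℕ} [Fact p.Prime] (P : Sylow p G)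

omit [Finite G] in
/-- conjugation by an element of `N_G(P)` is a power map on the cyclic group `P`. -/
theorem h27_conj_pow (hP : Nat.card P = p) (a : G)
    (ha : a ∈ Subgroup.normalizer ((P : Subgroup G) : Set G)) :
    ∃ m : ℤ, ∀ y ∈ (P : Subgroup G), a * y * a⁻¹ = y ^ m := by
  have hcyc : IsCyclic (P : Subgroup G) := isCyclic_of_prime_card hP
  let σ : (P : Subgroup G) →* (P : Subgroup G) :=
    { toFun := fun y => ⟨a * y.1 * a⁻¹, (Subgroup.mem_normalizer_iff.mp ha y.1).mp y.2⟩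
      map_one' := by
        apply Subtype.ext
        simp
      map_mul' := by
        intro y z
        apply Subtype.ext
        simp [mul_assoc] }
  obtain ⟨m, hm⟩ := MonoidHom.map_cyclic σ
  refine ⟨m, fun y hy => ?_⟩
  have h := congrArg Subtype.val (hm ⟨y, hy⟩)
  simpa [σ] using h

omit [Finite G] in
/-- commutators of elements of `N_G(P)` centralize `P`. -/
theorem h27_comm_mem_centralizer (hP : Nat.card P = p) (a₁ a₂ : G)
    (h₁ : a₁ ∈ Subgroup.normalizer ((P : Subgroup G) : Set G))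
    (h₂ : a₂ ∈ Subgroup.normalizer ((P : Subgroup G) : Set G)) :
    ⁅a₁, a₂⁆ ∈ Subgroup.centralizer ((P : Subgroup G) : Set G) := by
  obtain ⟨k, hk⟩ := h27_conj_pow P hP a₁ h₁
  obtain ⟨l, hl⟩ := h27_conj_pow P hP a₂ h₂
  have hswap : ∀ y ∈ (P : Subgroup G),
      a₁ * a₂ * y * (a₁ * a₂)⁻¹ = a₂ * a₁ * y * (a₂ * a₁)⁻¹ := by
    intro y hy
    have e1 : a₁ * a₂ * y * (a₁ * a₂)⁻¹ = a₁ * (a₂ * y * a₂⁻¹) * a₁⁻¹ := by group
    have e2 : a₂ * a₁ * y * (a₂ * a₁)⁻¹ = a₂ * (a₁ * y * a₁⁻¹) * a₂⁻¹ := by group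
    rw [e1, e2, hl y hy, hk y hy, hk (y ^ l) ((P : Subgroup G).zpow_mem hy l),
      hl (y ^ k) ((P : Subgroup G).zpow_mem hy k), ← zpow_mul, ← zpow_mul, mul_comm]
  rw [Subgroup.mem_centralizer_iff]
  intro z hz
  have hz' : z ∈ (P : Subgroup G) := hz
  have hN : (a₂ * a₁)⁻¹ ∈ Subgroup.normalizer ((P : Subgroup G) : Set G) :=
    Subgroup.inv_mem _ (Subgroup.mul_mem _ h₂ h₁)
  have hy : (a₂ * a₁)⁻¹ * z * ((a₂ * a₁)⁻¹)⁻¹ ∈ (P : Subgroup G) :=
    (Subgroup.mem_normalizer_iff.mp hN z).mp hz'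
  have h := hswap _ hy
  have e3 : a₂ * a₁ * ((a₂ * a₁)⁻¹ * z * ((a₂ * a₁)⁻¹)⁻¹) * (a₂ * a₁)⁻¹ = z := by group
  have e4 : a₁ * a₂ * ((a₂ * a₁)⁻¹ * z * ((a₂ * a₁)⁻¹)⁻¹) * (a₁ * a₂)⁻¹
      = ⁅a₁, a₂⁆ * z * ⁅a₁, a₂⁆⁻¹ := by
    rw [commutatorElement_def]; group
  rw [e3, e4] at h
  calc z * ⁅a₁, a₂⁆ = (⁅a₁, a₂⁆ * z * ⁅a₁, a₂⁆⁻¹) * ⁅a₁, a₂⁆ := by rw [h]
    _ = ⁅a₁, a₂⁆ * z := by group

/-- ALPHA-G: no normal subgroup is regular. -/
theorem al_noreg (hperf : commutator G = ⊤) (hP : Nat.card P = p)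
    (hC : Subgroup.centralizer ((P : Subgroup G) : Set G) = (P : Subgroup G)) (e : ℕ)
    (he : Nat.card (Subgroup.normalizer ((P : Subgroup G) : Set G)) = e * p) (he2 : 2 ≤ e)
    (hn : Nat.card (Sylow p G) = 1 + p) (N : Subgroup G) (hN : N.Normal)
    (htr : IsPretransitive N (Sylow p G)) : ∃ a : Sylow p G, stabilizer N a ≠ ⊥ := by
  by_contra hcon
  have hstab : ∀ a : Sylow p G, stabilizer N a = ⊥ := fun a => by
    by_contra h
    exact hcon ⟨a, h⟩
  have hNn : N.Normal := hN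
  -- `|N| = 1 + p`
  have hNcard : Nat.card N = 1 + p := by
    rw [← hn]
    apply Nat.card_eq_of_bijective (fun n : N => n • P)
    constructor
    · intro n₁ n₂ h
      have h' : n₁ • P = n₂ • P := h
      have hmem : n₂⁻¹ * n₁ ∈ stabilizer N P := by
        rw [mem_stabilizer_iff, mul_smul, h', inv_smul_smul]
      rw [hstab P, Subgroup.mem_bot] at hmem
      exact (inv_mul_eq_one.mp hmem).symm
    · intro Q
      exact MulAction.exists_smul_eq N P Q
  -- Frattini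
  have hfrat : ∀ g : G, ∃ n ∈ N, ∃ a ∈ Subgroup.normalizer ((P : Subgroup G) : Set G),
      g = n * a := by
    intro g
    obtain ⟨n, hn'⟩ := MulAction.exists_smul_eq N P (g • P)
    refine ⟨n.1, n.2, n.1⁻¹ * g, ?_, by group⟩
    apply Sylow.smul_eq_iff_mem_normalizer.mp
    rw [mul_smul, ← hn']
    exact inv_smul_smul n.1 P
  -- `commutator G ≤ N ⊔ P`
  have hcomm : commutator G ≤ N ⊔ (P : Subgroup G) := by
    rw [_root_.commutator_def, Subgroup.commutator_le]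
    intro g₁ _ g₂ _
    obtain ⟨n₁, hn₁, a₁, ha₁, rfl⟩ := hfrat g₁
    obtain ⟨n₂, hn₂, a₂, ha₂, rfl⟩ := hfrat g₂
    have hcP : ⁅a₁, a₂⁆ ∈ (P : Subgroup G) := by
      have h := h27_comm_mem_centralizer P hP a₁ a₂ ha₁ ha₂
      rw [hC] at h
      exact h
    have hq : (QuotientGroup.mk' N) ⁅n₁ * a₁, n₂ * a₂⁆ = (QuotientGroup.mk' N) ⁅a₁, a₂⁆ := by
      have e1 : (QuotientGroup.mk' N) n₁ = 1 := (QuotientGroup.eq_one_iff n₁).mpr hn₁
      have e2 : (QuotientGroup.mk' N) n₂ = 1 := (QuotientGroup.eq_one_iff n₂).mpr hn₂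
      rw [map_commutatorElement, map_commutatorElement, map_mul, map_mul, e1, e2, one_mul,
        one_mul]
    have hmemN : ⁅a₁, a₂⁆⁻¹ * ⁅n₁ * a₁, n₂ * a₂⁆ ∈ N := QuotientGroup.eq.mp hq.symm
    have hsplit : ⁅n₁ * a₁, n₂ * a₂⁆ = ⁅a₁, a₂⁆ * (⁅a₁, a₂⁆⁻¹ * ⁅n₁ * a₁, n₂ * a₂⁆) := by
      group
    rw [hsplit]
    exact Subgroup.mul_mem _ (Subgroup.mem_sup_right hcP) (Subgroup.mem_sup_left hmemN)
  -- cardinalities
  have htop : N ⊔ (P : Subgroup G) = ⊤ := top_le_iff.mp (hperf ▸ hcomm)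
  have hcardG : Nat.card G = (e * p) * (1 + p) := by
    rw [← he, ← hn, P.card_eq_index_normalizer]
    exact (Subgroup.card_mul_index _).symm
  have hle : Nat.card G ≤ (1 + p) * p := by
    have h1 : Nat.card (N ⊔ (P : Subgroup G) : Subgroup G) = Nat.card G := by
      rw [htop]; exact Subgroup.card_top
    rw [← h1]
    have h2 : ((N ⊔ (P : Subgroup G) : Subgroup G) : Set G)
        = (N : Set G) * ((P : Subgroup G) : Set G) := Subgroup.normal_mul N (P : Subgroup G)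
    calc Nat.card (N ⊔ (P : Subgroup G) : Subgroup G)
        = Nat.card ((N ⊔ (P : Subgroup G) : Subgroup G) : Set G) := rfl
      _ = Nat.card ((N : Set G) * ((P : Subgroup G) : Set G) : Set G) := by rw [h2]
      _ ≤ Nat.card (N : Set G) * Nat.card ((P : Subgroup G) : Set G) := Set.natCard_mul_le
      _ = (1 + p) * p := by
        have e1 : Nat.card (N : Set G) = 1 + p := hNcard
        have e2 : Nat.card ((P : Subgroup G) : Set G) = p := hP
        rw [e1, e2]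
  have hppos := (Fact.out : p.Prime).pos
  rw [hcardG] at hle
  have h3 : 2 * (p * (1 + p)) ≤ e * (p * (1 + p)) := Nat.mul_le_mul_right _ he2
  have h4 : e * p * (1 + p) = e * (p * (1 + p)) := by ring
  have h5 : (1 + p) * p = p * (1 + p) := by ring
  have h6 : 0 < p * (1 + p) := by positivity
  rw [h4, h5] at hle
  omega

end Cfsg.Agent.Lib.helper27.BrAl
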