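import Mathlib
import Cfsg.Agent.Lib.helper16.U34CDefs
import Cfsg.Agent.Lib.helper71.U34C_M

/-!
# S1903, piece A4b (racing copy by helper27): the relations `Rel u x`
-/

set_option autoImplicit false
set_option linter.unusedSectionVars false
set_option linter.unusedVariables false

namespace Cfsg.Agent.Lib.helper16.U34C

open Cfsg
open scoped commutatorElement

section Abstract

variable {G : Type*} [Group G]

/-- If `⁅g, h⁆` is a central involution then `h * g = g * h * ⁅g, h⁆`. -/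
theorem helper27_swap_of_central {g h c : G} (hc : ⁅g, h⁆ = c) (hcen : ∀ k : G, c * k = k * c)
    (hc2 : c ^ 2 = 1) : h * g = g * h * c := by
  have h1 : c * (h * g) = g * h := by
    rw [← hc, commutatorElement_def]; group
  have hinv : c⁻¹ = c := by
    rw [inv_eq_iff_mul_eq_one, ← pow_two, hc2]
  calc h * g = c⁻¹ * (c * (h * g)) := by group
    _ = c * (g * h) := by rw [h1, hinv]
    _ = g * h * c := hcen _

/-- PIECE A4b (racing copy) -/
theorem helper27_rel_of_u {x : G} {Z : Subgroup G} (h1 : D1 x Z) (h3 : D3 x Z) {u : G}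
    (hu : u ∈ commutator G) (hux : (u * x) ^ 5 = 1) : Rel u x := by
  have hPn : (commutator G).Normal := by unfold commutator; infer_instance
  have hcj : ∀ i, cj x u i = x ^ i * u * (x ^ i)⁻¹ := fun i => by simp [cj, inv_pow]
  have hmem : ∀ i, cj x u i ∈ commutator G := fun i => by
    rw [hcj]; exact hPn.conj_mem u hu (x ^ i)
  have hstep : ∀ i, x * cj x u i * x⁻¹ = cj x u (i + 1) := fun i => by
    rw [hcj, hcj, pow_succ']; group
  have hZinv : ∀ z ∈ Z, z⁻¹ = z := fun z hz => by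
    rw [inv_eq_iff_mul_eq_one, ← pow_two, h1.Z2 z hz]
  have hZconj : ∀ z ∈ Z, x * z * x⁻¹ = z := fun z hz => by
    rw [← h1.Zc z hz x, mul_inv_cancel_right]
  have hC : ∀ i j, ⁅cj x u i, cj x u j⁆ ∈ Z := fun i j => h3.comm _ (hmem i) _ (hmem j)
  have hshift : ∀ i j, ⁅cj x u (i + 1), cj x u (j + 1)⁆ = ⁅cj x u i, cj x u j⁆ := fun i j => by
    rw [← hstep i, ← hstep j]
    have : ⁅x * cj x u i * x⁻¹, x * cj x u j * x⁻¹⁆ = x * ⁅cj x u i, cj x u j⁆ * x⁻¹ := by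
      simp only [commutatorElement_def]; group
    rw [this, hZconj _ (hC i j)]
  have h0 : cj x u 0 = u := by simp [cj]
  have h5 : cj x u 5 = u := by rw [hcj, h1.x5]; simp
  have ha : ⁅cj x u 0, cj x u 1⁆ = ca u x := by
    simp [cj, ca]
  have hb : ⁅cj x u 0, cj x u 2⁆ = cb u x := by
    simp [cj, cb]
  have haZ : ca u x ∈ Z := ha ▸ hC 0 1
  have hbZ : cb u x ∈ Z := hb ▸ hC 0 2
  have hsZ : u ^ 2 ∈ Z := h3.sq u hu
  have hsq : ∀ i, cj x u i ^ 2 = u ^ 2 := fun i => by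
    rw [hcj, conj_pow, ← h1.Zc _ hsZ (x ^ i), mul_inv_cancel_right]
  have c12 : ⁅cj x u 1, cj x u 2⁆ = ca u x := by rw [hshift 0 1, ha]
  have c23 : ⁅cj x u 2, cj x u 3⁆ = ca u x := by rw [hshift 1 2, c12]
  have c13 : ⁅cj x u 1, cj x u 3⁆ = cb u x := by rw [hshift 0 2, hb]
  have c24 : ⁅cj x u 2, cj x u 4⁆ = cb u x := by rw [hshift 1 3, c13]
  have c35 : ⁅cj x u 3, cj x u 5⁆ = cb u x := by rw [hshift 2 4, c24]
  have c03 : ⁅cj x u 0, cj x u 3⁆ = cb u x := by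
    have e : cj x u 0 = cj x u 5 := h0.trans h5.symm
    rw [← commutatorElement_inv, e, c35, hZinv _ hbZ]
  have hprod : cj x u 0 * cj x u 1 * cj x u 2 * cj x u 3 * cj x u 4 = 1 := by
    have e5 : (u * x) * (u * x) * (u * x) * (u * x) * (u * x) = (u * x) ^ 5 := by
      simp only [pow_succ, pow_zero, one_mul]
    have : cj x u 0 * cj x u 1 * cj x u 2 * cj x u 3 * cj x u 4 =
        (u * x) * (u * x) * (u * x) * (u * x) * (u * x) * (x ^ 5)⁻¹ := by
      simp only [cj]; group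
    rw [this, e5, hux, h1.x5]; simp
  have hM := helper71_sq_eq_of_prod (cj x u 0) (cj x u 1) (cj x u 2) (cj x u 3) (cj x u 4)
    (ca u x) (cb u x) (u ^ 2) (h1.Zc _ haZ) (h1.Zc _ hbZ) (h1.Zc _ hsZ)
    (h1.Z2 _ haZ) (h1.Z2 _ hbZ) (h1.Z2 _ hsZ) (hsq 0) (hsq 1) (hsq 2) (hsq 3) (hsq 4)
    (helper27_swap_of_central ha (h1.Zc _ haZ) (h1.Z2 _ haZ))
    (helper27_swap_of_central hb (h1.Zc _ hbZ) (h1.Z2 _ hbZ))
    (helper27_swap_of_central c03 (h1.Zc _ hbZ) (h1.Z2 _ hbZ))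
    (helper27_swap_of_central c12 (h1.Zc _ haZ) (h1.Z2 _ haZ))
    (helper27_swap_of_central c13 (h1.Zc _ hbZ) (h1.Z2 _ hbZ))
    (helper27_swap_of_central c23 (h1.Zc _ haZ) (h1.Z2 _ haZ)) hprod
  exact
    { x5 := h1.x5
      ux5 := hux
      a2 := h1.Z2 _ haZ
      b2 := h1.Z2 _ hbZ
      au := h1.Zc _ haZ u
      ax := h1.Zc _ haZ x
      bu := h1.Zc _ hbZ u
      bx := h1.Zc _ hbZ x
      u2 := hM }

end Abstract

end Cfsg.Agent.Lib.helper16.U34C
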