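import Mathlib
import Cfsg.Prelude.Def_GeometricClasses
import Cfsg.Agent.Lib.helper24.FsNorm2

/-!
# S5977/S5978 block C, piece KAPPA (racing copy by helper27): a generator with scalar square
-/

set_option autoImplicit false

namespace Cfsg.Agent.Lib.helper2

open Cfsg.Geo Matrix

/-- KAPPA (racing copy) -/
theorem h27_qfc_kappa {F : Type*} [Field F] {ι : Type} [Fintype ι] [DecidableEq ι]
    (h2 : (2 : F) ≠ 0) (K : Subalgebra F (Matrix ι ι F)) (hK : IsFieldSubalgebra 2 K) :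
    ∃ κ ∈ K, ∃ δ : F, (∀ r : F, r ^ 2 ≠ δ + 0 * r) ∧ κ * κ = δ • (1 : Matrix ι ι F) ∧
      ∀ k ∈ K, ∃ a b : F, k = a • (1 : Matrix ι ι F) + b • κ := by
  classical
  obtain ⟨θ, α, β, hθK, hθ, hirr, hspan, -⟩ := Cfsg.Agent.Lib.helper24.fsn_quadratic_gen hK
  obtain ⟨h, rfl⟩ : ∃ h : F, α = 2 * h := ⟨α / 2, by field_simp⟩
  refine ⟨θ - h • (1 : Matrix ι ι F), K.sub_mem hθK (K.smul_mem K.one_mem h), β + h * h,
    ?_, ?_, ?_⟩
  · intro r hr
    apply hirr (r + h)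
    linear_combination hr
  · simp only [sub_mul, mul_sub, Matrix.smul_mul, Matrix.mul_smul, Matrix.mul_one, Matrix.one_mul,
      hθ]
    module
  · intro k hk
    obtain ⟨s, t, rfl⟩ := hspan k hk
    refine ⟨s + t * h, t, ?_⟩
    module

end Cfsg.Agent.Lib.helper2
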