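import Mathlib
import Cfsg.Agent.Lib.helper24.SfoDefs
import Cfsg.Agent.Lib.helper98.SfoOB

/-!
# S5981, pieces CNTE / CNTO, core (helper27): coordinates in an orthogonal basis
-/

set_option autoImplicit false

namespace Cfsg.Agent.Lib.helper24

open Module Matrix Cfsg.Geo

/-- Linearity of the polar form in its second argument, for finite sums. -/
theorem h27_sfo_polar_sum_right {F : Type*} [Field F] {n : ℕ} (Q : (Fin n → F) → F)
    (hQ : IsNondegenerateQuadraticForm Q) {ι : Type*} (s : Finset ι) (c : ι → F)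
    (x : ι → (Fin n → F)) (u : Fin n → F) :
    QuadraticMap.polar Q u (∑ i ∈ s, c i • x i) = ∑ i ∈ s, c i * QuadraticMap.polar Q u (x i) := by
  classical
  let fL : (Fin n → F) →ₗ[F] F :=
    { toFun := fun w => QuadraticMap.polar Q u w
      map_add' := fun x y => hQ.polar_bilinear.add_right u x y
      map_smul' := fun a x => by simpa using hQ.polar_bilinear.smul_right a u x }
  have h := map_sum fL (fun i => c i • x i) s
  have h2 : ∀ i, fL (c i • x i) = c i * QuadraticMap.polar Q u (x i) :=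
    fun i => hQ.polar_bilinear.smul_right (c i) u (x i)
  simp only [h2] at h
  exact h

/-- In coordinates with respect to an orthogonal family the form is diagonal. -/
theorem h27_sfo_coord {F : Type*} [Field F] {n : ℕ} (Q : (Fin n → F) → F)
    (hQ : IsNondegenerateQuadraticForm Q) {ι : Type*} (e : ι → (Fin n → F))
    (horth : ∀ i j, i ≠ j → QuadraticMap.polar Q (e i) (e j) = 0) (x : ι → F) (s : Finset ι) :
    Q (∑ j ∈ s, x j • e j) = ∑ j ∈ s, Q (e j) * x j ^ 2 := by
  classical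
  induction s using Finset.induction_on with
  | empty =>
    have h := hQ.smul 0 (0 : Fin n → F)
    simpa using h
  | insert a s ha ih =>
    rw [Finset.sum_insert ha, Finset.sum_insert ha]
    have hpol : Q (x a • e a + ∑ j ∈ s, x j • e j) =
        Q (x a • e a) + Q (∑ j ∈ s, x j • e j) +
          QuadraticMap.polar Q (x a • e a) (∑ j ∈ s, x j • e j) := by
      unfold QuadraticMap.polar; ring
    have hz : QuadraticMap.polar Q (x a • e a) (∑ j ∈ s, x j • e j) = 0 := by
      rw [h27_sfo_polar_sum_right Q hQ]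
      refine Finset.sum_eq_zero (fun j hj => ?_)
      have hne : a ≠ j := fun h => ha (h ▸ hj)
      rw [hQ.polar_bilinear.smul_left, horth a j hne, mul_zero, mul_zero]
    rw [hpol, hz, add_zero, ih, hQ.smul, mul_comm]

/-- With an orthogonal basis, `sfoCount Q c` is the number of solutions of the diagonal equation. -/
theorem h27_sfo_count_coord {F : Type*} [Field F] [Fintype F] [DecidableEq F] {n : ℕ}
    (Q : (Fin n → F) → F) (hQ : IsNondegenerateQuadraticForm Q)
    (e : Fin n → (Fin n → F)) (he : LinearIndependent F e)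
    (horth : ∀ i j, i ≠ j → QuadraticMap.polar Q (e i) (e j) = 0) (c : F) :
    sfoCount Q c =
      (Finset.univ.filter (fun x : Fin n → F => ∑ j, Q (e j) * x j ^ 2 = c)).card := by
  classical
  have hspan : Submodule.span F (Set.range e) = ⊤ :=
    he.span_eq_top_of_card_eq_finrank' (by simp)
  let b : Basis (Fin n) F (Fin n → F) := Basis.mk he (by rw [hspan])
  have hb : ∀ i, b i = e i := fun i => by
    simp only [b, Basis.coe_mk]
  have key : ∀ v : Fin n → F, Q v = ∑ j, Q (e j) * (b.equivFun v j) ^ 2 := by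
    intro v
    have hv : v = ∑ i, b.equivFun v i • e i := by
      conv_lhs => rw [← b.sum_equivFun v]
      exact Finset.sum_congr rfl (fun i _ => by rw [hb i])
    conv_lhs => rw [hv]
    exact h27_sfo_coord Q hQ e horth _ Finset.univ
  unfold sfoCount
  rw [Nat.card_eq_fintype_card, Fintype.card_subtype]
  refine Finset.card_bij (fun v _ => b.equivFun v) ?_ ?_ ?_
  · intro v hv
    rw [Finset.mem_filter] at hv ⊢
    exact ⟨Finset.mem_univ _, by rw [← key v]; exact hv.2⟩
  · intro v _ w _ h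
    exact b.equivFun.injective h
  · intro x hx
    rw [Finset.mem_filter] at hx
    refine ⟨b.equivFun.symm x, ?_, LinearEquiv.apply_symm_apply _ _⟩
    rw [Finset.mem_filter]
    refine ⟨Finset.mem_univ _, ?_⟩
    rw [key, LinearEquiv.apply_symm_apply]
    exact hx.2

/-- CNTE, core: the diagonal count (CNTDE) is a hypothesis. -/
theorem h27_sfo_count_even_core {F : Type*} [Field F] [Fintype F] [DecidableEq F] (h2 : (2 : F) ≠ 0)
    (hDE : ∀ (k : ℕ) (d : Fin (2 * k) → F), (∀ j, d j ≠ 0) →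
      ∃ ε : ℤ, (ε = 1 ∨ ε = -1) ∧ ∀ c : F, c ≠ 0 →
        ((Finset.univ.filter (fun x : Fin (2 * k) → F => ∑ j, d j * x j ^ 2 = c)).card : ℤ) =
          (Fintype.card F : ℤ) ^ (k - 1) * ((Fintype.card F : ℤ) ^ k - ε))
    (d k : ℕ) (hdk : d = 2 * k) (Q : (Fin d → F) → F) (hQ : IsNondegenerateQuadraticForm Q) :
    ∃ ε : ℤ, (ε = 1 ∨ ε = -1) ∧ ∀ c : F, c ≠ 0 →
      (sfoCount Q c : ℤ) = (Fintype.card F : ℤ) ^ (k - 1) * ((Fintype.card F : ℤ) ^ k - ε) := by
  subst hdk
  obtain ⟨e, he, horth, hne⟩ := sfo_orth_basis h2 Q hQ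
  obtain ⟨ε, hε, h⟩ := hDE k (fun j => Q (e j)) hne
  refine ⟨ε, hε, fun c hc => ?_⟩
  rw [h27_sfo_count_coord Q hQ e he horth c]
  exact h c hc

/-- CNTO, core: the diagonal count (CNTDO) is a hypothesis. -/
theorem h27_sfo_count_odd_core {F : Type*} [Field F] [Fintype F] [DecidableEq F] (h2 : (2 : F) ≠ 0)
    (hDO : ∀ (k : ℕ) (d : Fin (2 * k + 1) → F), (∀ j, d j ≠ 0) →
      ∃ E : ℤ, (E = 1 ∨ E = -1) ∧
        (∀ c : F, c ≠ 0 → IsSquare c →
          ((Finset.univ.filter (fun x : Fin (2 * k + 1) → F => ∑ j, d j * x j ^ 2 = c)).card : ℤ) =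
            (Fintype.card F : ℤ) ^ k * ((Fintype.card F : ℤ) ^ k + E)) ∧
        (∀ c : F, c ≠ 0 → ¬ IsSquare c →
          ((Finset.univ.filter (fun x : Fin (2 * k + 1) → F => ∑ j, d j * x j ^ 2 = c)).card : ℤ) =
            (Fintype.card F : ℤ) ^ k * ((Fintype.card F : ℤ) ^ k - E)))
    (d k : ℕ) (hdk : d = 2 * k + 1) (Q : (Fin d → F) → F) (hQ : IsNondegenerateQuadraticForm Q) :
    ∃ E : ℤ, (E = 1 ∨ E = -1) ∧
      (∀ c : F, c ≠ 0 → IsSquare c →
        (sfoCount Q c : ℤ) = (Fintype.card F : ℤ) ^ k * ((Fintype.card F : ℤ) ^ k + E)) ∧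
      (∀ c : F, c ≠ 0 → ¬ IsSquare c →
        (sfoCount Q c : ℤ) = (Fintype.card F : ℤ) ^ k * ((Fintype.card F : ℤ) ^ k - E)) := by
  subst hdk
  obtain ⟨e, he, horth, hne⟩ := sfo_orth_basis h2 Q hQ
  obtain ⟨E, hE, h1, h2'⟩ := hDO k (fun j => Q (e j)) hne
  refine ⟨E, hE, fun c hc hsq => ?_, fun c hc hsq => ?_⟩
  · rw [h27_sfo_count_coord Q hQ e he horth c]
    exact h1 c hc hsq
  · rw [h27_sfo_count_coord Q hQ e he horth c]
    exact h2' c hc hsq

end Cfsg.Agent.Lib.helper24
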