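import Mathlib
import Cfsg.Prelude.Def_GeometricClasses
import Cfsg.Agent.Lib.helper24.SfoDefs
import Cfsg.Agent.Lib.helper27.SfoCNTcore

/-!
# S5977/S5978 block [A], leaf KUNIQ, piece NFB: an orthogonal family gives a diagonalizing
coordinate change
-/

set_option autoImplicit false

namespace Cfsg.Agent.Lib.helper2

open Cfsg.Geo Matrix Cfsg.Agent.Lib.helper24

/-- NFB -/
theorem qfu_diag_of_family {E : Type*} [Field E] {n : ℕ} (h2 : (2 : E) ≠ 0)
    (Q : (Fin n → E) → E) (hQ : IsNondegenerateQuadraticForm Q)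
    (e : Fin n → (Fin n → E)) (horth : ∀ i j, i ≠ j → QuadraticMap.polar Q (e i) (e j) = 0)
    (hne : ∀ j, Q (e j) ≠ 0) :
    ∃ P : GL (Fin n) E, ∀ x : Fin n → E,
      Q ((P : Matrix (Fin n) (Fin n) E) *ᵥ x) = ∑ j, Q (e j) * x j ^ 2 := by
  classical
  have hmv : ∀ x : Fin n → E, (Matrix.of (fun i j => e j i) : Matrix (Fin n) (Fin n) E) *ᵥ x =
      ∑ j, x j • e j := by
    intro x
    funext i
    simp only [Matrix.mulVec, dotProduct, Matrix.of_apply, Finset.sum_apply, Pi.smul_apply,
      smul_eq_mul]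
    exact Finset.sum_congr rfl (fun j _ => mul_comm _ _)
  have hQ0 : Q 0 = 0 := by
    have h := hQ.smul 0 (0 : Fin n → E)
    simpa using h
  have hinj : Function.Injective
      (Matrix.of (fun i j => e j i) : Matrix (Fin n) (Fin n) E).mulVec := by
    intro x y hxy
    have hsub : (Matrix.of (fun i j => e j i) : Matrix (Fin n) (Fin n) E) *ᵥ (x - y) = 0 := by
      rw [Matrix.mulVec_sub, hxy, sub_self]
    rw [hmv] at hsub
    have hz : ∀ i, (x - y) i = 0 := by
      intro i
      have h1 : QuadraticMap.polar Q (e i) (∑ j, (x - y) j • e j) =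
          ∑ j, (x - y) j * QuadraticMap.polar Q (e i) (e j) :=
        h27_sfo_polar_sum_right Q hQ Finset.univ (x - y) e (e i)
      rw [hsub] at h1
      have h0 : QuadraticMap.polar Q (e i) 0 = 0 := by
        simp only [QuadraticMap.polar, add_zero, hQ0]; ring
      rw [h0, Finset.sum_eq_single i (fun j _ hji => by rw [horth i j (Ne.symm hji), mul_zero])
        (fun h => absurd (Finset.mem_univ i) h)] at h1
      have hii : QuadraticMap.polar Q (e i) (e i) = 2 * Q (e i) := by
        have h4 : Q (e i + e i) = 4 * Q (e i) := by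
          rw [← two_smul E (e i), hQ.smul]; ring
        simp only [QuadraticMap.polar, h4]; ring
      rw [hii] at h1
      have h3 : (x - y) i * (2 * Q (e i)) = 0 := h1.symm
      rcases mul_eq_zero.mp h3 with h | h
      · exact h
      · exact absurd h (mul_ne_zero h2 (hne i))
    funext i
    have := hz i
    simpa [sub_eq_zero] using this
  have hU : IsUnit (Matrix.of (fun i j => e j i) : Matrix (Fin n) (Fin n) E) :=
    Matrix.mulVec_injective_iff_isUnit.mp hinj
  refine ⟨hU.unit, fun x => ?_⟩
  rw [IsUnit.unit_spec, hmv]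
  exact h27_sfo_coord Q hQ e horth x Finset.univ

end Cfsg.Agent.Lib.helper2
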