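import Mathlib
import Cfsg.Agent.Lib.helper21.BRDefs
import Cfsg.Agent.Lib.helper83.CharBasic2
import Cfsg.Agent.Lib.helper81.CharBasic

set_option autoImplicit false

/-!
# S0999 piece M11 (core): configuration II with `a ≥ 1` is impossible (Frobenius–Schur count)

`h27_invol_count`: an involution `s` with `|C_G(s)| ∣ m`, `|G| = m k`, gives at least `1 + k`
solutions of `g ^ 2 = 1`.  `h27_configII_core`: the statement of M11 with the other pieces
(GT5/GT6, CH4, AR5) taken as hypotheses.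
-/

namespace Cfsg.Agent.Lib.helper21.BR

open Cfsg Cfsg.Agent.Lib.helper21

universe u

section Chars

variable {G : Type u} [Group G] [Fintype G]

/-- an involution whose centralizer has order dividing `m`, in a group of order `m k`: at least
`1 + k` solutions of `g ^ 2 = 1`. -/
theorem h27_invol_count (s : G) (hs : orderOf s = 2) (m k : ℕ) (hm : m ≠ 0)
    (hC : Nat.card (Subgroup.centralizer ({s} : Set G)) ∣ m) (hcard : Nat.card G = m * k) :
    1 + k ≤ Nat.card {g : G // g ^ 2 = 1} := by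
  classical
  have hs1 : s ≠ 1 := by
    intro h
    rw [h, orderOf_one] at hs
    omega
  have hs2 : s ^ 2 = 1 := by rw [← hs]; exact pow_orderOf_eq_one s
  have hwd : ∀ x y : G, QuotientGroup.leftRel (Subgroup.centralizer ({s} : Set G)) x y →
      x * s * x⁻¹ = y * s * y⁻¹ := by
    intro x y hxy
    have hxy' : x⁻¹ * y ∈ Subgroup.centralizer ({s} : Set G) :=
      QuotientGroup.leftRel_apply.mp hxy
    have hcomm : (x⁻¹ * y) * s = s * (x⁻¹ * y) := Subgroup.mem_centralizer_singleton_iff.mp hxy'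
    have h3 : (x⁻¹ * y) * s * (x⁻¹ * y)⁻¹ = s := by rw [hcomm]; group
    calc x * s * x⁻¹ = x * ((x⁻¹ * y) * s * (x⁻¹ * y)⁻¹) * x⁻¹ := by rw [h3]
      _ = y * s * y⁻¹ := by group
  let f : G ⧸ Subgroup.centralizer ({s} : Set G) → {g : G // g ^ 2 = 1} := fun q =>
    Quotient.liftOn' q (fun g => (⟨g * s * g⁻¹, by
      have : (g * s * g⁻¹) ^ 2 = g * s ^ 2 * g⁻¹ := by rw [pow_two, pow_two]; group
      rw [this, hs2]; group⟩ : {g : G // g ^ 2 = 1}))
      (fun x y hxy => Subtype.ext (hwd x y hxy))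
  have hf : Function.Injective f := by
    intro q₁ q₂
    refine Quotient.inductionOn₂' q₁ q₂ (fun x y hxy => ?_)
    have hxy' : x * s * x⁻¹ = y * s * y⁻¹ := congrArg Subtype.val hxy
    apply Quotient.sound'
    rw [QuotientGroup.leftRel_apply, Subgroup.mem_centralizer_singleton_iff]
    calc x⁻¹ * y * s = x⁻¹ * (y * s * y⁻¹) * y := by group
      _ = x⁻¹ * (x * s * x⁻¹) * y := by rw [hxy']
      _ = s * (x⁻¹ * y) := by group
  have hnot : (⟨1, one_pow 2⟩ : {g : G // g ^ 2 = 1}) ∉ Set.range f := by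
    rintro ⟨q, hq⟩
    revert hq
    refine Quotient.inductionOn' q (fun x hx => ?_)
    have hx' : x * s * x⁻¹ = 1 := congrArg Subtype.val hx
    apply hs1
    calc s = x⁻¹ * (x * s * x⁻¹) * x := by group
      _ = 1 := by rw [hx']; group
  let instQ : Fintype (G ⧸ Subgroup.centralizer ({s} : Set G)) := Fintype.ofFinite _
  have hlt := Fintype.card_lt_of_injective_of_notMem f hf hnot
  rw [← Nat.card_eq_fintype_card, ← Nat.card_eq_fintype_card] at hlt
  have hidx : Nat.card (Subgroup.centralizer ({s} : Set G)) *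
      (Subgroup.centralizer ({s} : Set G)).index = Nat.card G :=
    Subgroup.card_mul_index _
  have hidx' : (Subgroup.centralizer ({s} : Set G)).index =
      Nat.card (G ⧸ Subgroup.centralizer ({s} : Set G)) := rfl
  obtain ⟨j, hj⟩ := hC
  have hj0 : j ≠ 0 := by
    rintro rfl
    exact hm (by rw [hj, mul_zero])
  have hc0 : 0 < Nat.card (Subgroup.centralizer ({s} : Set G)) := Nat.card_pos
  have hk : (Subgroup.centralizer ({s} : Set G)).index = j * k := by
    have h1 : Nat.card (Subgroup.centralizer ({s} : Set G)) *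
        (Subgroup.centralizer ({s} : Set G)).index =
        Nat.card (Subgroup.centralizer ({s} : Set G)) * (j * k) := by
      rw [hidx, hcard, hj, mul_assoc]
    exact Nat.eq_of_mul_eq_mul_left hc0 h1
  have hk2 : k ≤ j * k := Nat.le_mul_of_pos_left k (Nat.pos_of_ne_zero hj0)
  rw [← hidx', hk] at hlt
  omega

/-- M11 with the other pieces as hypotheses. -/
theorem h27_configII_core {p : ℕ} [Fact p.Prime] {P : Sylow p G} {e t : ℕ}
    {X Y : Finset (IrrCharacter G)} {εX : IrrCharacter G → ℤ} {ε : ℤ} {f₀ : ℕ}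
    [Fintype (IrrCharacter G)] (h : BRSelf p P e t X Y εX ε f₀) (hε : ε = -1) (a : ℕ)
    (hea : e = 2 + a * t)
    (hcnt : (X.filter (fun χ => εX χ = -1)).card = a * (t - 1) + 1)
    (hdvd : ∀ ψ : IrrCharacter G, ψ ∉ X → ψ ∉ Y → p ∣ charDegree (ψ : G → ℂ))
    (hC : ∀ s : G, orderOf s = 2 → Nat.card (Subgroup.centralizer ({s} : Set G)) ∣ p - 1)
    (hFS : Nat.card {g : G // g ^ 2 = 1} ≤ ∑ ψ : IrrCharacter G, charDegree (ψ : G → ℂ))
    (hAR : ∀ O : ℕ, p * O + (1 + a * (1 + (t - 1) * p) ^ 2 + (a * (t - 1) + 1) * (p - 1) ^ 2 +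
      t * (p - e) ^ 2) ≤ p * (p - 1) * (p - e) →
      1 + a * (1 + (t - 1) * p) + (a * (t - 1) + 1) * (p - 1) + t * (p - e) + O <
      1 + p * (p - e)) : False := by
  classical
  have hp : p.Prime := Fact.out
  have het := h.et
  have ht := h.t_ge
  have he := h.e_ge
  -- `p` is odd
  have het6 : 6 ≤ e * t := by nlinarith
  have hp7 : 7 ≤ p := by omega
  have hodd : Odd p := by
    rcases hp.eq_two_or_odd' with h2 | h2
    · omega
    · exact h2
  have h2dvd : 2 ∣ p - 1 := by
    obtain ⟨k, hk⟩ := hodd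
    exact ⟨k, by omega⟩
  have h2G : 2 ∣ Nat.card G := by
    rw [h.cardG]
    exact Dvd.dvd.mul_right (Dvd.dvd.mul_left h2dvd p) (p - e)
  have hfact2 : Fact (Nat.Prime 2) := ⟨Nat.prime_two⟩
  obtain ⟨s, hs⟩ := exists_prime_orderOf_dvd_card' 2 h2G
  have hinv : 1 + p * (p - e) ≤ Nat.card {g : G // g ^ 2 = 1} :=
    h27_invol_count s hs (p - 1) (p * (p - e)) (by omega) (hC s hs) (by rw [h.cardG]; ring)
  -- the degrees
  have htriv : charDegree ((trivIrr G : IrrCharacter G) : G → ℂ) = 1 := by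
    simp [charDegree, trivIrr]
  have hXm : ∀ χ ∈ X.filter (fun χ => εX χ = -1), charDegree (χ : G → ℂ) = p - 1 := by
    intro χ hχ
    rw [Finset.mem_filter] at hχ
    rcases h.degX χ hχ.1 with h1 | h1 | h1
    · rw [h1, h.data.one_sgn] at hχ
      omega
    · omega
    · exact h1.2
  have htrivmem : trivIrr G ∈ X.filter (fun χ => ¬ εX χ = -1) := by
    rw [Finset.mem_filter]
    refine ⟨h.data.one_mem, ?_⟩
    rw [h.data.one_sgn]
    omega
  have hXn : ∀ χ ∈ (X.filter (fun χ => ¬ εX χ = -1)).erase (trivIrr G),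
      charDegree (χ : G → ℂ) = 1 + (t - 1) * p := by
    intro χ hχ
    rw [Finset.mem_erase, Finset.mem_filter] at hχ
    rcases h.degX χ hχ.2.1 with h1 | h1 | h1
    · exact absurd h1 hχ.1
    · exact h1.2
    · exact absurd h1.1 hχ.2.2
  have hY : ∀ θ ∈ Y, charDegree (θ : G → ℂ) = p - e := by
    intro θ hθ
    rw [h.degY θ hθ]
    rcases h.fcases with h1 | h1
    · omega
    · exact h1.2
  -- cardinalities
  have hYcard : Y.card = t := by
    have h1 := h.data.cardY
    rw [← het, mul_comm] at h1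
    exact Nat.eq_of_mul_eq_mul_left (by omega) h1
  have hat : a * t = a * (t - 1) + a := by
    obtain ⟨u, rfl⟩ : ∃ u, t = u + 1 := ⟨t - 1, by omega⟩
    simp only [Nat.add_sub_cancel]
    ring
  have hXcard := Finset.card_filter_add_card_filter_not (s := X) (fun χ => εX χ = -1)
  rw [h.data.cardX, hcnt] at hXcard
  have hXncard : ((X.filter (fun χ => ¬ εX χ = -1)).erase (trivIrr G)).card = a := by
    rw [Finset.card_erase_of_mem htrivmem]
    omega
  -- the splitting of sums
  have key : ∀ F : ℕ → ℕ, ∑ ψ : IrrCharacter G, F (charDegree (ψ : G → ℂ)) =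
      F 1 + a * F (1 + (t - 1) * p) + (a * (t - 1) + 1) * F (p - 1) + t * F (p - e) +
        ∑ ψ ∈ (X ∪ Y)ᶜ, F (charDegree (ψ : G → ℂ)) := by
    intro F
    have e1 : ∑ χ ∈ X.filter (fun χ => εX χ = -1), F (charDegree (χ : G → ℂ)) =
        (a * (t - 1) + 1) * F (p - 1) := by
      rw [Finset.sum_const_nat (m := F (p - 1)) (fun χ hχ => by rw [hXm χ hχ]), hcnt]
    have e2 : ∑ χ ∈ X.filter (fun χ => ¬ εX χ = -1), F (charDegree (χ : G → ℂ)) =
        F 1 + a * F (1 + (t - 1) * p) := by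
      rw [← Finset.add_sum_erase _ _ htrivmem, htriv,
        Finset.sum_const_nat (m := F (1 + (t - 1) * p)) (fun χ hχ => by rw [hXn χ hχ]), hXncard]
    have e3 : ∑ θ ∈ Y, F (charDegree (θ : G → ℂ)) = t * F (p - e) := by
      rw [Finset.sum_const_nat (m := F (p - e)) (fun θ hθ => by rw [hY θ hθ]), hYcard]
    rw [← Finset.sum_add_sum_compl (X ∪ Y), Finset.sum_union h.data.disj,
      ← Finset.sum_filter_add_sum_filter_not X (fun χ => εX χ = -1), e1, e2, e3]
    ring
  have k1 := key (fun x => x)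
  have k2 := key (fun x => x ^ 2)
  beta_reduce at k1 k2
  have hsq := Cfsg.Agent.Lib.helper83.sum_charDegree_sq (G := G)
  rw [finsum_eq_sum_of_fintype, h.cardG] at hsq
  have hR : p * ∑ ψ ∈ (X ∪ Y)ᶜ, charDegree (ψ : G → ℂ) ≤
      ∑ ψ ∈ (X ∪ Y)ᶜ, charDegree (ψ : G → ℂ) ^ 2 := by
    rw [Finset.mul_sum]
    apply Finset.sum_le_sum
    intro ψ hψ
    rw [Finset.mem_compl, Finset.mem_union, not_or] at hψ
    obtain ⟨k, hk⟩ := hdvd ψ hψ.1 hψ.2
    rw [hk]
    rcases Nat.eq_zero_or_pos k with h0 | h0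
    · rw [h0]; simp
    · calc p * (p * k) ≤ p * (p * k) * k := Nat.le_mul_of_pos_right _ h0
        _ = (p * k) ^ 2 := by ring
  have hlt := hAR (∑ ψ ∈ (X ∪ Y)ᶜ, charDegree (ψ : G → ℂ)) (by
    rw [← hsq, k2]
    simp only [one_pow]
    linarith)
  linarith

end Chars

end Cfsg.Agent.Lib.helper21.BR
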