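import Mathlib

set_option autoImplicit false

/-!
# S0999: the arithmetic used in piece M11 (own copy of AR5, helper27)
-/

namespace Cfsg.Agent.Lib.helper21.BR

/-- the Frobenius–Schur arithmetic of configuration II (same statement as AR5 `fs_arith`). -/
theorem h27_fs_arith (p e t a O : ℕ) (het : e * t = p - 1) (hea : e = 2 + a * t) (ha : 1 ≤ a)
    (ht : 3 ≤ t)
    (hO : p * O + (1 + a * (1 + (t - 1) * p) ^ 2 + (a * (t - 1) + 1) * (p - 1) ^ 2 +
      t * (p - e) ^ 2) ≤ p * (p - 1) * (p - e)) :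
    1 + a * (1 + (t - 1) * p) + (a * (t - 1) + 1) * (p - 1) + t * (p - e) + O <
      1 + p * (p - e) := by
  obtain ⟨u, rfl⟩ : ∃ u, t = u + 3 := ⟨t - 3, by omega⟩
  obtain ⟨b, rfl⟩ : ∃ b, a = b + 1 := ⟨a - 1, by omega⟩
  have hpos : 0 < e * (u + 3) := by rw [hea]; positivity
  have hp : p = e * (u + 3) + 1 := by omega
  have h1 : p - 1 = e * (u + 3) := by omega
  have h2 : p - e = e * (u + 2) + 1 := by
    have h4 : e * (u + 3) = e * (u + 2) + e := by ring
    omega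
  have h3 : u + 3 - 1 = u + 2 := by omega
  rw [h1, h2, h3] at hO ⊢
  have key1 : 1 + (b + 1) * (1 + (u + 2) * p) ^ 2 + ((b + 1) * (u + 2) + 1) * (e * (u + 3)) ^ 2
      + (u + 3) * (e * (u + 2) + 1) ^ 2 + (u + 2) * p ^ 2
      = p * (e * (u + 3)) * (e * (u + 2) + 1) := by
    subst hp
    subst hea
    ring
  have hO2 : p * O ≤ p * ((u + 2) * p) := by
    have h5 : p * ((u + 2) * p) = (u + 2) * p ^ 2 := by ring
    rw [h5]
    omega
  have hO3 : O ≤ (u + 2) * p := Nat.le_of_mul_le_mul_left hO2 (by omega)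
  have key2 : (b + 1) * (1 + (u + 2) * p) + ((b + 1) * (u + 2) + 1) * (e * (u + 3))
      + (u + 3) * (e * (u + 2) + 1) + (u + 2) * p + 1
      + (32 + 51*b + 104*b*u + 71*b*u^2 + 20*b*u^3 + 2*b*u^4 + 18*b^2 + 39*b^2*u + 29*b^2*u^2
        + 9*b^2*u^3 + 1*b^2*u^4 + 65*u + 42*u^2 + 11*u^3 + 1*u^4)
      = p * (e * (u + 2) + 1) := by
    subst hp
    subst hea
    ring
  omega

end Cfsg.Agent.Lib.helper21.BR
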