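import Mathlib
import Cfsg.Agent.Lib.helper21.BRDefs
import Cfsg.Agent.Lib.helper27.BR_M11a
import Cfsg.Agent.Lib.helper75.BR_AR4
import Cfsg.Agent.Lib.helper27.BR_M11b
import Cfsg.Agent.Lib.helper72.BR_CH4
import Cfsg.Agent.Lib.helper78.BR_GT5
import Cfsg.Agent.Lib.helper78.BR_GT6

set_option autoImplicit false

/-!
# S0999 piece M11: configuration II with `a ≥ 1` is impossible (assembly of the core with
GT5, GT6, CH4, AR4 and an own copy of AR5)
-/

namespace Cfsg.Agent.Lib.helper21.BR

open Cfsg Cfsg.Agent.Lib.helper21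

universe u

section Chars

variable {G : Type u} [Group G] [Fintype G]
variable {p : ℕ} [Fact p.Prime] {P : Sylow p G}
variable {e t : ℕ} {X Y : Finset (IrrCharacter G)} {εX : IrrCharacter G → ℤ} {ε : ℤ}
  {f₀ : ℕ}

/-- M11 -/
theorem configII_false (h : BRSelf p P e t X Y εX ε f₀) (hε : ε = -1) (a : ℕ) (ha : 1 ≤ a)
    (hea : e = 2 + a * t)
    (hcnt : (X.filter (fun χ => εX χ = -1)).card = a * (t - 1) + 1)
    (hdvd : ∀ ψ : IrrCharacter G, ψ ∉ X → ψ ∉ Y → p ∣ charDegree (ψ : G → ℂ))
    (hmix : ∀ g : G, ¬ p ∣ orderOf g → ∀ r r' : ℕ, r.Prime → r'.Prime → r ∣ p - 1 →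
      r' ∣ p - e → r ∣ orderOf g → r' ∣ orderOf g → False) : False := by
  classical
  let instI : Fintype (IrrCharacter G) := Fintype.ofFinite _
  have hp : p.Prime := Fact.out
  have het := h.et
  have ht := h.t_ge
  have he := h.e_ge
  have het6 : 6 ≤ e * t := by nlinarith
  have hp7 : 7 ≤ p := by omega
  have hodd : Odd p := by
    rcases hp.eq_two_or_odd' with h2 | h2
    · omega
    · exact h2
  have heven : Even (p - 1) := by
    obtain ⟨k, hk⟩ := hodd
    exact ⟨k, by omega⟩
  have hep : e < p := by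
    have : e ≤ e * t := Nat.le_mul_of_pos_right e (by omega)
    omega
  have hcop := coprime_of_config p e t a het hea hp.two_le
  have hpa : Nat.Coprime p (p - 1) := by
    rw [Nat.Prime.coprime_iff_not_dvd hp]
    intro hd
    exact absurd (Nat.le_of_dvd (by omega) hd) (by omega)
  have hpb : Nat.Coprime p (p - e) := by
    rw [Nat.Prime.coprime_iff_not_dvd hp]
    intro hd
    exact absurd (Nat.le_of_dvd (by omega) hd) (by omega)
  have hord := order_eq_of_dvd p P h.cardP h.cardC
  exact h27_configII_core h hε a hea hcnt hdvd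
    (fun s hs => invol_centralizer_dvd p (p - 1) (p - e) h.cardG hpa hpb hcop heven hord hmix
      s hs)
    fs_bound
    (fun O hO => h27_fs_arith p e t a O het hea ha ht hO)

end Chars

end Cfsg.Agent.Lib.helper21.BR
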