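import Mathlib
import Cfsg.Agent.Lib.helper44.PresDefs
import Cfsg.Agent.Lib.helper45.SLGen
import Cfsg.Agent.Lib.helper77.PresMATa

/-! # S2286, piece MATc: `SL₂(F)` is generated by `mU 1`, `mT`, `mH ζ` -/

set_option autoImplicit false

namespace Cfsg.Agent.Lib.helper44.Pres

open Polynomial

/-- (MATc) the three matrices generate `SL₂(F)` as soon as `F_p[(ζ²)^i] = F`. -/
theorem mat_closure {F : Type*} [Field F] [Fintype F] {p : ℕ} [Fact p.Prime]
    [Algebra (ZMod p) F] (ζ : Fˣ) (i : ℕ)
    (hμ : Algebra.adjoin (ZMod p) {((ζ : F) ^ 2) ^ i} = ⊤) :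
    Subgroup.closure (Set.range ![mU F 1, mT F, mH ζ]) = ⊤ := by
  classical
  set H := Subgroup.closure (Set.range ![mU F 1, mT F, mH ζ]) with hH
  have hU : mU F 1 ∈ H := Subgroup.subset_closure ⟨0, rfl⟩
  have hT : mT F ∈ H := Subgroup.subset_closure ⟨1, rfl⟩
  have hHm : mH ζ ∈ H := Subgroup.subset_closure ⟨2, rfl⟩
  have h0 : mU F 0 = 1 := by
    have h := mU_pow (F := F) 1 0
    simpa using h.symm
  -- the submodule of parameters
  let A : Submodule (ZMod p) F :=
    { carrier := {a | mU F a ∈ H}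
      add_mem' := by
        intro a b ha hb
        show mU F (a + b) ∈ H
        rw [← mU_mul]
        exact H.mul_mem ha hb
      zero_mem' := by
        show mU F 0 ∈ H
        rw [h0]
        exact H.one_mem
      smul_mem' := by
        intro c a ha
        show mU F (c • a) ∈ H
        have hc : c • a = c.val • a := by
          conv_lhs => rw [← ZMod.natCast_zmod_val c]
          exact Nat.cast_smul_eq_nsmul _ _ _
        rw [hc, ← mU_pow]
        exact H.pow_mem ha _ }
  have hA1 : (1 : F) ∈ A := hU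
  have hAμ : ∀ a ∈ A, ((ζ : F) ^ 2) ^ i * a ∈ A := by
    intro a ha
    show mU F (((ζ : F) ^ 2) ^ i * a) ∈ H
    rw [← mH_pow_conj ζ i a]
    exact H.mul_mem (H.mul_mem (H.pow_mem hHm i) ha) (H.inv_mem (H.pow_mem hHm i))
  have hApow : ∀ k : ℕ, (((ζ : F) ^ 2) ^ i) ^ k ∈ A := by
    intro k
    induction k with
    | zero => simpa using hA1
    | succ k ih =>
      rw [pow_succ']
      exact hAμ _ ih
  have hAtop : ∀ a : F, mU F a ∈ H := by
    intro a
    have h : a ∈ Algebra.adjoin (ZMod p) {((ζ : F) ^ 2) ^ i} := by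
      rw [hμ]
      exact Algebra.mem_top
    rw [Algebra.adjoin_singleton_eq_range_aeval] at h
    obtain ⟨f, rfl⟩ := h
    show aeval (((ζ : F) ^ 2) ^ i) f ∈ A
    rw [Polynomial.aeval_eq_sum_range]
    exact Submodule.sum_mem _ (fun k _ => A.smul_mem _ (hApow k))
  apply Cfsg.Agent.Lib.helper45.eq_top_of_transvection_mem
  intro j k hjk a
  have hup : Matrix.SpecialLinearGroup.transvection (zero_ne_one : (0 : Fin 2) ≠ 1) a = mU F a := by
    apply Subtype.ext
    rw [Matrix.SpecialLinearGroup.transvection_coe]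
    ext r s
    fin_cases r <;> fin_cases s <;> simp [mU, Matrix.single]
  have hlo : Matrix.SpecialLinearGroup.transvection (one_ne_zero : (1 : Fin 2) ≠ 0) a =
      mT F * mU F (-a) * (mT F)⁻¹ := by
    apply Subtype.ext
    rw [Matrix.SpecialLinearGroup.transvection_coe, Matrix.SpecialLinearGroup.coe_mul,
      Matrix.SpecialLinearGroup.coe_mul, Matrix.SpecialLinearGroup.coe_inv]
    have hTv : (mT F : Matrix (Fin 2) (Fin 2) F) = !![0, 1; -1, 0] := rfl
    have hUv : (mU F (-a) : Matrix (Fin 2) (Fin 2) F) = !![1, -a; 0, 1] := rfl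
    rw [hTv, hUv, Matrix.adjugate_fin_two_of, Matrix.mul_fin_two, Matrix.mul_fin_two]
    ext r s
    fin_cases r <;> fin_cases s <;> simp [Matrix.single]
  fin_cases j <;> fin_cases k
  · exact absurd rfl hjk
  · show Matrix.SpecialLinearGroup.transvection _ a ∈ H
    rw [show Matrix.SpecialLinearGroup.transvection hjk a = mU F a from hup]
    exact hAtop a
  · show Matrix.SpecialLinearGroup.transvection _ a ∈ H
    rw [show Matrix.SpecialLinearGroup.transvection hjk a = mT F * mU F (-a) * (mT F)⁻¹ from hlo]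
    exact H.mul_mem (H.mul_mem hT (hAtop _)) (H.inv_mem hT)
  · exact absurd rfl hjk

end Cfsg.Agent.Lib.helper44.Pres
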