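import Mathlib
import Cfsg.Agent.S1454
import Cfsg.Agent.Lib.helper30.NarrowIso
import Cfsg.Agent.Lib.helper40.Cores

/-!
# Group-theoretic lemmas for the TI-property of `F(M)` (statement S1372)

* `conjPermHom` : the conjugation action of `M ≤ N_G(P)` on `P` as a homomorphism `M →* Sym(P)`.
* `narrow_comm_centralizes` : if `P` is a narrow `p`-subgroup (`p` odd) normalized by the solvable
  subgroup `M` of odd order, every commutator `[a, b]` (`a, b ∈ M`) of order prime to `p`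
  centralizes `P`  (B-G Theorem 5.5(a) = S1454, applied to the regular representation of `P`
  inside `Sym(P)`, where the image of `M` acts faithfully).
* `comm_of_nilpotent` : in a nilpotent subgroup `F`, an element of prime order `p` centralizes
  every subgroup `S ≤ F` normalized by `F` whose order is prime to `p`.
* `exists_comm_eq` : if `k` normalizes the finite abelian subgroup `A` and `C_A(k) = 1`, every
  element of `A` is a commutator `k b k⁻¹ b⁻¹` with `b ∈ A`.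
-/

set_option autoImplicit false

namespace Cfsg.Agent.Lib.helper27.BGKP

open Cfsg Subgroup

variable {G : Type*} [Group G]

/-- The conjugation action of `M ≤ N_G(P)` on `P`, as a homomorphism into `Sym(P)`. -/
def conjPermHom (P M : Subgroup G) (h : M ≤ normalizer (P : Set G)) : ↥M →* Equiv.Perm ↥P where
  toFun m :=
    { toFun := fun x => ⟨(m : G) * x * (m : G)⁻¹, Subgroup.le_normalizer_iff.mp h m m.2 x x.2⟩
      invFun := fun x => ⟨(m : G)⁻¹ * x * (m : G), by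
        have h1 := Subgroup.le_normalizer_iff.mp h (m : G)⁻¹ (M.inv_mem m.2) x x.2
        rwa [inv_inv] at h1⟩
      left_inv := fun x => Subtype.ext (by
        show (m : G)⁻¹ * ((m : G) * x * (m : G)⁻¹) * (m : G) = x
        group)
      right_inv := fun x => Subtype.ext (by
        show (m : G) * ((m : G)⁻¹ * x * (m : G)) * (m : G)⁻¹ = x
        group) }
  map_one' := by
    apply Equiv.ext
    intro x
    apply Subtype.ext
    show ((1 : M) : G) * x * ((1 : M) : G)⁻¹ = x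
    simp
  map_mul' := fun a b => by
    apply Equiv.ext
    intro x
    apply Subtype.ext
    show ((a * b : M) : G) * x * ((a * b : M) : G)⁻¹ =
      (a : G) * ((b : G) * x * (b : G)⁻¹) * (a : G)⁻¹
    rw [Subgroup.coe_mul]
    group

theorem conjPermHom_apply (P M : Subgroup G) (h : M ≤ normalizer (P : Set G)) (m : M) (x : P) :
    ((conjPermHom P M h m) x : G) = (m : G) * x * (m : G)⁻¹ := rfl

/-- If `P` is a narrow `p`-subgroup (`p` odd) normalized by the solvable subgroup `M` of odd order,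
every commutator of elements of `M` whose order is prime to `p` centralizes `P`. -/
theorem narrow_comm_centralizes [Finite G] (p : ℕ) [Fact p.Prime] (hp2 : p ≠ 2) (P M : Subgroup G)
    (hMP : M ≤ normalizer (P : Set G)) (hP : IsPGroup p P) (hPn : IsNarrow p ↥P)
    (hMs : Group.IsSolvable M) (hMo : Odd (Nat.card M)) (a b : G) (ha : a ∈ M) (hb : b ∈ M)
    (n : ℕ) (hn : n.Coprime p) (hab : (a * b * a⁻¹ * b⁻¹) ^ n = 1) :
    ∀ x ∈ P, (a * b * a⁻¹ * b⁻¹) * x = x * (a * b * a⁻¹ * b⁻¹) := by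
  classical
  have hpp : p.Prime := Fact.out
  obtain ⟨φ, hφ⟩ : ∃ φ : ↥M →* Equiv.Perm ↥P, φ = conjPermHom P M hMP := ⟨_, rfl⟩
  obtain ⟨L, hL⟩ : ∃ L : ↥P →* Equiv.Perm ↥P, L = MulAction.toPermHom ↥P ↥P := ⟨_, rfl⟩
  have hLapp : ∀ (x y : ↥P), L x y = x * y := fun x y => by rw [hL]; rfl
  have hφapp : ∀ (m : ↥M) (y : ↥P), ((φ m y : ↥P) : G) = (m : G) * y * (m : G)⁻¹ :=
    fun m y => by rw [hφ]; rfl
  have hLinj : Function.Injective L := by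
    intro x y hxy
    have h1 := congrArg (fun τ : Equiv.Perm ↥P => τ 1) hxy
    simpa [hLapp] using h1
  have e : ↥P ≃* ↥L.range := MonoidHom.ofInjective hLinj
  have hR : IsPGroup p ↥L.range := hP.of_equiv e
  have hRn : IsNarrow p ↥L.range := Cfsg.Agent.Lib.helper30.isNarrow_of_mulEquiv p e hPn
  have hφinv : ∀ (m : ↥M) (y : ↥P), (((φ m)⁻¹ y : ↥P) : G) = (m : G)⁻¹ * y * (m : G) := by
    intro m y
    rw [← map_inv, hφapp]
    simp
  have hAR : φ.range ≤ normalizer ((L.range : Subgroup (Equiv.Perm ↥P)) : Set (Equiv.Perm ↥P)) := by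
    rw [Subgroup.le_normalizer_iff]
    rintro _ ⟨m, rfl⟩ _ ⟨x, rfl⟩
    refine ⟨φ m x, ?_⟩
    apply Equiv.ext
    intro y
    apply Subtype.ext
    rw [hLapp, Equiv.Perm.mul_apply, Equiv.Perm.mul_apply, hφapp, hLapp, Subgroup.coe_mul,
      Subgroup.coe_mul, hφapp, hφinv]
    group
  have hAs : Group.IsSolvable ↥φ.range := by
    have := hMs
    exact Group.isSolvable_of_surjective (f := φ.rangeRestrict) φ.rangeRestrict_surjective
  have hAo : Odd (Nat.card ↥φ.range) := Odd.of_dvd_nat hMo (Subgroup.card_range_dvd φ)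
  have hfaith : φ.range ⊓ centralizer ((L.range : Subgroup (Equiv.Perm ↥P)) : Set (Equiv.Perm ↥P)) = ⊥ := by
    rw [eq_bot_iff]
    rintro σ ⟨⟨m, rfl⟩, hc⟩
    rw [Subgroup.mem_bot]
    apply Equiv.ext
    intro y
    have h1 := Subgroup.mem_centralizer_iff.mp hc (L y) ⟨y, rfl⟩
    have h3 : φ m 1 = 1 := by
      apply Subtype.ext
      rw [hφapp]
      simp
    have h2 : (L y * φ m) 1 = (φ m * L y) 1 := by rw [h1]
    rw [Equiv.Perm.mul_apply, Equiv.Perm.mul_apply, hLapp, hLapp, h3, mul_one] at h2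
    rw [← h2]
    rfl
  obtain ⟨⟨hcomm, -⟩, -, -⟩ := Cfsg.Agent.S1454.result p hp2 L.range φ.range hR hRn hAR hAs hAo hfaith
  -- the commutator
  have hc1 : (⟨φ ⟨a, ha⟩, ⟨_, rfl⟩⟩ : ↥φ.range) * ⟨φ ⟨b, hb⟩, ⟨_, rfl⟩⟩ *
      (⟨φ ⟨a, ha⟩, ⟨_, rfl⟩⟩ : ↥φ.range)⁻¹ * (⟨φ ⟨b, hb⟩, ⟨_, rfl⟩⟩ : ↥φ.range)⁻¹ ∈
      Cfsg.pCore p ↥φ.range := by
    apply hcomm
    rw [_root_.commutator_def]
    exact Subgroup.commutator_mem_commutator (Subgroup.mem_top _) (Subgroup.mem_top _)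
  obtain ⟨j, hj⟩ := Cfsg.Agent.Lib.helper40.pCore_isPGroup p ↥φ.range ⟨_, hc1⟩
  have hj1 : (φ ⟨a, ha⟩ * φ ⟨b, hb⟩ * (φ ⟨a, ha⟩)⁻¹ * (φ ⟨b, hb⟩)⁻¹) ^ p ^ j = 1 := by
    have h1 := congrArg Subtype.val (congrArg Subtype.val hj)
    simpa using h1
  have hcm : φ ⟨a, ha⟩ * φ ⟨b, hb⟩ * (φ ⟨a, ha⟩)⁻¹ * (φ ⟨b, hb⟩)⁻¹ =
      φ ⟨a * b * a⁻¹ * b⁻¹, M.mul_mem (M.mul_mem (M.mul_mem ha hb) (M.inv_mem ha)) (M.inv_mem hb)⟩ := by
    rw [← map_inv, ← map_inv, ← map_mul, ← map_mul, ← map_mul]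
    rfl
  rw [hcm] at hj1
  have hn1 : (φ ⟨a * b * a⁻¹ * b⁻¹,
      M.mul_mem (M.mul_mem (M.mul_mem ha hb) (M.inv_mem ha)) (M.inv_mem hb)⟩) ^ n = 1 := by
    rw [← map_pow]
    have h1 : (⟨a * b * a⁻¹ * b⁻¹,
      M.mul_mem (M.mul_mem (M.mul_mem ha hb) (M.inv_mem ha)) (M.inv_mem hb)⟩ : ↥M) ^ n = 1 :=
      Subtype.ext (by rw [Subgroup.coe_pow]; exact hab)
    rw [h1, map_one]
  have h1 : (φ ⟨a * b * a⁻¹ * b⁻¹,
      M.mul_mem (M.mul_mem (M.mul_mem ha hb) (M.inv_mem ha)) (M.inv_mem hb)⟩) = 1 := by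
    have h2 := pow_gcd_eq_one.mpr ⟨hj1, hn1⟩
    have h3 : Nat.gcd (p ^ j) n = 1 := Nat.Coprime.pow_left j hn.symm
    rwa [h3, pow_one] at h2
  intro x hx
  have h4 := congrArg (fun τ : Equiv.Perm ↥P => ((τ ⟨x, hx⟩ : ↥P) : G)) h1
  simp only [hφapp, Equiv.Perm.coe_one, id] at h4
  calc a * b * a⁻¹ * b⁻¹ * x = (a * b * a⁻¹ * b⁻¹ * x * (a * b * a⁻¹ * b⁻¹)⁻¹) * (a * b * a⁻¹ * b⁻¹) := by
        group
    _ = x * (a * b * a⁻¹ * b⁻¹) := by rw [h4]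

/-- In a nilpotent subgroup `F`, an element `x` of prime order `p` centralizes every subgroup
`S ≤ F` normalized by `F` whose order is prime to `p`. -/
theorem comm_of_nilpotent [Finite G] (F S : Subgroup G) (hF : Group.IsNilpotent F)
    (hFS : F ≤ normalizer (S : Set G)) (p : ℕ) [Fact p.Prime] (x : G) (hx : x ∈ F)
    (hxp : x ^ p = 1) (hS : ¬ p ∣ Nat.card S) : ∀ y ∈ S, y ∈ F → x * y = y * x := by
  intro y hy hyF
  have hpp : p.Prime := Fact.out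
  have hzp : IsPGroup p (Subgroup.zpowers (⟨x, hx⟩ : ↥F)) := by
    intro z
    obtain ⟨z, hz⟩ := z
    obtain ⟨i, rfl⟩ := Subgroup.mem_zpowers_iff.mp hz
    refine ⟨1, Subtype.ext ?_⟩
    rw [pow_one]
    show ((⟨x, hx⟩ : ↥F) ^ i) ^ p = 1
    rw [← zpow_natCast, ← zpow_mul, mul_comm, zpow_mul, zpow_natCast]
    have h1 : (⟨x, hx⟩ : ↥F) ^ p = 1 := Subtype.ext (by rw [Subgroup.coe_pow]; exact hxp)
    rw [h1, one_zpow]
  obtain ⟨Q, hQ⟩ := hzp.exists_le_sylow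
  have hQn : (Q : Subgroup ↥F).Normal :=
    Sylow.normal_of_normalizerCondition Group.normalizerCondition_of_isNilpotent Q
  have hxQ : (⟨x, hx⟩ : ↥F) ∈ (Q : Subgroup ↥F) := hQ (Subgroup.mem_zpowers _)
  have hcQ : (⟨x, hx⟩ : ↥F) * ⟨y, hyF⟩ * (⟨x, hx⟩ : ↥F)⁻¹ * (⟨y, hyF⟩ : ↥F)⁻¹ ∈ (Q : Subgroup ↥F) := by
    have h1 : (⟨y, hyF⟩ : ↥F) * (⟨x, hx⟩ : ↥F)⁻¹ * (⟨y, hyF⟩ : ↥F)⁻¹ ∈ (Q : Subgroup ↥F) :=
      hQn.conj_mem _ ((Q : Subgroup ↥F).inv_mem hxQ) _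
    have h2 := (Q : Subgroup ↥F).mul_mem hxQ h1
    have h3 : (⟨x, hx⟩ : ↥F) * ((⟨y, hyF⟩ : ↥F) * (⟨x, hx⟩ : ↥F)⁻¹ * (⟨y, hyF⟩ : ↥F)⁻¹) =
        (⟨x, hx⟩ : ↥F) * ⟨y, hyF⟩ * (⟨x, hx⟩ : ↥F)⁻¹ * (⟨y, hyF⟩ : ↥F)⁻¹ := by group
    rwa [h3] at h2
  obtain ⟨j, hj⟩ := Q.isPGroup' ⟨_, hcQ⟩
  have hj' : (x * y * x⁻¹ * y⁻¹) ^ p ^ j = 1 := by
    have h1 := congrArg Subtype.val (congrArg Subtype.val hj)
    simpa using h1
  have hcS : x * y * x⁻¹ * y⁻¹ ∈ S :=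
    S.mul_mem (Subgroup.le_normalizer_iff.mp hFS x hx y hy) (S.inv_mem hy)
  have ho1 : orderOf (x * y * x⁻¹ * y⁻¹) ∣ p ^ j := orderOf_dvd_of_pow_eq_one hj'
  have ho2 : orderOf (x * y * x⁻¹ * y⁻¹) ∣ Nat.card S := by
    have h1 := orderOf_dvd_natCard (⟨_, hcS⟩ : ↥S)
    rwa [Subgroup.orderOf_mk] at h1
  have hcop : (p ^ j).Coprime (Nat.card S) :=
    Nat.Coprime.pow_left j ((Nat.Prime.coprime_iff_not_dvd hpp).mpr hS)
  have ho : orderOf (x * y * x⁻¹ * y⁻¹) = 1 := Nat.eq_one_of_dvd_coprimes hcop ho1 ho2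
  have h1 : x * y * x⁻¹ * y⁻¹ = 1 := orderOf_eq_one_iff.mp ho
  calc x * y = (x * y * x⁻¹ * y⁻¹) * (y * x) := by group
    _ = y * x := by rw [h1, one_mul]

/-- If `k` normalizes the finite abelian subgroup `A` and `C_A(k) = 1`, every element of `A` is a
commutator `k b k⁻¹ b⁻¹` with `b ∈ A`. -/
theorem exists_comm_eq [Finite G] (A : Subgroup G) (hAc : ∀ a ∈ A, ∀ b ∈ A, a * b = b * a)
    (k : G) (hkA : ∀ a ∈ A, k * a * k⁻¹ ∈ A) (hfpf : ∀ a ∈ A, k * a = a * k → a = 1) :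
    ∀ a ∈ A, ∃ b ∈ A, a = k * b * k⁻¹ * b⁻¹ := by
  have hinj : Function.Injective (fun b : ↥A =>
      (⟨k * b * k⁻¹ * (b : G)⁻¹, A.mul_mem (hkA b b.2) (A.inv_mem b.2)⟩ : ↥A)) := by
    intro u v huv
    have h1 : k * u * k⁻¹ * (u : G)⁻¹ = k * v * k⁻¹ * (v : G)⁻¹ := congrArg Subtype.val huv
    have hmem : (v : G)⁻¹ * u ∈ A := A.mul_mem (A.inv_mem v.2) u.2
    have h2 : k * ((v : G)⁻¹ * u) = (v : G)⁻¹ * u * k := by
      have hc1 : (k * v * k⁻¹) * (v : G)⁻¹ = (v : G)⁻¹ * (k * v * k⁻¹) :=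
        hAc _ (hkA v v.2) _ (A.inv_mem v.2)
      have hc2 : (k * u * k⁻¹) * (u : G)⁻¹ = (u : G)⁻¹ * (k * u * k⁻¹) :=
        hAc _ (hkA u u.2) _ (A.inv_mem u.2)
      have h3 : k * u * k⁻¹ = (k * v * k⁻¹ * (v : G)⁻¹) * u := by
        rw [← h1]; group
      have h4 : k * ((v : G)⁻¹ * u) * k⁻¹ = (v : G)⁻¹ * u := by
        calc k * ((v : G)⁻¹ * u) * k⁻¹ = (k * v * k⁻¹)⁻¹ * (k * u * k⁻¹) := by group
          _ = (k * v * k⁻¹)⁻¹ * ((k * v * k⁻¹ * (v : G)⁻¹) * u) := by rw [← h3]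
          _ = (v : G)⁻¹ * u := by group
      calc k * ((v : G)⁻¹ * u) = (k * ((v : G)⁻¹ * u) * k⁻¹) * k := by group
        _ = (v : G)⁻¹ * u * k := by rw [h4]
    have h5 := hfpf _ hmem h2
    apply Subtype.ext
    calc (u : G) = v * ((v : G)⁻¹ * u) := by group
      _ = v := by rw [h5, mul_one]
  have hsurj := Finite.surjective_of_injective hinj
  intro a ha
  obtain ⟨b, hb⟩ := hsurj ⟨a, ha⟩
  exact ⟨b, b.2, (congrArg Subtype.val hb).symm⟩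

end Cfsg.Agent.Lib.helper27.BGKP
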