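import Mathlib
import Cfsg.Agent.S1350
import Cfsg.Agent.S1403
import Cfsg.Agent.S1404
import Cfsg.Agent.S1423
import Cfsg.Agent.S1417
import Cfsg.Agent.S1429
import Cfsg.Agent.Lib.helper27.BGKPrime
import Cfsg.Agent.Lib.helper27.BGKTIa
import Cfsg.Agent.Lib.helper69.BGKappaB
import Cfsg.Agent.Lib.helper60.BGTI
import Cfsg.Agent.Lib.helper8.BGTen9
import Cfsg.Agent.Lib.helper65.Fitting

/-!
# S1372 from the frozen S1430: `K ≠ 1`, `U ≠ 1` ⟹ `|K|` prime, `F(M)` is TI, `M_σ ≤ F(M)`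

`s1372_of_h1430` : the conclusion of the frozen statement S1372 (B-G Theorem 15.2(e)), with the
frozen S1430 as the hypothesis `helper69.H1430`.

TI-property of `F(M)`.  Let `x ∈ F(M)` have prime order `p`, `g ∉ M`, `g x g⁻¹ ∈ F(M)`.
* `p ∉ σ(M)`: `x` centralizes `M_σ` (`F(M)` is nilpotent and contains the nilpotent `M_σ`, S1429);
  `x` is not a `κ(M)`-element (else a conjugate `k ∈ K` centralizes `M_σ`, so `A = [A, k]` does,
  against `C_{M_σ}(A) = 1`), so `x ∈ A(M)` and by `helper60.BGTI.uniq_of_sigmaA` (S1361) `M` is the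
  only maximal subgroup over `C_G(x)` and over `C_G(g x g⁻¹)`: `g ∈ M`.
* `p ∈ σ(M)`: by S1404 `g = m c` with `c ∈ C_G(x)`, so `C_G(x) ≰ M` and `p ∉ β(M)` (S1423).  The
  normal Sylow `p`-subgroup `P` of `M` is narrow, so by `narrow_comm_centralizes` (S1454) the
  commutators `[k, a]` (`k ∈ K`, `a ∈ A`) centralize `P`; as `A = [A, k]`, `A` centralizes `x ∈ P`,
  against `C_{M_σ}(A) = 1`.
-/

set_option autoImplicit false

namespace Cfsg.Agent.Lib.helper27.BGKP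

open Cfsg Subgroup Cfsg.Agent.Lib.helper8

variable {G : Type*} [Group G]

/-- The `K`-invariant elementary abelian `r`-subgroup `A` with `C_{M_σ}(A) = 1` on which `K` acts
regularly (`r` a prime divisor of `|M|` outside `σ(M) ∪ κ(M)`). -/
theorem exists_fpf_sub [Finite G] (hG : IsMinSimpleOddOrder G)
    (h1430 : Cfsg.Agent.Lib.helper69.H1430 G) (M : Subgroup G) (hM : IsCoatom M)
    (K : Subgroup G) (hK : IsPiHallOf (kappa M) K M) (hK1 : K ≠ ⊥)
    (r : ℕ) (hr : r.Prime) (hrM : r ∣ Nat.card M) (hrσ : r ∉ sigma M) (hrκ : r ∉ kappa M) :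
    ∃ A : Subgroup G, A ≤ M ∧ A ≠ ⊥ ∧ (∀ a ∈ A, a ^ r = 1) ∧ (∀ a ∈ A, ∀ b ∈ A, a * b = b * a) ∧
      (∀ k ∈ K, ∀ a ∈ A, k * a * k⁻¹ ∈ A) ∧
      (∀ k ∈ K, k ≠ 1 → ∀ a ∈ A, k * a = a * k → a = 1) ∧
      sigmaCore M ⊓ centralizer (A : Set G) = ⊥ := by
  obtain ⟨hodd, -, -, -⟩ := id hG
  have : Fact r.Prime := ⟨hr⟩
  obtain ⟨hpa, ⟨U, hUc, hUh, hKU, hreg⟩, -⟩ := h1430 M hM K hK hK1
  -- `r` divides `|U|`
  have hrU : r ∣ Nat.card U := by
    have e := Cfsg.Agent.Lib.helper69.bgk_card_mul_relIndex hUh.1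
    rw [← e] at hrM
    rcases (Nat.Prime.dvd_mul hr).mp hrM with h | h
    · exact h
    · exact absurd h (hUh.2.2 r hr ⟨hr, hrκ, hrσ⟩)
  -- the subgroup `A`
  obtain ⟨A, hA⟩ : ∃ A : Subgroup G, A = omegaSub U hUc r := ⟨_, rfl⟩
  have hAmem : ∀ u : G, u ∈ A ↔ u ∈ U ∧ u ^ r = 1 := fun u => by rw [hA]; exact Iff.rfl
  have hAU : A ≤ U := fun a ha => ((hAmem a).mp ha).1
  have hAM : A ≤ M := hAU.trans hUh.1
  have hA1 : A ≠ ⊥ := by
    obtain ⟨u, hu⟩ := exists_prime_orderOf_dvd_card' r hrU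
    intro h
    have hmem : (u : G) ∈ A := by
      rw [hAmem]
      refine ⟨u.2, ?_⟩
      have h1 := pow_orderOf_eq_one u
      rw [hu] at h1
      have h2 := congrArg Subtype.val h1
      rwa [Subgroup.coe_pow] at h2
    rw [h, Subgroup.mem_bot] at hmem
    have h3 : u = 1 := Subtype.ext hmem
    rw [h3, orderOf_one] at hu
    exact hr.one_lt.ne hu
  have hKA : ∀ k ∈ K, ∀ a ∈ A, k * a * k⁻¹ ∈ A := by
    intro k hk a ha
    rw [hAmem] at ha ⊢
    refine ⟨Subgroup.le_normalizer_iff.mp hKU k hk a ha.1, ?_⟩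
    rw [conj_pow, ha.2, mul_one, mul_inv_cancel]
  have hMσn : ∀ m ∈ M, ∀ y ∈ sigmaCore M, m * y * m⁻¹ ∈ sigmaCore M :=
    Subgroup.le_normalizer_iff.mp (Cfsg.Agent.Lib.helper71.BGA.le_normalizer_sigmaCore M)
  -- `C_{M_σ}(A) = 1`
  have hCA : sigmaCore M ⊓ centralizer (A : Set G) = ⊥ := by
    rw [eq_bot_iff]
    intro y hy
    rw [Subgroup.mem_bot]
    by_contra hy1
    obtain ⟨hyσ, hyc⟩ := Subgroup.mem_inf.mp hy
    by_cases hr1 : PRankLE r 1 M
    · apply hrκ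
      refine ⟨hr, hrM, hrσ, fun P =>
        ⟨bg_sylow_cyclic_of_prank_one hodd (le_refl M) r hr1 P, ?_⟩⟩
      obtain ⟨⟨a, haA'⟩, ha1⟩ := (Subgroup.ne_bot_iff_exists_ne_one.mp hA1)
      have ha1' : a ≠ 1 := fun h => ha1 (Subtype.ext h)
      have haM : a ∈ M := hAM haA'
      have hapow : a ^ r = 1 := ((hAmem a).mp haA').2
      have hzp : IsPGroup r (Subgroup.zpowers (⟨a, haM⟩ : M)) := by
        apply IsPGroup.of_card (n := 1)
        rw [Nat.card_zpowers, pow_one]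
        exact orderOf_eq_prime (Subtype.ext (by rw [Subgroup.coe_pow]; exact hapow))
          (fun h => ha1' (congrArg Subtype.val h))
      obtain ⟨Q, hQ⟩ := hzp.exists_le_sylow
      obtain ⟨g, hg⟩ := MulAction.exists_smul_eq M Q P
      refine ⟨g * ⟨a, haM⟩ * g⁻¹, ?_, ?_, (g : G) * y * (g : G)⁻¹, hMσn g g.2 y hyσ, ?_, ?_⟩
      · rw [← hg, Cfsg.Agent.Lib.helper69.bg1210_mem_smul_sylow]
        have h1 : g⁻¹ * (g * ⟨a, haM⟩ * g⁻¹) * g = ⟨a, haM⟩ := by group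
        rw [h1]
        exact hQ (Subgroup.mem_zpowers _)
      · intro h
        apply ha1'
        have h2 : (⟨a, haM⟩ : M) = g⁻¹ * (g * ⟨a, haM⟩ * g⁻¹) * g := by group
        rw [h] at h2
        have h3 : (⟨a, haM⟩ : M) = 1 := by rw [h2]; group
        exact congrArg Subtype.val h3
      · intro h
        apply hy1
        have h2 : y = (g : G)⁻¹ * ((g : G) * y * (g : G)⁻¹) * (g : G) := by group
        rw [h2, h]; group
      · have hc : a * y = y * a := Subgroup.mem_centralizer_iff.mp hyc a haA'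
        show (g : G) * a * (g : G)⁻¹ * ((g : G) * y * (g : G)⁻¹) =
          (g : G) * y * (g : G)⁻¹ * ((g : G) * a * (g : G)⁻¹)
        calc (g : G) * a * (g : G)⁻¹ * ((g : G) * y * (g : G)⁻¹)
            = (g : G) * (a * y) * (g : G)⁻¹ := by group
          _ = (g : G) * (y * a) * (g : G)⁻¹ := by rw [hc]
          _ = (g : G) * y * (g : G)⁻¹ * ((g : G) * a * (g : G)⁻¹) := by group
    · have hU' : BGUniqHyp G := fun K hK h1 h2 => Cfsg.Agent.S1403.result hG K hK h1 h2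
      have hr2 : PRankLE r 2 M := by
        by_contra h
        exact hrσ (bg_alpha_sub_sigma hG hU' M hM ⟨hr, h⟩)
      obtain ⟨B, hBM, hBe, hBc⟩ := bg_exists_elemAb_sq M r hr2 hr1
      have h17 := (Cfsg.Agent.S1417.result hG M hM r ⟨hr, hrσ, hr2, hr1⟩ B
        ⟨hBM, hBe, hBc⟩).2.2.2.1
      have hBp : IsPGroup r B := IsPGroup.of_card hBc
      obtain ⟨g, hgM, hg⟩ := Cfsg.Agent.Lib.helper69.bgk_conj_into_hall hUh (p := r)
        ⟨hr, hrκ, hrσ⟩ hBM hBp
      have hmem : g⁻¹ * y * g ∈ sigmaCore M ⊓ centralizer (B : Set G) := by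
        refine Subgroup.mem_inf.mpr ⟨?_, ?_⟩
        · have h1 := hMσn g⁻¹ (M.inv_mem hgM) y hyσ
          rwa [inv_inv] at h1
        · rw [Subgroup.mem_centralizer_iff]
          intro b hb
          have hbA : g * b * g⁻¹ ∈ A := by
            rw [hAmem]
            exact ⟨hg b hb, by rw [conj_pow, hBe.2 b hb, mul_one, mul_inv_cancel]⟩
          have hc := Subgroup.mem_centralizer_iff.mp hyc _ hbA
          calc b * (g⁻¹ * y * g) = g⁻¹ * ((g * b * g⁻¹) * y) * g := by group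
            _ = g⁻¹ * (y * (g * b * g⁻¹)) * g := by rw [hc]
            _ = g⁻¹ * y * g * b := by group
      rw [h17, Subgroup.mem_bot] at hmem
      apply hy1
      have h2 : y = g * (g⁻¹ * y * g) * g⁻¹ := by group
      rw [h2, hmem]; group
  refine ⟨A, hAM, hA1, fun a ha => ((hAmem a).mp ha).2, ?_, hKA, ?_, hCA⟩
  · intro a ha b hb
    exact congrArg Subtype.val (hUc.is_comm.comm ⟨a, hAU ha⟩ ⟨b, hAU hb⟩)
  · intro k hk hk1 a ha hc
    have h1 : a ∈ U ⊓ centralizer ({k} : Set G) := by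
      refine Subgroup.mem_inf.mpr ⟨hAU ha, ?_⟩
      rw [Subgroup.mem_centralizer_iff]
      intro x hx
      rw [Set.mem_singleton_iff.mp hx]
      exact hc
    rw [hreg k hk hk1, Subgroup.mem_bot] at h1
    exact h1

/-- For `p ∈ σ(M) ∖ β(M)` the Sylow `p`-subgroups of `M` are narrow. -/
theorem narrow_sylow [Finite G] (hG : IsMinSimpleOddOrder G) (M : Subgroup G)
    (p : ℕ) [Fact p.Prime] (hσ : p ∈ sigma M) (hpβ : p ∉ beta M) (S : Sylow p M) :
    IsNarrow p ↥(S : Subgroup M) := by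
  obtain ⟨hodd, -, -, -⟩ := id hG
  have hpp : p.Prime := Fact.out
  have hpM : p ∣ Nat.card M := hσ.2.1
  have hoddM : Odd (Nat.card M) := Odd.of_dvd_nat hodd (Subgroup.card_subgroup_dvd_card M)
  by_cases hr : PRankLE p 2 M
  · exact Or.inl (Cfsg.Agent.Lib.helper26.prankLE_subgroup (S : Subgroup M) hr)
  · have hα : p ∈ alpha M := ⟨hpp, hr⟩
    have hni : ¬ IsIdealPrime p G := fun h => hpβ ⟨hα, h⟩
    have hrG : ¬ PRankLE p 2 G := fun h => hr (Cfsg.Agent.Lib.helper26.prankLE_subgroup M h)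
    have hex : ∃ (P₀ : Sylow p G) (A : Subgroup G), A ≤ (P₀ : Subgroup G) ∧
        IsElementaryAbelian p A ∧ Nat.card A = p ^ 2 ∧
        ∀ B : Subgroup G, B ≤ (P₀ : Subgroup G) → IsElementaryAbelian p B → ¬ A < B := by
      by_contra hcon
      apply hni
      refine ⟨hpp, hrG, ?_⟩
      intro P A hAP hAe hA2
      by_contra h2
      apply hcon
      refine ⟨P, A, hAP, hAe, hA2, ?_⟩
      intro B hBP hBe hAB
      exact h2 ⟨B, hBP, hBe, hAB⟩
    obtain ⟨P₀, A, hAP, hAe, hA2, hAmax⟩ := hex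
    have hp2 : p ≠ 2 := by
      intro h
      rw [h] at hpM
      exact (Nat.not_even_iff_odd.mpr hoddM) (even_iff_two_dvd.mpr hpM)
    have hN0 : IsNarrow p ↥(P₀ : Subgroup G) := by
      apply bg_isNarrow_of_max_elemAb p hp2 P₀.isPGroup' (A.subgroupOf P₀)
        (bg_elemAb_subgroupOf (P₀ : Subgroup G) hAe)
      · rw [Nat.card_congr (Subgroup.subgroupOfEquivOfLe hAP).toEquiv, hA2]
      · intro B hBe hAB
        have h1 : IsElementaryAbelian p (B.map (P₀ : Subgroup G).subtype) := bg_elemAb_map B hBe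
        have h2 : A ≤ B.map (P₀ : Subgroup G).subtype := by
          intro a ha
          exact ⟨⟨a, hAP ha⟩, hAB (Subgroup.mem_subgroupOf.mpr ha), rfl⟩
        have h3 : A = B.map (P₀ : Subgroup G).subtype := by
          by_contra hne
          exact hAmax _ (Subgroup.map_subtype_le _) h1 (lt_of_le_of_ne h2 hne)
        rw [h3]
        ext x
        simp [Subgroup.mem_subgroupOf]
    have hSidx : ¬ p ∣ ((S : Subgroup M).map M.subtype).index := by
      rw [Subgroup.index_map_subtype]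
      intro h
      rcases (Nat.Prime.dvd_mul hpp).mp h with h | h
      · exact S.not_dvd_index h
      · exact bg_sigma_not_dvd_index M hσ h
    let P₁ : Sylow p G := (S.isPGroup'.map M.subtype).toSylow hSidx
    have hP₁ : (P₁ : Subgroup G) = (S : Subgroup M).map M.subtype := IsPGroup.toSylow_coe _ _
    have e1 : ↥(P₀ : Subgroup G) ≃* ↥(P₁ : Subgroup G) := Sylow.equiv P₀ P₁
    have e2 : ↥(P₁ : Subgroup G) ≃* ↥((S : Subgroup M).map M.subtype) :=
      MulEquiv.subgroupCongr hP₁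
    have e3 : ↥(S : Subgroup M) ≃* ↥((S : Subgroup M).map M.subtype) :=
      (S : Subgroup M).equivMapOfInjective M.subtype M.subtype_injective
    exact Cfsg.Agent.Lib.helper30.isNarrow_of_mulEquiv p ((e1.trans e2).trans e3.symm) hN0

theorem isPGroup_zpowers_of_pow {H : Type*} [Group H] (p : ℕ) (z : H) (j : ℕ)
    (h : z ^ p ^ j = 1) : IsPGroup p (Subgroup.zpowers z) := by
  rintro ⟨w, hw⟩
  obtain ⟨i, rfl⟩ := Subgroup.mem_zpowers_iff.mp hw
  refine ⟨j, Subtype.ext ?_⟩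
  show (z ^ i) ^ p ^ j = 1
  rw [← zpow_natCast, ← zpow_mul, mul_comm, zpow_mul, zpow_natCast, h, one_zpow]

theorem fittingOf_nilpotent [Finite G] (M : Subgroup G) : Group.IsNilpotent ↥(fittingOf M) := by
  have h1 : Group.IsNilpotent ↥(Cfsg.fittingSubgroup ↥M) :=
    Cfsg.Agent.Lib.helper65.fittingSubgroup_isNilpotent
  exact Group.nilpotent_of_mulEquiv
    ((Cfsg.fittingSubgroup ↥M).equivMapOfInjective M.subtype M.subtype_injective)

theorem conj_mem_fittingOf (M : Subgroup G) :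
    ∀ m ∈ M, ∀ y ∈ fittingOf M, m * y * m⁻¹ ∈ fittingOf M := by
  rintro m hm _ ⟨f, hf, rfl⟩
  have hn : (Cfsg.fittingSubgroup ↥M).Normal := Cfsg.Agent.Lib.helper65.fittingSubgroup_normal
  exact ⟨⟨m, hm⟩ * f * ⟨m, hm⟩⁻¹, hn.conj_mem f hf ⟨m, hm⟩, rfl⟩

theorem sigmaCore_le_fittingOf (M : Subgroup G) (hnil : Group.IsNilpotent ↥(sigmaCore M)) :
    sigmaCore M ≤ fittingOf M := by
  have h1 : Group.IsNilpotent ↥(piCore (sigma M) ↥M) := by
    have h2 : Group.IsNilpotent ↥((piCore (sigma M) ↥M).map M.subtype) := hnil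
    exact Group.nilpotent_of_mulEquiv
      ((piCore (sigma M) ↥M).equivMapOfInjective M.subtype M.subtype_injective).symm
  have h3 : piCore (sigma M) ↥M ≤ Cfsg.fittingSubgroup ↥M :=
    le_sSup ⟨piCore_normal (sigma M) ↥M, h1⟩
  exact Subgroup.map_mono h3

/-- **S1372, clauses 2 and 3.** With `K ≠ 1` and `U ≠ 1`, `F(M)` is a TI-subset of `G` and
contains `M_σ`. -/
theorem fitting_TI [Finite G] (hG : IsMinSimpleOddOrder G)
    (h1430 : Cfsg.Agent.Lib.helper69.H1430 G) (M : Subgroup G) (hM : IsCoatom M)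
    (K U : Subgroup G) (hKU : IsSigmaDecomposition M K U) (hK1 : K ≠ ⊥) (hU1 : U ≠ ⊥) :
    IsTISubset (fittingOf M : Set G) ∧ sigmaCore M ≤ fittingOf M := by
  obtain ⟨hodd, hsimple, -, hsolv⟩ := id hG
  have := hsimple
  have hK := hKU.hall
  have hHall : IsPiHallOf (sigma M) (sigmaCore M) M := (Cfsg.Agent.S1350.result hG M hM).1
  have hUhall := Cfsg.Agent.Lib.helper69.bgk_decomp_hall hHall hKU
  have hU' : BGUniqHyp G := fun K hK h1 h2 => Cfsg.Agent.S1403.result hG K hK h1 h2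
  have hF' : BGFusHyp G := by
    intro M hM p hp X hXp hX1 hXM g hg
    have : Fact p.Prime := ⟨hp.1⟩
    exact (Cfsg.Agent.S1404.result hG M hM p hp X hXp hX1 hXM).1 g hg
  have hMσM : sigmaCore M ≤ M := Cfsg.Agent.Lib.helper71.BGA.sigmaCore_le M
  have hMσN := Cfsg.Agent.Lib.helper71.BGA.le_normalizer_sigmaCore M
  have hMσn : ∀ m ∈ M, ∀ y ∈ sigmaCore M, m * y * m⁻¹ ∈ sigmaCore M :=
    Subgroup.le_normalizer_iff.mp hMσN
  have hMs : Group.IsSolvable M := hsolv M hM.1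
  have hMo : Odd (Nat.card M) := Odd.of_dvd_nat hodd (Subgroup.card_subgroup_dvd_card M)
  -- the prime `r`
  have hUcard1 : Nat.card U ≠ 1 := fun h => hU1 (Subgroup.eq_bot_of_card_eq U h)
  obtain ⟨r, hr, hrU⟩ := Nat.exists_prime_and_dvd hUcard1
  have hrπ := hUhall.2.1 r hr hrU
  have hrM : r ∣ Nat.card M := hrU.trans (Subgroup.card_dvd_of_le hUhall.1)
  have : Fact r.Prime := ⟨hr⟩
  obtain ⟨A, hAM, hA1, hAexp, hAc, hKA, hfpf, hCA⟩ :=
    exists_fpf_sub hG h1430 M hM K hK hK1 r hr hrM hrπ.2.2 hrπ.2.1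
  -- `M_σ` is nilpotent
  obtain ⟨S₀⟩ : Nonempty (Sylow r M) := inferInstance
  have hnil : Group.IsNilpotent (sigmaCore M) :=
    (Cfsg.Agent.S1429.result hG M hM (fun h => hrπ.2.1 (h r hr hrM hrπ.2.2)) r hrM
      (by
        rintro (h | h)
        · exact hrπ.2.2 h
        · exact hrπ.2.1 h) S₀).2.2
  have hσF : sigmaCore M ≤ fittingOf M := sigmaCore_le_fittingOf M hnil
  refine ⟨?_, hσF⟩
  -- `M_σ ≠ 1`
  have hKcard1 : Nat.card K ≠ 1 := fun h => hK1 (Subgroup.eq_bot_of_card_eq K h)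
  obtain ⟨q, hq, hqK⟩ := Nat.exists_prime_and_dvd hKcard1
  have hσ1 : sigmaCore M ≠ ⊥ := sigmaCore_ne_bot_of_kappa M (hK.2.1 q hq hqK)
  obtain ⟨y₀, hy₀σ, hy₀1⟩ : ∃ y ∈ sigmaCore M, y ≠ 1 := by
    obtain ⟨⟨y, hy⟩, hy1⟩ := Subgroup.ne_bot_iff_exists_ne_one.mp hσ1
    exact ⟨y, hy, fun h => hy1 (Subtype.ext h)⟩
  obtain ⟨k, hkK, hk1⟩ : ∃ k ∈ K, k ≠ 1 := by
    obtain ⟨⟨k, hk⟩, hk1⟩ := Subgroup.ne_bot_iff_exists_ne_one.mp hK1
    exact ⟨k, hk, fun h => hk1 (Subtype.ext h)⟩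
  have hAcomm := exists_comm_eq A hAc k (hKA k hkK) (hfpf k hkK hk1)
  have hFM : fittingOf M ≤ M := Subgroup.map_subtype_le _
  have hFnil : Group.IsNilpotent (fittingOf M) := fittingOf_nilpotent M
  have hMF : ∀ m ∈ M, ∀ y ∈ fittingOf M, m * y * m⁻¹ ∈ fittingOf M := conj_mem_fittingOf M
  have hMbot : M ≠ ⊥ := by
    intro h
    apply hy₀1
    have h1 := hMσM hy₀σ
    rwa [h, Subgroup.mem_bot] at h1
  have hNM := Cfsg.Agent.Lib.helper71.BGA.normalizer_eq_of_isCoatom hM hMbot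
  -- an element of `F(M)` of prime order outside `σ(M)` centralizes `M_σ`
  have hcentσ : ∀ z ∈ fittingOf M, ∀ p : ℕ, p.Prime → z ^ p = 1 → p ∉ sigma M →
      ∀ y ∈ sigmaCore M, z * y = y * z := by
    intro z hz p hp hzp hpσ y hy
    have : Fact p.Prime := ⟨hp⟩
    exact comm_of_nilpotent (fittingOf M) (sigmaCore M) hFnil (hFM.trans hMσN) p z hz hzp
      ((Nat.Prime.coprime_iff_not_dvd hp).mp (bg_sigmaCore_card_coprime M hp hpσ).symm) y hy
      (hσF hy)
  -- case (a): prime order outside `σ(M)`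
  have key2a : ∀ z ∈ fittingOf M, ∀ p : ℕ, p.Prime → orderOf z = p → p ∉ sigma M →
      centralizer ({z} : Set G) ≤ M ∧
        ∀ L : Subgroup G, IsCoatom L → centralizer ({z} : Set G) ≤ L → L = M := by
    intro z hz p hp hzo hpσ
    have : Fact p.Prime := ⟨hp⟩
    have hzp : z ^ p = 1 := by rw [← hzo]; exact pow_orderOf_eq_one z
    have hz1 : z ≠ 1 := by
      rintro rfl
      rw [orderOf_one] at hzo
      exact hp.one_lt.ne hzo
    have hzM : z ∈ M := hFM hz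
    have hzc := hcentσ z hz p hp hzp hpσ
    have hzpg : IsPGroup p (Subgroup.zpowers z) :=
      isPGroup_zpowers_of_pow p z 1 (by rw [pow_one]; exact hzp)
    -- `p ∉ κ(M)`
    have hpκ : p ∉ kappa M := by
      intro hpκ
      obtain ⟨m, hmM, hm⟩ := Cfsg.Agent.Lib.helper69.bgk_conj_into_hall hK (p := p) hpκ
        (Subgroup.zpowers_le.mpr hzM) hzpg
      have hk' : m * z * m⁻¹ ∈ K := hm z (Subgroup.mem_zpowers z)
      have hk'1 : m * z * m⁻¹ ≠ 1 := by
        intro h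
        apply hz1
        have h2 : z = m⁻¹ * (m * z * m⁻¹) * m := by group
        rw [h2, h]; group
      have hk'c : ∀ y ∈ sigmaCore M, (m * z * m⁻¹) * y = y * (m * z * m⁻¹) := by
        intro y hy
        have h1 := hzc (m⁻¹ * y * m) (by
          have h2 := hMσn m⁻¹ (M.inv_mem hmM) y hy
          rwa [inv_inv] at h2)
        calc m * z * m⁻¹ * y = m * (z * (m⁻¹ * y * m)) * m⁻¹ := by group
          _ = m * ((m⁻¹ * y * m) * z) * m⁻¹ := by rw [h1]
          _ = y * (m * z * m⁻¹) := by group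
      have hAcomm' := exists_comm_eq A hAc (m * z * m⁻¹) (hKA _ hk') (hfpf _ hk' hk'1)
      have hAσ : sigmaCore M ≤ sigmaCore M ⊓ centralizer (A : Set G) := by
        intro y hy
        refine Subgroup.mem_inf.mpr ⟨hy, ?_⟩
        rw [Subgroup.mem_centralizer_iff]
        intro a ha
        obtain ⟨b, hb, rfl⟩ := hAcomm' a ha
        have hbM : b ∈ M := hAM hb
        have hw : b⁻¹ * y * b ∈ sigmaCore M := by
          have h2 := hMσn b⁻¹ (M.inv_mem hbM) y hy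
          rwa [inv_inv] at h2
        have h1 : (m * z * m⁻¹)⁻¹ * (b⁻¹ * y * b) = (b⁻¹ * y * b) * (m * z * m⁻¹)⁻¹ :=
          (Commute.inv_left (hk'c _ hw)).eq
        have h2 := hk'c y hy
        calc m * z * m⁻¹ * b * (m * z * m⁻¹)⁻¹ * b⁻¹ * y
            = m * z * m⁻¹ * b * ((m * z * m⁻¹)⁻¹ * (b⁻¹ * y * b)) * b⁻¹ := by group
          _ = m * z * m⁻¹ * b * ((b⁻¹ * y * b) * (m * z * m⁻¹)⁻¹) * b⁻¹ := by rw [h1]
          _ = (m * z * m⁻¹ * y) * b * (m * z * m⁻¹)⁻¹ * b⁻¹ := by group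
          _ = (y * (m * z * m⁻¹)) * b * (m * z * m⁻¹)⁻¹ * b⁻¹ := by rw [h2]
          _ = y * (m * z * m⁻¹ * b * (m * z * m⁻¹)⁻¹ * b⁻¹) := by group
      rw [hCA] at hAσ
      exact hσ1 (eq_bot_iff.mpr hAσ)
    -- conjugate `z` into `U`
    obtain ⟨m, hmM, hm⟩ := Cfsg.Agent.Lib.helper69.bgk_conj_into_hall hUhall (p := p)
      ⟨hp, hpκ, hpσ⟩ (Subgroup.zpowers_le.mpr hzM) hzpg
    have hzU : m * z * m⁻¹ ∈ U := hm z (Subgroup.mem_zpowers z)
    have hzA : z ∈ sigmaA M U := by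
      refine ⟨⟨hzM, y₀, hy₀σ, hy₀1, hzc y₀ hy₀σ⟩, ?_⟩
      have hn := Cfsg.Agent.Lib.helper60.BGTI.le_normalizer_U_sup M K U hKU
      have h1 := Subgroup.le_normalizer_iff.mp hn m⁻¹ (M.inv_mem hmM) (m * z * m⁻¹)
        (Subgroup.mem_sup_left hzU)
      have h2 : m⁻¹ * (m * z * m⁻¹) * m⁻¹⁻¹ = z := by group
      rw [h2] at h1
      exact h1
    have h3 := Cfsg.Agent.Lib.helper60.BGTI.uniq_of_sigmaA hG M hM K U hKU z hzA p hp
      (by rw [hzo]) hpσ
    rw [hzo, Nat.div_self hp.pos, pow_one] at h3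
    exact h3
  -- the TI property
  intro g hg x hx hgx
  by_contra hx1
  have hgM : g ∉ M := by
    intro hgM
    apply hg
    rw [Subgroup.mem_set_normalizer_iff]
    intro n
    constructor
    · intro hn
      exact hMF g hgM n hn
    · intro hn
      have h := hMF g⁻¹ (M.inv_mem hgM) _ hn
      have e : g⁻¹ * (g * n * g⁻¹) * g⁻¹⁻¹ = n := by group
      rwa [e] at h
  have hxo : orderOf x ≠ 1 := fun h => hx1 (orderOf_eq_one_iff.mp h)
  obtain ⟨p, hp, hpx⟩ := Nat.exists_prime_and_dvd hxo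
  have : Fact p.Prime := ⟨hp⟩
  have hxfin : orderOf x ≠ 0 := (orderOf_pos x).ne'
  obtain ⟨x₀, hx₀⟩ : ∃ x₀ : G, x₀ = x ^ (orderOf x / p) := ⟨_, rfl⟩
  have hx₀o : orderOf x₀ = p := by rw [hx₀]; exact orderOf_pow_orderOf_div hxfin hpx
  have hx₀F : x₀ ∈ fittingOf M := by rw [hx₀]; exact (fittingOf M).pow_mem hx _
  have hx₁F : g * x₀ * g⁻¹ ∈ fittingOf M := by
    rw [hx₀, ← conj_pow]; exact (fittingOf M).pow_mem hgx _
  have hx₁o : orderOf (g * x₀ * g⁻¹) = p := by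
    rw [← hx₀o]
    exact orderOf_injective (MulAut.conj g).toMonoidHom (MulAut.conj g).injective x₀
  have hx₀1 : x₀ ≠ 1 := by
    intro h
    rw [h, orderOf_one] at hx₀o
    exact hp.one_lt.ne hx₀o
  have hx₀M : x₀ ∈ M := hFM hx₀F
  by_cases hpσ : p ∈ sigma M
  · -- case (b)
    have hX : IsPGroup p (Subgroup.zpowers x₀) :=
      isPGroup_zpowers_of_pow p x₀ 1 (by rw [pow_one, ← hx₀o]; exact pow_orderOf_eq_one x₀)
    have hXM : Subgroup.zpowers x₀ ≤ M := Subgroup.zpowers_le.mpr hx₀M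
    have hX1 : Subgroup.zpowers x₀ ≠ ⊥ := by
      rw [Ne, Subgroup.zpowers_eq_bot]; exact hx₀1
    have hXg : (Subgroup.zpowers x₀).map (MulAut.conj g).toMonoidHom ≤ M := by
      rw [MonoidHom.map_zpowers]
      exact Subgroup.zpowers_le.mpr (hFM hx₁F)
    obtain ⟨m, hmM, c, hc, hgmc⟩ := hF' M hM p hpσ _ hX hX1 hXM g hXg
    have hcM : c ∉ M := by
      intro hcM
      apply hgM
      rw [hgmc]
      exact M.mul_mem hmM hcM
    have hpβ : p ∉ beta M := by
      intro hβ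
      obtain ⟨Q⟩ : Nonempty (Sylow p ↥(sigmaCore M)) := inferInstance
      have h14 := (Cfsg.Agent.S1423.result hG M hM p hpσ (Subgroup.zpowers x₀) hXM
        (by rw [Nat.card_zpowers, hx₀o]) Q (Or.inl hβ)).1.1
      exact hcM (h14 hc)
    -- the normal Sylow `p`-subgroup `P` of `M`
    have := hnil
    obtain ⟨Q⟩ : Nonempty (Sylow p ↥(sigmaCore M)) := inferInstance
    have hQn : (Q : Subgroup ↥(sigmaCore M)).Normal :=
      Sylow.normal_of_normalizerCondition Group.normalizerCondition_of_isNilpotent Q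
    obtain ⟨P, hPdef⟩ : ∃ P : Subgroup G,
        P = (Q : Subgroup ↥(sigmaCore M)).map (sigmaCore M).subtype := ⟨_, rfl⟩
    have hPp : IsPGroup p P := by rw [hPdef]; exact Q.isPGroup'.map _
    have hPσ : P ≤ sigmaCore M := by rw [hPdef]; exact Subgroup.map_subtype_le _
    have hPall : ∀ z ∈ M, (∃ j : ℕ, z ^ p ^ j = 1) → z ∈ P := by
      rintro z hzM ⟨j, hj⟩
      have hzσ : z ∈ sigmaCore M :=
        bg_pgroup_le_sigmaCore hG hU' hF' M hM hpσ (Subgroup.zpowers z)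
          (Subgroup.zpowers_le.mpr hzM) (isPGroup_zpowers_of_pow p z j hj) (Subgroup.mem_zpowers z)
      have hzpg' : IsPGroup p (Subgroup.zpowers (⟨z, hzσ⟩ : ↥(sigmaCore M))) :=
        isPGroup_zpowers_of_pow p _ j (Subtype.ext (by rw [Subgroup.coe_pow]; exact hj))
      obtain ⟨Q', hQ'⟩ := hzpg'.exists_le_sylow
      obtain ⟨t, ht⟩ := MulAction.exists_smul_eq ↥(sigmaCore M) Q Q'
      have hQQ : Q' = Q := by rw [← ht]; exact Sylow.smul_eq_of_normal
      rw [hPdef]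
      exact ⟨⟨z, hzσ⟩, hQQ ▸ hQ' (Subgroup.mem_zpowers _), rfl⟩
    have hMP : M ≤ normalizer (P : Set G) := by
      rw [Subgroup.le_normalizer_iff]
      intro m hm y hy
      apply hPall _ (M.mul_mem (M.mul_mem hm (hMσM (hPσ hy))) (M.inv_mem hm))
      obtain ⟨j, hj⟩ := hPp ⟨y, hy⟩
      refine ⟨j, ?_⟩
      have hj' : y ^ p ^ j = 1 := by
        have h1 := congrArg Subtype.val hj
        rwa [Subgroup.coe_pow] at h1
      rw [conj_pow, hj', mul_one, mul_inv_cancel]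
    have hP' : IsPGroup p (P.subgroupOf M) :=
      hPp.comap_of_injective M.subtype (Subgroup.subtype_injective M)
    obtain ⟨S, hS⟩ := hP'.exists_le_sylow
    have hSP : (S : Subgroup M).map M.subtype = P := by
      apply le_antisymm
      · rintro _ ⟨s, hs, rfl⟩
        obtain ⟨j, hj⟩ := S.isPGroup' ⟨s, hs⟩
        refine hPall s s.2 ⟨j, ?_⟩
        have h1 := congrArg Subtype.val (congrArg Subtype.val hj)
        simpa using h1
      · intro y hy
        have hyM : y ∈ M := hMσM (hPσ hy)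
        exact ⟨⟨y, hyM⟩, hS (Subgroup.mem_subgroupOf.mpr hy), rfl⟩
    have hNS := narrow_sylow hG M p hpσ hpβ S
    have e : ↥(S : Subgroup M) ≃* ↥P :=
      ((S : Subgroup M).equivMapOfInjective M.subtype M.subtype_injective).trans
        (MulEquiv.subgroupCongr hSP)
    have hPn : IsNarrow p ↥P := Cfsg.Agent.Lib.helper30.isNarrow_of_mulEquiv p e hNS
    have hp2 : p ≠ 2 := by
      intro h
      have hpM : p ∣ Nat.card M := hpσ.2.1
      rw [h] at hpM
      exact (Nat.not_even_iff_odd.mpr hMo) (even_iff_two_dvd.mpr hpM)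
    have hrp : r.Coprime p := by
      rw [Nat.coprime_primes hr hp]
      rintro rfl
      exact hrπ.2.2 hpσ
    have hx₀P : x₀ ∈ P :=
      hPall x₀ hx₀M ⟨1, by rw [pow_one, ← hx₀o]; exact pow_orderOf_eq_one x₀⟩
    have hmem : x₀ ∈ sigmaCore M ⊓ centralizer (A : Set G) := by
      refine Subgroup.mem_inf.mpr ⟨hPσ hx₀P, ?_⟩
      rw [Subgroup.mem_centralizer_iff]
      intro a ha
      obtain ⟨b, hb, rfl⟩ := hAcomm a ha
      have hcA : k * b * k⁻¹ * b⁻¹ ∈ A := A.mul_mem (hKA k hkK b hb) (A.inv_mem hb)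
      exact narrow_comm_centralizes p hp2 P M hMP hPp hPn hMs hMo k b (hK.1 hkK) (hAM hb) r hrp
        (hAexp _ hcA) x₀ hx₀P
    rw [hCA, Subgroup.mem_bot] at hmem
    exact hx₀1 hmem
  · -- case (a)
    have h0 := key2a x₀ hx₀F p hp hx₀o hpσ
    have h1 := key2a (g * x₀ * g⁻¹) hx₁F p hp hx₁o hpσ
    have hML : IsCoatom (M.map (MulAut.conj g).toMonoidHom) :=
      Cfsg.Agent.Lib.helper71.BGA.isCoatom_map_conj hM g
    have hle : centralizer ({g * x₀ * g⁻¹} : Set G) ≤ M.map (MulAut.conj g).toMonoidHom := by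
      intro w hw
      have hw' : g * x₀ * g⁻¹ * w = w * (g * x₀ * g⁻¹) :=
        Subgroup.mem_centralizer_iff.mp hw _ rfl
      have hw2 : g⁻¹ * w * g ∈ centralizer ({x₀} : Set G) := by
        rw [Subgroup.mem_centralizer_iff]
        intro h hh
        rw [Set.mem_singleton_iff.mp hh]
        calc x₀ * (g⁻¹ * w * g) = g⁻¹ * (g * x₀ * g⁻¹ * w) * g := by group
          _ = g⁻¹ * (w * (g * x₀ * g⁻¹)) * g := by rw [hw']
          _ = g⁻¹ * w * g * x₀ := by group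
      refine ⟨g⁻¹ * w * g, h0.1 hw2, ?_⟩
      show g * (g⁻¹ * w * g) * g⁻¹ = w
      group
    have hMM := h1.2 _ hML hle
    have hgN : g ∈ normalizer (M : Set G) :=
      Cfsg.Agent.Lib.helper60.BGTau2Ab.mem_normalizer_of_map_conj_eq hMM
    rw [hNM] at hgN
    exact hgM hgN

/-- **S1372 from the frozen S1430.** -/
theorem s1372_of_h1430 [Finite G] (hG : IsMinSimpleOddOrder G)
    (h1430 : Cfsg.Agent.Lib.helper69.H1430 G) (M : Subgroup G) (hM : IsCoatom M)
    (K U : Subgroup G) (hKU : IsSigmaDecomposition M K U) (hK1 : K ≠ ⊥) (hU1 : U ≠ ⊥) :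
    (Nat.card K).Prime ∧ IsTISubset (fittingOf M : Set G) ∧ sigmaCore M ≤ fittingOf M :=
  ⟨kappa_card_prime hG h1430 M hM K hKU.hall hK1 U hKU.compl hU1,
    fitting_TI hG h1430 M hM K U hKU hK1 hU1⟩

end Cfsg.Agent.Lib.helper27.BGKP
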