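import Mathlib
import Cfsg.Prelude.Def_Characters
import Cfsg.Prelude.Def_Blocks
import Cfsg.Agent.Lib.helper21.MultChar
import Cfsg.Agent.Lib.helper82.CharQuot
import Cfsg.Agent.Lib.helper83.CharBasic

/-!
# S4471 piece C2 (`centralizer_index_dvd`): the normal core of `T` centralizes `A`
-/

set_option autoImplicit false

namespace Cfsg.Agent.Lib.helper68.BL

open Cfsg
open scoped ComplexConjugate Matrix

universe u

/-- C2 : the normal core of `T` centralizes `A`, so `|G : C_G(A)|` divides `|G : T|!`. -/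
theorem centralizer_index_dvd {G : Type u} [Group G] [Finite G] (χ : IrrCharacter G)
    (hfaith : ∀ g : G, (χ : G → ℂ) g = (χ : G → ℂ) 1 → g = 1)
    (A : Subgroup G) [hAn : A.Normal] (hA : ∀ a ∈ A, ∀ b ∈ A, a * b = b * a)
    (Λ : Finset (IrrCharacter A)) (T : Subgroup G) (hcard : Λ.card = charDegree (χ : G → ℂ))
    (hsum : ∀ a : A, (χ : G → ℂ) a = ∑ φ ∈ Λ, (φ : A → ℂ) a)
    (hfix : ∀ g ∈ T.normalCore, ∀ φ ∈ Λ, ∀ a : A,
        (φ : A → ℂ) ⟨g * a * g⁻¹, hAn.conj_mem a a.2 g⟩ = (φ : A → ℂ) a) :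
    (Subgroup.centralizer (A : Set G)).index ∣ T.index.factorial := by
  have hAc : ∀ a b : A, a * b = b * a := fun a b => Subtype.ext (hA a a.2 b b.2)
  have hcore : T.normalCore ≤ Subgroup.centralizer (A : Set G) := by
    intro g hg
    rw [Subgroup.mem_centralizer_iff]
    intro a ha
    have hb : ∀ φ ∈ Λ, (φ : A → ℂ)
        ((⟨g * a * g⁻¹, hAn.conj_mem a ha g⟩ : A) * (⟨a, ha⟩ : A)⁻¹) = 1 := by
      intro φ hφ
      have h1 : (φ : A → ℂ) 1 = 1 := helper82.irr_one_of_commutative hAc φ.2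
      rw [helper21.mc_linear_mul φ h1, hfix g hg φ hφ ⟨a, ha⟩, ← helper21.mc_linear_mul φ h1,
        mul_inv_cancel, h1]
    have hχ : (χ : G → ℂ) (((⟨g * a * g⁻¹, hAn.conj_mem a ha g⟩ : A) * (⟨a, ha⟩ : A)⁻¹ : A) : G)
        = (χ : G → ℂ) 1 := by
      rw [hsum, Finset.sum_congr rfl hb, Finset.sum_const, hcard,
        helper83.irr_one_eq_charDegree]
      simp
    have e : g * a * g⁻¹ * a⁻¹ = 1 := hfaith _ hχ
    calc a * g = (g * a * g⁻¹ * a⁻¹) * a * g := by rw [e, one_mul]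
      _ = g * a := by group
  have h1 : (Subgroup.centralizer (A : Set G)).index ∣ T.normalCore.index :=
    Subgroup.index_dvd_of_le hcore
  have h2 : T.normalCore.index ∣ T.index.factorial := by
    rw [Subgroup.normalCore_eq_ker, Subgroup.index_ker, Subgroup.index_eq_card, ← Nat.card_perm]
    exact Subgroup.card_subgroup_dvd_card _
  exact h1.trans h2

end Cfsg.Agent.Lib.helper68.BL
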