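import Mathlib

/-!
# S4471 piece Q1 (`sylow_quot_comm`): Sylow subgroups of a quotient are images of Sylow subgroups
-/

set_option autoImplicit false

namespace Cfsg.Agent.Lib.helper68.BL

universe u

/-- Q1 : if all Sylow `p`-subgroups of `G` are commutative, so are those of `G ⧸ N`. -/
theorem sylow_quot_comm {G : Type u} [Group G] [Finite G] (p : ℕ) (hp : p.Prime) (N : Subgroup G)
    [N.Normal]
    (h : ∀ P : Sylow p G, ∀ x ∈ (P : Subgroup G), ∀ y ∈ (P : Subgroup G), x * y = y * x)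
    (Q : Sylow p (G ⧸ N)) :
    ∀ x ∈ (Q : Subgroup (G ⧸ N)), ∀ y ∈ (Q : Subgroup (G ⧸ N)), x * y = y * x := by
  have : Fact p.Prime := ⟨hp⟩
  have hsurj : Function.Surjective (QuotientGroup.mk' N) := QuotientGroup.mk'_surjective N
  obtain ⟨P, rfl⟩ := Sylow.mapSurjective_surjective hsurj p Q
  intro x hx y hy
  rw [Sylow.coe_mapSurjective] at hx hy
  obtain ⟨a, ha, rfl⟩ := hx
  obtain ⟨b, hb, rfl⟩ := hy
  rw [← map_mul, ← map_mul, h P a ha b hb]

end Cfsg.Agent.Lib.helper68.BL
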