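import Mathlib
import Cfsg.Agent.Lib.helper47.BLU

/-!
# S4471 piece T (`commute_of_rep`), core form: the Frobenius–Blichfeldt statement `FB` is a
hypothesis (in its verbatim skeleton shape); the unitarization `U` is imported.
-/

set_option autoImplicit false

namespace Cfsg.Agent.Lib.helper68.BL

open scoped ComplexConjugate Matrix

universe u

/-- T, core form (FB as a hypothesis). -/
theorem h27_commute_of_rep_core {G : Type u} [Group G] [Finite G] {n : ℕ}
    (hFB : ∀ (U : G →* Matrix (Fin n) (Fin n) ℂ), (∀ g : G, (U g)ᴴ * U g = 1) →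
      ∀ (z : G) (ω : ℂ), star ω * ω = 1 → ω ≠ 1 → ‖ω - 1‖ < 1 →
      (U z - 1) * (U z - ω • (1 : Matrix (Fin n) (Fin n) ℂ)) = 0 → ∀ g : G,
      U z * U (g * z * g⁻¹) = U (g * z * g⁻¹) * U z)
    (ρ : Representation ℂ G (Fin n → ℂ))
    (hfaith : ∀ g : G, ρ.character g = ρ.character 1 → g = 1) (z : G) (ω : ℂ)
    (hω : star ω * ω = 1) (hω1 : ω ≠ 1) (hr : ‖ω - 1‖ < 1)
    (hz : (ρ z - 1) * (ρ z - ω • (1 : Module.End ℂ (Fin n → ℂ))) = 0) (g : G) :
    z * (g * z * g⁻¹) = (g * z * g⁻¹) * z := by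
  -- the matrix form of `ρ`
  let e : ((Fin n → ℂ) →ₗ[ℂ] (Fin n → ℂ)) ≃ₐ[ℂ] Matrix (Fin n) (Fin n) ℂ :=
    LinearMap.toMatrixAlgEquiv'
  let R : G →* Matrix (Fin n) (Fin n) ℂ :=
    { toFun := fun x => e (ρ x)
      map_one' := by rw [map_one, map_one]
      map_mul' := fun a b => by rw [map_mul, map_mul] }
  have hR : ∀ x : G, R x = e (ρ x) := fun _ => rfl
  obtain ⟨C, D, U, hCD, hDC, hU, hUu⟩ := exists_unitary_hom R
  -- the two-eigenvalue relation for `R z`
  have hX : (R z - 1) * (R z - ω • (1 : Matrix (Fin n) (Fin n) ℂ)) = 0 := by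
    have h0 := congrArg e hz
    rw [map_mul, map_sub, map_sub, map_one, map_smul, map_one, map_zero] at h0
    rw [hR]; exact h0
  -- transported to `U z`
  have hUz : (U z - 1) * (U z - ω • (1 : Matrix (Fin n) (Fin n) ℂ)) = 0 := by
    have h1 : U z - 1 = C * (R z - 1) * D := by
      rw [hU, mul_sub, sub_mul, mul_one, hCD]
    have h2 : U z - ω • (1 : Matrix (Fin n) (Fin n) ℂ) =
        C * (R z - ω • (1 : Matrix (Fin n) (Fin n) ℂ)) * D := by
      rw [hU, mul_sub, sub_mul, Matrix.mul_smul, Matrix.smul_mul, mul_one, hCD]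
    rw [h1, h2]
    calc C * (R z - 1) * D * (C * (R z - ω • (1 : Matrix (Fin n) (Fin n) ℂ)) * D)
        = C * (R z - 1) * (D * C) * (R z - ω • (1 : Matrix (Fin n) (Fin n) ℂ)) * D := by
          simp only [mul_assoc]
      _ = C * ((R z - 1) * (R z - ω • (1 : Matrix (Fin n) (Fin n) ℂ))) * D := by
          rw [hDC, mul_one]; simp only [mul_assoc]
      _ = 0 := by rw [hX, mul_zero, zero_mul]
  have hcomm := hFB U hUu z ω hω hω1 hr hUz g
  rw [← map_mul, ← map_mul] at hcomm
  -- injectivity of `U`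
  have hinj : ∀ a b : G, U a = U b → a = b := by
    intro a b hab
    rw [hU, hU] at hab
    have hRab : R a = R b := by
      calc R a = (D * C) * R a * (D * C) := by rw [hDC, one_mul, mul_one]
        _ = D * (C * R a * D) * C := by simp only [mul_assoc]
        _ = D * (C * R b * D) * C := by rw [hab]
        _ = (D * C) * R b * (D * C) := by simp only [mul_assoc]
        _ = R b := by rw [hDC, one_mul, mul_one]
    have hρab : ρ a = ρ b := e.injective hRab
    have h1 : ρ (a * b⁻¹) = ρ 1 := by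
      rw [map_mul, hρab, ← map_mul, mul_inv_cancel]
    have h2 : ρ.character (a * b⁻¹) = ρ.character 1 := by
      show LinearMap.trace ℂ _ (ρ (a * b⁻¹)) = LinearMap.trace ℂ _ (ρ 1)
      rw [h1]
    exact mul_inv_eq_one.mp (hfaith _ h2)
  exact hinj _ _ hcomm

end Cfsg.Agent.Lib.helper68.BL
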