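import Mathlib

/-! # S4700, piece QS: Sylow `p`-subgroups of a quotient by a normal `p'`-subgroup -/

set_option autoImplicit false

namespace Cfsg.Agent.Lib.helper27.BR

universe u

/-- A number congruent to `1` modulo `p` is `1 + c * p`. -/
theorem h27_one_add_mul_of_modEq (p s : ℕ) (hs : 1 ≤ s) (h : s ≡ 1 [MOD p]) :
    ∃ c : ℕ, s = 1 + c * p := by
  have hd : p ∣ s - 1 := (Nat.modEq_iff_dvd' hs).mp h.symm
  obtain ⟨c, hc⟩ := hd
  refine ⟨c, ?_⟩
  rw [mul_comm c p, ← hc]
  omega

/-- QS : Sylow `p`-subgroups of a quotient by a normal `p'`-subgroup. -/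
theorem quot_sylow {G : Type u} [Group G] [Finite G] (p : ℕ) [Fact p.Prime] (H : Subgroup G)
    [H.Normal] (hH : (Nat.card H).Coprime p) (P : Sylow p G) (hP : Nat.card P = p) (n : ℕ)
    (hn : Nat.card (Sylow p G) = 1 + n * p) :
    ∃ (Q : Sylow p (G ⧸ H)) (n' j : ℕ), Nat.card Q = p ∧
      Nat.card (Sylow p (G ⧸ H)) = 1 + n' * p ∧ 1 + n * p = (1 + n' * p) * (1 + j * p) := by
  classical
  have hp : p.Prime := Fact.out
  have hπ : Function.Surjective (QuotientGroup.mk' H) := QuotientGroup.mk'_surjective H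
  obtain ⟨Q, hQ⟩ : ∃ Q : Sylow p (G ⧸ H), (Q : Subgroup (G ⧸ H)) =
      (P : Subgroup G).map (QuotientGroup.mk' H) := ⟨P.mapSurjective hπ, rfl⟩
  -- the order of `Q`
  have hQcard : Nat.card Q = p := by
    have h1 : Nat.card Q = p ^ (Nat.card (G ⧸ H)).factorization p := Q.card_eq_multiplicity
    have h2 : Nat.card P = p ^ (Nat.card G).factorization p := P.card_eq_multiplicity
    have h3 : Nat.card G = Nat.card (G ⧸ H) * Nat.card H :=
      Subgroup.card_eq_card_quotient_mul_card_subgroup H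
    have h4 : (Nat.card H).factorization p = 0 := by
      apply Nat.factorization_eq_zero_of_not_dvd
      intro hd
      have h5 : p ∣ Nat.gcd (Nat.card H) p := Nat.dvd_gcd hd dvd_rfl
      rw [Nat.Coprime] at hH
      rw [hH] at h5
      exact hp.one_lt.ne' (Nat.dvd_one.mp h5)
    have h5 : (Nat.card G).factorization p = (Nat.card (G ⧸ H)).factorization p := by
      rw [h3, Nat.factorization_mul Nat.card_pos.ne' Nat.card_pos.ne']
      simp [h4]
    rw [h1, ← h5, ← h2, hP]
  -- the preimage of the normalizer of `Q`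
  obtain ⟨K, hK⟩ : ∃ K : Subgroup G, K =
      (Subgroup.normalizer ((Q : Subgroup (G ⧸ H)) : Set (G ⧸ H))).comap (QuotientGroup.mk' H) :=
    ⟨_, rfl⟩
  have hKidx : K.index = Nat.card (Sylow p (G ⧸ H)) := by
    rw [hK, Subgroup.index_comap_of_surjective _ hπ]
    exact (Sylow.card_eq_index_normalizer Q).symm
  have hNK : Subgroup.normalizer ((P : Subgroup G) : Set G) ≤ K := by
    rw [hK, ← Subgroup.map_le_iff_le_comap, hQ]
    exact Subgroup.le_normalizer_map _
  have hPK : (P : Subgroup G) ≤ K := Subgroup.le_normalizer.trans hNK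
  -- Sylow subgroups of `K`
  have h1 : Nat.card (Sylow p K) =
      (Subgroup.normalizer ((P.subtype hPK : Subgroup K) : Set K)).index :=
    Sylow.card_eq_index_normalizer _
  have h2 : Subgroup.normalizer ((P.subtype hPK : Subgroup K) : Set K) =
      (Subgroup.normalizer ((P : Subgroup G) : Set G)).subgroupOf K := by
    rw [Sylow.coe_subtype]
    exact (Subgroup.subgroupOf_normalizer_eq hPK).symm
  have h3 : (Subgroup.normalizer ((P : Subgroup G) : Set G)).relIndex K * K.index =
      (Subgroup.normalizer ((P : Subgroup G) : Set G)).index := Subgroup.relIndex_mul_index hNK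
  have h4 : Nat.card (Sylow p G) = (Subgroup.normalizer ((P : Subgroup G) : Set G)).index :=
    Sylow.card_eq_index_normalizer P
  have h5 : Nat.card (Sylow p K) = (Subgroup.normalizer ((P : Subgroup G) : Set G)).relIndex K := by
    rw [h1, h2]
    rfl
  obtain ⟨n', hn'⟩ := h27_one_add_mul_of_modEq p (Nat.card (Sylow p (G ⧸ H))) Nat.card_pos
    (card_sylow_modEq_one p (G ⧸ H))
  obtain ⟨j, hj⟩ := h27_one_add_mul_of_modEq p (Nat.card (Sylow p K)) Nat.card_pos
    (card_sylow_modEq_one p K)
  refine ⟨Q, n', j, hQcard, hn', ?_⟩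
  rw [← hn, h4, ← h3, ← h5, hj, hKidx, hn']
  ring

end Cfsg.Agent.Lib.helper27.BR
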