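import Mathlib
import Cfsg.Agent.Lib.helper21.BRDefs
import Cfsg.Agent.Lib.helper78.BR_GT5
import Cfsg.Agent.Lib.helper17.BR_GT7
import Cfsg.Agent.Lib.helper32.BR_M12a

set_option autoImplicit false

/-!
# S0999 piece M12: the final step in the case `e = 2` (assembly of M12a, GT5, GT7)
-/

namespace Cfsg.Agent.Lib.helper21.BR

open Cfsg Cfsg.Agent.Lib.helper21

universe u

section Chars

variable {G : Type u} [Group G] [Fintype G]
variable {p : ℕ} [Fact p.Prime] {P : Sylow p G}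
variable {t : ℕ} {X Y : Finset (IrrCharacter G)} {εX : IrrCharacter G → ℤ} {ε : ℤ}
  {f₀ : ℕ}

/-- M12 -/
theorem final_e2 (h : BRSelf p P 2 t X Y εX ε f₀) (hε : ε = -1)
    (hmix : ∀ g : G, ¬ p ∣ orderOf g → ∀ r r' : ℕ, r.Prime → r'.Prime → r ∣ p - 1 →
      r' ∣ p - 2 → r ∣ orderOf g → r' ∣ orderOf g → False) :
    ∃ (m : ℕ) (F : Type) (_ : Field F) (_ : Fintype F), Fintype.card F = 2 ^ m ∧
      p = 2 ^ m + 1 ∧ 3 < p ∧
      Nonempty (G ≃* Matrix.ProjectiveSpecialLinearGroup (Fin 2) F) := by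
  have hsimple : IsSimpleGroup G := h.simple
  have het := h.et
  have ht := h.t_ge
  have hp5 : 5 ≤ p := by omega
  exact final_group h.noncyc p hp5 h.cardG (card_A h hε)
    (order_eq_of_dvd p P h.cardP h.cardC) hmix

end Chars

end Cfsg.Agent.Lib.helper21.BR
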