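import Mathlib

namespace Cfsg.Agent.Lib.helper27

theorem bruhat_of_card {G : Type*} [Group G] [Finite G] (B U : Subgroup G) (w : G) (hUB : U ≤ B) (hU : U ≠ ⊥) (hdisj : ∀ u ∈ U, w * u * w⁻¹ ∈ B → u = 1) (hcard : Nat.card B * (1 + Nat.card U) = Nat.card G) : ∀ g : G, g ∈ B ∨ ∃ b ∈ B, ∃ u ∈ U, g = b * w * u := by
  classical
  let f : B ⊕ (B × U) → G := fun x => Sum.elim (fun b : B => (b : G)) (fun q : B × U => (q.1 : G) * w * (q.2 : G)) x
  have hwB : w ∉ B := by
    intro hw
    obtain ⟨u0, hu0, hu0ne⟩ : ∃ u0 ∈ U, u0 ≠ 1 := by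
      by_contra hcon
      push Not at hcon
      exact hU ((Subgroup.eq_bot_iff_forall U).2 hcon)
    exact hu0ne (hdisj u0 hu0 (B.mul_mem (B.mul_mem hw (hUB hu0)) (B.inv_mem hw)))
  have hinj : Function.Injective f := by
    rintro (b | ⟨b, u⟩) (b' | ⟨b', u'⟩) h
    · simp only [f, Sum.elim_inl] at h
      exact congrArg _ (Subtype.ext h)
    · exfalso
      simp only [f, Sum.elim_inl, Sum.elim_inr] at h
      apply hwB
      have : w = (b' : G)⁻¹ * b * (u' : G)⁻¹ := by rw [h]; group
      rw [this]
      exact B.mul_mem (B.mul_mem (B.inv_mem b'.2) b.2) (B.inv_mem (hUB u'.2))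
    · exfalso
      simp only [f, Sum.elim_inl, Sum.elim_inr] at h
      apply hwB
      have : w = (b : G)⁻¹ * b' * (u : G)⁻¹ := by rw [← h]; group
      rw [this]
      exact B.mul_mem (B.mul_mem (B.inv_mem b.2) b'.2) (B.inv_mem (hUB u.2))
    · simp only [f, Sum.elim_inr] at h
      have h1 : w * ((u' : G) * (u : G)⁻¹) * w⁻¹ = (b' : G)⁻¹ * b := by
        have : (b : G) = b' * w * u' * (u : G)⁻¹ * w⁻¹ := by
          rw [← h]; group
        rw [this]; group
      have h2 : (u' : G) * (u : G)⁻¹ = 1 := by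
        apply hdisj _ (U.mul_mem u'.2 (U.inv_mem u.2))
        rw [h1]
        exact B.mul_mem (B.inv_mem b'.2) b.2
      have hu : (u' : G) = u := by
        rw [mul_inv_eq_one] at h2; exact h2
      have hb : (b : G) = b' := by
        rw [hu] at h
        exact mul_right_cancel (mul_right_cancel h)
      have e1 : b = b' := Subtype.ext hb
      have e2 : u = u' := Subtype.ext hu.symm
      rw [e1, e2]
  have hc : Nat.card (B ⊕ (B × U)) = Nat.card G := by
    rw [Nat.card_sum, Nat.card_prod, ← hcard]; ring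
  have hbij : Function.Bijective f := (Nat.bijective_iff_injective_and_card f).2 ⟨hinj, hc⟩
  intro g
  obtain ⟨x, hx⟩ := hbij.2 g
  rcases x with b | ⟨b, u⟩
  · left; rw [← hx]; exact b.2
  · right; exact ⟨b, b.2, u, u.2, hx.symm⟩

theorem norm_syl7 {G : Type*} [Group G] [Finite G] (hcard : Nat.card G = 126000) (x s : G) (hx : orderOf x = 7) (h : ∀ n : G, n * x * n⁻¹ ∈ Subgroup.zpowers x → ∃ j < 3, ∃ i < 7, n = s ^ j * x ^ i) : ∀ S : Sylow 7 G, Nat.card (Subgroup.normalizer ((S : Subgroup G) : Set G)) = 21 := by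
  classical
  have : Fact (Nat.Prime 7) := ⟨by norm_num⟩
  have hf : (Nat.card G).factorization 7 = 1 := by
    rw [hcard]
    have e : (126000 : ℕ) = 7 * 18000 := by norm_num
    rw [e, Nat.factorization_mul (by norm_num) (by norm_num)]
    simp [Nat.Prime.factorization_self (by norm_num : Nat.Prime 7),
      Nat.factorization_eq_zero_of_not_dvd (by norm_num : ¬ 7 ∣ 18000)]
  have hP : Nat.card (Subgroup.zpowers x) = 7 ^ (Nat.card G).factorization 7 := by
    rw [hf, Nat.card_zpowers, hx]; norm_num
  set P0 : Sylow 7 G := Sylow.ofCard (Subgroup.zpowers x) hP with hP0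
  have hP0c : (P0 : Subgroup G) = Subgroup.zpowers x := rfl
  -- the normalizer of P0
  have key0 : Nat.card (Subgroup.normalizer ((P0 : Subgroup G) : Set G)) = 21 := by
    set N : Subgroup G := Subgroup.normalizer ((P0 : Subgroup G) : Set G) with hN
    have hle : Nat.card N ≤ 21 := by
      have hmem : ∀ n : N, ∃ q : Fin 3 × Fin 7, (n : G) = s ^ (q.1 : ℕ) * x ^ (q.2 : ℕ) := by
        intro n
        have hn : (n : G) * x * (n : G)⁻¹ ∈ Subgroup.zpowers x := by
          have h1 : (n : G) ∈ Subgroup.normalizer ((P0 : Subgroup G) : Set G) := n.2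
          rw [Subgroup.mem_normalizer_iff] at h1
          exact (h1 x).1 (Subgroup.mem_zpowers x)
        obtain ⟨j, hj, i, hi, e⟩ := h n hn
        exact ⟨(⟨j, hj⟩, ⟨i, hi⟩), e⟩
      choose φ hφ using hmem
      have hinj : Function.Injective φ := by
        intro a b hab
        apply Subtype.ext
        rw [hφ a, hφ b, hab]
      have := Nat.card_le_card_of_injective φ hinj
      simpa using this
    have h7 : 7 ∣ Nat.card N := by
      have h1 : (P0 : Subgroup G) ≤ N := Subgroup.le_normalizer
      have h2 := Subgroup.card_dvd_of_le h1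
      rw [hP0c, Nat.card_zpowers, hx] at h2
      exact h2
    have hidx : Nat.card N * N.index = 126000 := by
      rw [Subgroup.card_mul_index, hcard]
    have hmod : N.index ≡ 1 [MOD 7] := by
      have h1 := card_sylow_modEq_one 7 G
      have h2 := Sylow.card_eq_index_normalizer P0
      rw [h2] at h1
      exact h1
    obtain ⟨k, hk⟩ := h7
    have hk3 : k ≤ 3 := by omega
    have hmod' : N.index % 7 = 1 := hmod
    rw [hk] at hidx
    interval_cases k
    · omega
    · omega
    · omega
    · omega
  intro S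
  have h1 := Sylow.card_eq_index_normalizer S
  have h2 := Sylow.card_eq_index_normalizer P0
  have h3 : (Subgroup.normalizer ((S : Subgroup G) : Set G)).index =
      (Subgroup.normalizer ((P0 : Subgroup G) : Set G)).index := h1.symm.trans h2
  have h4 := Subgroup.card_mul_index (Subgroup.normalizer ((S : Subgroup G) : Set G))
  have h5 := Subgroup.card_mul_index (Subgroup.normalizer ((P0 : Subgroup G) : Set G))
  rw [h3] at h4
  rw [key0] at h5
  have hpos : 0 < (Subgroup.normalizer ((P0 : Subgroup G) : Set G)).index := by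
    rcases Nat.eq_zero_or_pos (Subgroup.normalizer ((P0 : Subgroup G) : Set G)).index with h0 | h0
    · rw [h0, hcard] at h5; omega
    · exact h0
  have h6 : Nat.card (Subgroup.normalizer ((S : Subgroup G) : Set G)) *
      (Subgroup.normalizer ((P0 : Subgroup G) : Set G)).index =
      21 * (Subgroup.normalizer ((P0 : Subgroup G) : Set G)).index := by rw [h4, h5]
  exact Nat.eq_of_mul_eq_mul_right hpos h6

end Cfsg.Agent.Lib.helper27
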