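import Mathlib
import Cfsg.Prelude.Def_Local
import Cfsg.Prelude.Def_Balance
import Cfsg.Agent.Lib.helper27.Signalizer
import Cfsg.Agent.Lib.helper27.Layer
import Cfsg.Agent.Lib.helper37.CoprimeGen

set_option autoImplicit false

/-!
# Closed signalizer functors inside a solvable `p'`-group are complete

`A` is an elementary abelian `p`-group, `F` a subgroup with `p ^ 3 * |F| ≤ |A|`, and `θ` is a
"signalizer functor" defined on the elements of `A` outside `F` (values `A`-invariant, `θ a ≤ C(a)`,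
balance `θ a ⊓ C(b) ≤ θ b`). If the subgroup `Y` generated by the `θ a` is a solvable group of order
prime to `p`, then `C_Y(x) ≤ θ x` for every `x ∈ A` outside `F`.
-/

namespace Cfsg.Agent.Lib.helper27

open Subgroup
open scoped commutatorElement

variable {G : Type*} [Group G]

theorem card_mul_relIndex_eq {H K : Subgroup G} (h : H ≤ K) :
    Nat.card H * H.relIndex K = Nat.card K := by
  have := Subgroup.relIndex_mul_relIndex ⊥ H K bot_le h
  rwa [Subgroup.relIndex_bot_left, Subgroup.relIndex_bot_left] at this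

/-- Two subgroups of index at most `p` in `A` have a common element outside `F` when
`p ^ 3 * |F| ≤ |A|`. -/
theorem exists_mem_inf_not_mem_of_relIndex_le [Finite G] (p : ℕ) [hp : Fact p.Prime]
    (A F B₁ B₂ : Subgroup G) (hcard : p ^ 3 * Nat.card F ≤ Nat.card A) (hB₁ : B₁ ≤ A)
    (h₁ : B₁.relIndex A ≤ p) (h₂ : B₂.relIndex A ≤ p) :
    ∃ c ∈ B₁ ⊓ B₂, c ∉ F := by
  by_contra hcon
  have hle : B₁ ⊓ B₂ ≤ F := by
    intro c hc
    by_contra hcF
    exact hcon ⟨c, hc, hcF⟩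
  have h1 : (B₁ ⊓ B₂).relIndex A ≤ B₁.relIndex A * B₂.relIndex A := Subgroup.relIndex_inf_le
  have h2 : B₁.relIndex A * B₂.relIndex A ≤ p * p := Nat.mul_le_mul h₁ h₂
  have h3 : Nat.card ↥(B₁ ⊓ B₂) ≤ Nat.card F := Subgroup.card_le_of_le hle
  have h4 := card_mul_relIndex_eq (inf_le_left.trans hB₁ : B₁ ⊓ B₂ ≤ A)
  have hF0 : 0 < Nat.card F := Nat.card_pos
  have h5 : Nat.card A ≤ Nat.card F * (p * p) := by
    rw [← h4]
    exact Nat.mul_le_mul h3 (h1.trans h2)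
  have h6 : Nat.card F * (p * p) < p ^ 3 * Nat.card F := by
    have h7 := hp.out.two_le
    have h8 : p ^ 3 * Nat.card F = Nat.card F * (p * p) * p := by ring
    rw [h8]
    have h9 : 0 < Nat.card F * (p * p) := Nat.mul_pos hF0 (Nat.mul_pos (by omega) (by omega))
    nlinarith
  omega

theorem conj_mem_of_le_normalizer {A K : Subgroup G} (h : A ≤ normalizer (K : Set G)) {a x : G}
    (ha : a ∈ A) (hx : x ∈ K) : a * x * a⁻¹ ∈ K :=
  (Subgroup.mem_normalizer_iff.mp (h ha) x).mp hx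

theorem le_normalizer_inf_of_le {A K L : Subgroup G} (hK : A ≤ normalizer (K : Set G))
    (hL : A ≤ normalizer (L : Set G)) : A ≤ normalizer ((K ⊓ L : Subgroup G) : Set G) :=
  (le_inf hK hL).trans Subgroup.inf_normalizer_le_normalizer_inf

/-- If every element `y` of the subgroup `T` conjugates the subgroup `K` into itself, then `T`
normalizes `K`. -/
theorem le_normalizer_of_conj_mem {T K : Subgroup G}
    (h : ∀ y ∈ T, ∀ u ∈ K, y * u * y⁻¹ ∈ K) : T ≤ normalizer (K : Set G) := by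
  intro y hy
  rw [Subgroup.mem_normalizer_iff]
  intro u
  refine ⟨h y hy u, fun hu => ?_⟩
  have := h y⁻¹ (inv_mem hy) _ hu
  simpa [mul_assoc] using this

/-- The main induction. -/
theorem closed_complete_aux [Finite G] (p : ℕ) [hp : Fact p.Prime] (A F : Subgroup G)
    (hAc : ∀ a ∈ A, ∀ b ∈ A, a * b = b * a) (hAp : ∀ a ∈ A, a ^ p = 1)
    (hcard : p ^ 3 * Nat.card F ≤ Nat.card A) :
    ∀ (n : ℕ) (Y : Subgroup G) (θ : G → Subgroup G), Nat.card Y ≤ n →
      Group.IsSolvable Y → ¬ p ∣ Nat.card Y → A ≤ normalizer (Y : Set G) →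
      (∀ a ∈ A, a ∉ F → θ a ≤ centralizer {a}) →
      (∀ a ∈ A, a ∉ F → A ≤ normalizer (θ a : Set G)) →
      (∀ a ∈ A, a ∉ F → ∀ b ∈ A, b ∉ F → θ a ⊓ centralizer {b} ≤ θ b) →
      Y = ⨆ a : {a : G // a ∈ A ∧ a ∉ F}, θ a →
      ∀ x ∈ A, x ∉ F → Y ⊓ centralizer {x} ≤ θ x := by
  intro n
  induction n with
  | zero =>
    intro Y θ hn _ _ _ _ _ _ _ x _ _
    have h0 : 0 < Nat.card Y := Nat.card_pos
    omega
  | succ n ih =>
    intro Y θ hn hYs hYp hAY hθC hθA hbal hgen x hxA hxF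
    by_cases hY1 : Y = ⊥
    · rw [hY1]
      exact inf_le_left.trans bot_le
    have hθY : ∀ a ∈ A, a ∉ F → θ a ≤ Y := by
      intro a ha haF
      rw [hgen]
      exact le_iSup (fun a : {a : G // a ∈ A ∧ a ∉ F} => θ (a : G)) ⟨a, ha, haF⟩
    have hθp : ∀ a ∈ A, a ∉ F → ¬ p ∣ Nat.card (θ a) := fun a ha haF h =>
      hYp (h.trans (Subgroup.card_dvd_of_le (hθY a ha haF)))
    -- the derived subgroup is proper
    have hcomm_ne : (⁅Y, Y⁆ : Subgroup G) ≠ Y := by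
      intro h
      have hnt : Nontrivial ↥Y := (Subgroup.nontrivial_iff_ne_bot Y).mpr hY1
      have h1 := Group.IsSolvable.commutator_lt_top_of_nontrivial ↥Y
      have h2 : (_root_.commutator ↥Y).map Y.subtype = ⁅Y, Y⁆ := Subgroup.map_subtype_commutator Y
      rw [h] at h2
      have h3 : _root_.commutator ↥Y = ⊤ := by
        apply Subgroup.map_injective Y.subtype_injective
        rw [h2, ← MonoidHom.range_eq_map, Subgroup.range_subtype]
      exact (ne_of_lt h1) h3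
    have hcomm_le : (⁅Y, Y⁆ : Subgroup G) ≤ Y := by
      rw [← Subgroup.map_subtype_commutator]
      exact Subgroup.map_subtype_le _
    have hAcomm : A ≤ normalizer ((⁅Y, Y⁆ : Subgroup G) : Set G) :=
      Cfsg.Agent.Lib.helper37.le_normalizer_commutator_self A Y hAY
    -- a maximal proper `A`-invariant subgroup containing the derived subgroup
    obtain ⟨N, ⟨hYN, hNY, hNne, hAN⟩, hmax⟩ := exists_maximal_of_wellFoundedGT
      (fun M : Subgroup G => ⁅Y, Y⁆ ≤ M ∧ M ≤ Y ∧ M ≠ Y ∧ A ≤ normalizer (M : Set G))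
      ⟨⁅Y, Y⁆, le_rfl, hcomm_le, hcomm_ne, hAcomm⟩
    -- `N` is normalized by `Y`
    have hYnN : Y ≤ normalizer (N : Set G) := by
      apply le_normalizer_of_conj_mem
      intro y hy u hu
      have h1 : ⁅y, u⁆ ∈ (⁅Y, Y⁆ : Subgroup G) := Subgroup.commutator_mem_commutator hy (hNY hu)
      have h2 : y * u * y⁻¹ = ⁅y, u⁆ * u := by
        rw [commutatorElement_def]; group
      rw [h2]
      exact mul_mem (hYN h1) hu
    -- the subgroup generated by the `N ⊓ θ a`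
    set N₁ : Subgroup G := ⨆ a : {a : G // a ∈ A ∧ a ∉ F}, N ⊓ θ a with hN₁
    have hN₁N : N₁ ≤ N := iSup_le fun a => inf_le_left
    have hN₁Y : N₁ ≤ Y := hN₁N.trans hNY
    have hNlt : Nat.card N < Nat.card Y := by
      by_contra hge
      exact hNne (Subgroup.eq_of_le_of_card_ge hNY (not_lt.mp hge))
    have hN₁card : Nat.card N₁ ≤ n := by
      have := Subgroup.card_le_of_le hN₁N
      omega
    have hN₁s : Group.IsSolvable ↥N₁ :=
      Group.isSolvable_of_isSolvable_injective (Subgroup.inclusion_injective hN₁Y)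
    have hN₁p : ¬ p ∣ Nat.card ↥N₁ := fun h => hYp (h.trans (Subgroup.card_dvd_of_le hN₁Y))
    have hANθ : ∀ a ∈ A, a ∉ F → A ≤ normalizer ((N ⊓ θ a : Subgroup G) : Set G) :=
      fun a ha haF => le_normalizer_inf_of_le hAN (hθA a ha haF)
    have hAN₁ : A ≤ normalizer (N₁ : Set G) :=
      Cfsg.Agent.Lib.helper37.le_normalizer_iSup A _ (fun a => hANθ a.1 a.2.1 a.2.2)
    have hIH : ∀ x ∈ A, x ∉ F → N₁ ⊓ centralizer {x} ≤ N ⊓ θ x :=
      ih N₁ (fun a => N ⊓ θ a) hN₁card hN₁s hN₁p hAN₁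
        (fun a ha haF => inf_le_right.trans (hθC a ha haF)) hANθ
        (fun a ha haF b hb hbF => by
          intro u hu
          obtain ⟨hu1, hu2⟩ := Subgroup.mem_inf.mp hu
          obtain ⟨hu3, hu4⟩ := Subgroup.mem_inf.mp hu1
          exact Subgroup.mem_inf.mpr ⟨hu3, hbal a ha haF b hb hbF (Subgroup.mem_inf.mpr ⟨hu4, hu2⟩)⟩)
        rfl
    -- `N₁` is normalized by `Y`
    have hYnN₁ : Y ≤ normalizer (N₁ : Set G) := by
      rw [hgen]
      apply iSup_le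
      rintro ⟨b, hb, hbF⟩
      have hgb := Cfsg.Agent.Lib.helper37.coprime_gen_hyperplane p A (θ b) hAc hAp
        (hθp b hb hbF) (hθA b hb hbF)
      rw [hgb]
      apply iSup_le
      rintro ⟨B, hBA, hBi⟩
      apply le_normalizer_of_conj_mem
      intro y hy u hu
      obtain ⟨hyθ, hyB⟩ := Subgroup.mem_inf.mp hy
      have hyY : y ∈ Y := hθY b hb hbF hyθ
      have hle : N₁ ≤ N₁.comap (MulAut.conj y).toMonoidHom := by
        apply iSup_le
        rintro ⟨a, ha, haF⟩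
        have hpa : ¬ p ∣ Nat.card ↥(N ⊓ θ a) := fun h =>
          hθp a ha haF (h.trans (Subgroup.card_dvd_of_le inf_le_right))
        have hga := Cfsg.Agent.Lib.helper37.coprime_gen_hyperplane p A (N ⊓ θ a) hAc hAp
          hpa (hANθ a ha haF)
        rw [hga]
        apply iSup_le
        rintro ⟨B', hB'A, hB'i⟩
        intro v hv
        obtain ⟨hv1, hvB'⟩ := Subgroup.mem_inf.mp hv
        obtain ⟨hvN, hvθ⟩ := Subgroup.mem_inf.mp hv1
        obtain ⟨c, hc, hcF⟩ := exists_mem_inf_not_mem_of_relIndex_le p A F B B' hcard hBA hBi hB'i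
        obtain ⟨hcB, hcB'⟩ := Subgroup.mem_inf.mp hc
        have hcA : c ∈ A := hBA hcB
        have hyc : y ∈ θ c := hbal b hb hbF c hcA hcF (Subgroup.mem_inf.mpr
          ⟨hyθ, Subgroup.centralizer_le (Set.singleton_subset_iff.mpr hcB) hyB⟩)
        have hvc : v ∈ θ c := hbal a ha haF c hcA hcF (Subgroup.mem_inf.mpr
          ⟨hvθ, Subgroup.centralizer_le (Set.singleton_subset_iff.mpr hcB') hvB'⟩)
        rw [Subgroup.mem_comap]
        have h1 : y * v * y⁻¹ ∈ N ⊓ θ c := Subgroup.mem_inf.mpr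
          ⟨conj_mem_of_le_normalizer hYnN hyY hvN, mul_mem (mul_mem hyc hvc) (inv_mem hyc)⟩
        exact (le_iSup (fun a : {a : G // a ∈ A ∧ a ∉ F} => N ⊓ θ (a : G)) ⟨c, hcA, hcF⟩) h1
      exact hle hu
    -- some `θ a₀` is not contained in `N`
    have hex : ∃ a₀ ∈ A, a₀ ∉ F ∧ ¬ θ a₀ ≤ N := by
      by_contra hcon
      apply hNne
      apply le_antisymm hNY
      rw [hgen]
      apply iSup_le
      rintro ⟨a, ha, haF⟩
      by_contra h
      exact hcon ⟨a, ha, haF, h⟩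
    obtain ⟨a₀, ha₀, ha₀F, hTN⟩ := hex
    have hTY : θ a₀ ≤ Y := hθY a₀ ha₀ ha₀F
    have hTsupN : θ a₀ ⊔ N = Y := by
      by_contra hne
      have h1 : θ a₀ ⊔ N ≤ N := hmax ⟨hYN.trans le_sup_right, sup_le hTY hNY, hne,
        Cfsg.Agent.Lib.helper37.le_normalizer_sup A _ _ (hθA a₀ ha₀ ha₀F) hAN⟩ le_sup_right
      exact hTN (le_sup_left.trans h1)
    have ha₀p : a₀ ^ p = 1 := hAp a₀ ha₀
    -- `a₀` acts trivially on `Y` modulo `N`
    have hmodN : ∀ u ∈ Y, u⁻¹ * (a₀ * u * a₀⁻¹) ∈ N := by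
      intro u hu
      have hu' : u ∈ N ⊔ θ a₀ := by rw [sup_comm, hTsupN]; exact hu
      obtain ⟨m, hm, t, ht, rfl⟩ := mem_sup_of_le_normalizer (hTY.trans hYnN) hu'
      have htc : t * a₀ = a₀ * t := Subgroup.mem_centralizer_singleton_iff.mp (hθC a₀ ha₀ ha₀F ht)
      have h1 : m⁻¹ * (a₀ * m * a₀⁻¹) ∈ N :=
        mul_mem (inv_mem hm) (conj_mem_of_le_normalizer hAN ha₀ hm)
      have h2 := conj_mem_of_le_normalizer hYnN (inv_mem (hTY ht)) h1
      have h3 : (m * t)⁻¹ * (a₀ * (m * t) * a₀⁻¹) = t⁻¹ * (m⁻¹ * (a₀ * m * a₀⁻¹)) * t⁻¹⁻¹ := by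
        have htc' : t * a₀⁻¹ = a₀⁻¹ * t := (Commute.inv_right (show Commute t a₀ from htc)).eq
        have : a₀ * (m * t) * a₀⁻¹ = a₀ * m * a₀⁻¹ * t := by
          simp only [mul_assoc]
          rw [htc']
        rw [this]; group
      rw [h3]
      exact h2
    -- every `θ x` lies in `θ a₀ ⊔ N₁`
    have hstep5 : ∀ x ∈ A, x ∉ F → θ x ≤ θ a₀ ⊔ N₁ := by
      intro x hx hxF u hu
      have hD : ¬ p ∣ Nat.card ↥(θ x ⊓ N) := fun h =>
        hθp x hx hxF (h.trans (Subgroup.card_dvd_of_le inf_le_left))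
      obtain ⟨d, hd, hfix⟩ := exists_fixed_in_coset p a₀ ha₀p (θ x ⊓ N) hD u (by
        intro d hd
        obtain ⟨hd1, hd2⟩ := Subgroup.mem_inf.mp hd
        refine ⟨u⁻¹ * (a₀ * (u * d) * a₀⁻¹), Subgroup.mem_inf.mpr ⟨?_, ?_⟩, by group⟩
        · exact mul_mem (inv_mem hu)
            (conj_mem_of_le_normalizer (hθA x hx hxF) ha₀ (mul_mem hu hd1))
        · have h1 := hmodN u (hθY x hx hxF hu)
          have h2 := conj_mem_of_le_normalizer hAN ha₀ hd2
          have h3 : u⁻¹ * (a₀ * (u * d) * a₀⁻¹) = u⁻¹ * (a₀ * u * a₀⁻¹) * (a₀ * d * a₀⁻¹) := by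
            group
          rw [h3]
          exact mul_mem h1 h2)
      obtain ⟨hd1, hd2⟩ := Subgroup.mem_inf.mp hd
      have hudC : u * d ∈ centralizer ({a₀} : Set G) := by
        rw [Subgroup.mem_centralizer_singleton_iff]
        have := mul_inv_eq_iff_eq_mul.mp hfix
        exact this.symm
      have hudT : u * d ∈ θ a₀ := hbal x hx hxF a₀ ha₀ ha₀F
        (Subgroup.mem_inf.mpr ⟨mul_mem hu hd1, hudC⟩)
      have hdN₁ : d ∈ N₁ :=
        (le_iSup (fun a : {a : G // a ∈ A ∧ a ∉ F} => N ⊓ θ (a : G)) ⟨x, hx, hxF⟩)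
          (Subgroup.mem_inf.mpr ⟨hd2, hd1⟩)
      have : u = (u * d) * d⁻¹ := by group
      rw [this]
      exact mul_mem ((le_sup_left : θ a₀ ≤ θ a₀ ⊔ N₁) hudT)
        ((le_sup_right : N₁ ≤ θ a₀ ⊔ N₁) (inv_mem hdN₁))
    have hY5 : Y ≤ θ a₀ ⊔ N₁ := by
      intro y hy
      have : y ∈ ⨆ a : {a : G // a ∈ A ∧ a ∉ F}, θ (a : G) := hgen ▸ hy
      exact (iSup_le fun a : {a : G // a ∈ A ∧ a ∉ F} => hstep5 a.1 a.2.1 a.2.2) this
    -- the final step
    intro y hy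
    obtain ⟨hyY, hyx⟩ := Subgroup.mem_inf.mp hy
    have hyx' : y * x = x * y := Subgroup.mem_centralizer_singleton_iff.mp hyx
    have hy5 : y ∈ N₁ ⊔ θ a₀ := by rw [sup_comm]; exact hY5 hyY
    obtain ⟨m, hm, t, ht, hmt⟩ := mem_sup_of_le_normalizer (hTY.trans hYnN₁) hy5
    -- `y = t * n'` with `n' = t⁻¹ m t ∈ N₁`
    have hn' : t⁻¹ * m * t⁻¹⁻¹ ∈ N₁ := conj_mem_of_le_normalizer hYnN₁ (inv_mem (hTY ht)) hm
    have hyt : y = t * (t⁻¹ * m * t⁻¹⁻¹) := by rw [← hmt]; group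
    have hxp : x ^ p = 1 := hAp x hxA
    have hkey : t⁻¹ * (x * t * x⁻¹) ∈ N₁ := by
      have h1 := conj_mem_of_le_normalizer hAN₁ hxA hn'
      have h2 : t⁻¹ * (x * t * x⁻¹) =
          (t⁻¹ * m * t⁻¹⁻¹) * (x * (t⁻¹ * m * t⁻¹⁻¹) * x⁻¹)⁻¹ := by
        have h3 : x * y * x⁻¹ = y := by rw [← hyx']; group
        have h4 : x * t * x⁻¹ * (x * (t⁻¹ * m * t⁻¹⁻¹) * x⁻¹) = t * (t⁻¹ * m * t⁻¹⁻¹) := by
          rw [← hyt]
          have : x * t * x⁻¹ * (x * (t⁻¹ * m * t⁻¹⁻¹) * x⁻¹) = x * (t * (t⁻¹ * m * t⁻¹⁻¹)) * x⁻¹ := by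
            group
          rw [this, ← hyt, h3]
        rw [eq_mul_inv_iff_mul_eq, mul_assoc, h4]
        group
      rw [h2]
      exact mul_mem hn' (inv_mem h1)
    have hD : ¬ p ∣ Nat.card ↥(θ a₀ ⊓ N₁) := fun h =>
      hθp a₀ ha₀ ha₀F (h.trans (Subgroup.card_dvd_of_le inf_le_left))
    obtain ⟨d, hd, hfix⟩ := exists_fixed_in_coset p x hxp (θ a₀ ⊓ N₁) hD t (by
      intro d hd
      obtain ⟨hd1, hd2⟩ := Subgroup.mem_inf.mp hd
      refine ⟨t⁻¹ * (x * (t * d) * x⁻¹), Subgroup.mem_inf.mpr ⟨?_, ?_⟩, by group⟩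
      · exact mul_mem (inv_mem ht)
          (conj_mem_of_le_normalizer (hθA a₀ ha₀ ha₀F) hxA (mul_mem ht hd1))
      · have h2 := conj_mem_of_le_normalizer hAN₁ hxA hd2
        have h3 : t⁻¹ * (x * (t * d) * x⁻¹) = t⁻¹ * (x * t * x⁻¹) * (x * d * x⁻¹) := by
          group
        rw [h3]
        exact mul_mem hkey h2)
    obtain ⟨hd1, hd2⟩ := Subgroup.mem_inf.mp hd
    have htdx : t * d * x = x * (t * d) := (mul_inv_eq_iff_eq_mul.mp hfix).symm
    have htdC : t * d ∈ centralizer ({x} : Set G) :=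
      Subgroup.mem_centralizer_singleton_iff.mpr htdx
    have htdθ : t * d ∈ θ x := hbal a₀ ha₀ ha₀F x hxA hxF
      (Subgroup.mem_inf.mpr ⟨mul_mem ht hd1, htdC⟩)
    have hrest : d⁻¹ * (t⁻¹ * m * t⁻¹⁻¹) ∈ N₁ ⊓ centralizer ({x} : Set G) := by
      refine Subgroup.mem_inf.mpr ⟨mul_mem (inv_mem hd2) hn', ?_⟩
      have h1 : d⁻¹ * (t⁻¹ * m * t⁻¹⁻¹) = (t * d)⁻¹ * y := by rw [hyt]; group
      rw [h1]
      exact mul_mem (inv_mem htdC) hyx
    have hrestθ : d⁻¹ * (t⁻¹ * m * t⁻¹⁻¹) ∈ θ x := (hIH x hxA hxF hrest).2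
    have hfinal : y = (t * d) * (d⁻¹ * (t⁻¹ * m * t⁻¹⁻¹)) := by rw [hyt]; group
    rw [hfinal]
    exact mul_mem htdθ hrestθ

/-- **Closed ⇒ complete.** Let `A` be an elementary abelian `p`-group, `F` a subgroup with
`p ^ 3 * |F| ≤ |A|`, and `θ` a signalizer functor on the elements of `A` outside `F`. If the
subgroup `Y` generated by the `θ a` is solvable of order prime to `p`, then `C_Y(x) = θ x` for
every `x ∈ A` outside `F`. -/
theorem closed_complete [Finite G] (p : ℕ) [hp : Fact p.Prime] (A F : Subgroup G)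
    (hAc : ∀ a ∈ A, ∀ b ∈ A, a * b = b * a) (hAp : ∀ a ∈ A, a ^ p = 1)
    (hcard : p ^ 3 * Nat.card F ≤ Nat.card A) (Y : Subgroup G) (θ : G → Subgroup G)
    (hYs : Group.IsSolvable Y) (hYp : ¬ p ∣ Nat.card Y) (hAY : A ≤ normalizer (Y : Set G))
    (hθC : ∀ a ∈ A, a ∉ F → θ a ≤ centralizer {a})
    (hθA : ∀ a ∈ A, a ∉ F → A ≤ normalizer (θ a : Set G))
    (hbal : ∀ a ∈ A, a ∉ F → ∀ b ∈ A, b ∉ F → θ a ⊓ centralizer {b} ≤ θ b)
    (hgen : Y = ⨆ a : {a : G // a ∈ A ∧ a ∉ F}, θ a) :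
    ∀ x ∈ A, x ∉ F → Y ⊓ centralizer {x} = θ x := by
  intro x hx hxF
  apply le_antisymm
  · exact closed_complete_aux p A F hAc hAp hcard (Nat.card Y) Y θ le_rfl hYs hYp hAY hθC hθA
      hbal hgen x hx hxF
  · apply le_inf _ (hθC x hx hxF)
    rw [hgen]
    exact le_iSup (fun a : {a : G // a ∈ A ∧ a ∉ F} => θ (a : G)) ⟨x, hx, hxF⟩

end Cfsg.Agent.Lib.helper27
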