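import Mathlib

/-!
# S0679 piece C: double coset counting

If the subgroup `N` and the free double cosets `N r_j P` (`j < J`), separated by an invariant
`κ`, have together as many elements as `F`, they fill `F`.
-/

set_option autoImplicit false

namespace Cfsg.Agent.Lib.helper27

theorem deg11_dcos_complete {G : Type*} [Group G] (F N P : Subgroup G) [Finite F]
    (hN : N ≤ F) (hPN : P ≤ N)
    (κ : G → ℕ) (hκ : ∀ n ∈ N, ∀ p ∈ P, ∀ k ∈ F, κ (n * k * p) = κ k)
    (J : ℕ) (r : ℕ → G) (hr : ∀ j < J, r j ∈ F)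
    (hinj : ∀ i < J, ∀ j < J, κ (r i) = κ (r j) → i = j)
    (hne : ∀ j < J, κ (r j) ≠ κ 1)
    (hfree : ∀ j < J, ∀ n ∈ N, ∀ p ∈ P, n * r j * p = r j → n = 1 ∧ p = 1)
    (hcard : Nat.card N + J * (Nat.card N * Nat.card P) = Nat.card F) :
    ∀ k ∈ F, k ∈ N ∨ ∃ j < J, ∃ n ∈ N, ∃ p ∈ P, k = n * r j * p := by
  classical
  have : Finite N :=
    Finite.of_injective (Subgroup.inclusion hN) (Subgroup.inclusion_injective hN)
  have : Finite P :=
    Finite.of_injective (Subgroup.inclusion (hPN.trans hN)) (Subgroup.inclusion_injective _)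
  have hκN : ∀ n ∈ N, κ n = κ 1 := by
    intro n hn
    have h1 := hκ n hn 1 P.one_mem 1 F.one_mem
    simpa using h1
  have hκr : ∀ j < J, ∀ n ∈ N, ∀ p ∈ P, κ (n * r j * p) = κ (r j) :=
    fun j hj n hn p hp => hκ n hn p hp (r j) (hr j hj)
  obtain ⟨Φ, hΦl, hΦr⟩ : ∃ Φ : N ⊕ (Fin J × N × P) → F,
      (∀ n : N, (Φ (Sum.inl n) : G) = n) ∧
      (∀ (j : Fin J) (n : N) (p : P), (Φ (Sum.inr (j, n, p)) : G) = (n : G) * r j * (p : G)) :=
    ⟨Sum.elim (fun n => ⟨n.1, hN n.2⟩)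
      (fun z => ⟨z.2.1.1 * r z.1 * z.2.2.1,
        F.mul_mem (F.mul_mem (hN z.2.1.2) (hr z.1 z.1.2)) (hN (hPN z.2.2.2))⟩),
      fun _ => rfl, fun _ _ _ => rfl⟩
  have hΦ : Function.Injective Φ := by
    rintro (n | ⟨i, n, p⟩) (n' | ⟨j, n', p'⟩) h
    · have h1 : (n : G) = n' := by rw [← hΦl n, ← hΦl n', h]
      exact congrArg Sum.inl (Subtype.ext h1)
    · exfalso
      have h1 : (n : G) = (n' : G) * r j * (p' : G) := by rw [← hΦl n, ← hΦr j n' p', h]
      have h2 := hκN n n.2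
      rw [h1, hκr j j.2 n' n'.2 p' p'.2] at h2
      exact hne j j.2 h2
    · exfalso
      have h1 : (n' : G) = (n : G) * r i * (p : G) := by rw [← hΦl n', ← hΦr i n p, h]
      have h2 := hκN n' n'.2
      rw [h1, hκr i i.2 n n.2 p p.2] at h2
      exact hne i i.2 h2
    · have h1 : (n : G) * r i * (p : G) = (n' : G) * r j * (p' : G) := by
        rw [← hΦr i n p, ← hΦr j n' p', h]
      have h2 : κ (r i) = κ (r j) := by
        rw [← hκr i i.2 n n.2 p p.2, h1, hκr j j.2 n' n'.2 p' p'.2]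
      have hij : i = j := Fin.ext (hinj i i.2 j j.2 h2)
      subst hij
      have h3 : ((n' : G)⁻¹ * (n : G)) * r i * ((p : G) * (p' : G)⁻¹) = r i := by
        calc ((n' : G)⁻¹ * (n : G)) * r i * ((p : G) * (p' : G)⁻¹)
            = (n' : G)⁻¹ * ((n : G) * r i * (p : G)) * (p' : G)⁻¹ := by group
          _ = (n' : G)⁻¹ * ((n' : G) * r i * (p' : G)) * (p' : G)⁻¹ := by rw [h1]
          _ = r i := by group
      obtain ⟨h4, h5⟩ := hfree i i.2 _ (N.mul_mem (N.inv_mem n'.2) n.2) _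
        (P.mul_mem p.2 (P.inv_mem p'.2)) h3
      have hn : n = n' := Subtype.ext (inv_mul_eq_one.mp h4).symm
      have hp : p = p' := Subtype.ext (mul_inv_eq_one.mp h5)
      rw [hn, hp]
  have hcard' : Nat.card (N ⊕ (Fin J × N × P)) = Nat.card F := by
    rw [Nat.card_sum, Nat.card_prod, Nat.card_prod, Nat.card_fin]
    exact hcard
  have hbij : Function.Bijective Φ :=
    (Nat.bijective_iff_injective_and_card Φ).mpr ⟨hΦ, hcard'⟩
  intro k hk
  obtain ⟨z, hz⟩ := hbij.2 ⟨k, hk⟩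
  rcases z with n | ⟨j, n, p⟩
  · left
    have h1 : (n : G) = k := by rw [← hΦl n, hz]
    rw [← h1]
    exact n.2
  · right
    refine ⟨j, j.2, n, n.2, p, p.2, ?_⟩
    rw [← hΦr j n p, hz]

end Cfsg.Agent.Lib.helper27
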