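import Cfsg.Agent.Lib.helper34.Deg11Defs

/-!
# S0679 piece KI: invariance of the key `kap11`
-/

set_option autoImplicit false

namespace Cfsg.Agent.Lib.helper27

open Cfsg Cfsg.Agent.Lib.helper34

theorem kap11_sum16_congr {c c' : ℕ → ℕ} : ∀ n : ℕ, (∀ u < n, c u = c' u) →
    sum16 c n = sum16 c' n := by
  intro n
  induction n with
  | zero => intro _; rfl
  | succ n ih =>
    intro h
    show sum16 c n + c n * 16 ^ n = sum16 c' n + c' n * 16 ^ n
    rw [ih (fun u hu => h u (by omega)), h n (by omega)]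

theorem kap11_cand_eq (f : ℕ → ℕ) (i u : ℕ) :
    cand11 f i u = (((f ((u + i) % 11) + 11 - f i) % 11)
      * inv11 ((f ((i + 1) % 11) + 11 - f i) % 11)) % 11 := by
  unfold cand11
  rw [Nat.mod_mul_mod]

theorem kap11_dbl_table : ∀ X < 11, ∀ Z < 11,
    ((2 * X) % 11 * inv11 ((2 * Z) % 11)) % 11 = (X * inv11 Z) % 11 := by
  decide +kernel

theorem kap11_shift (f f' : ℕ → ℕ) (h : ∀ t < 11, f' t = f ((t + 1) % 11)) :
    kap11 f' = kap11 f := by
  have hkey : ∀ i ≤ 10, key11 f' i = key11 f ((i + 1) % 11) := by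
    intro i hi
    apply kap11_sum16_congr
    intro u hu
    unfold cand11
    have h1 : (u + i) % 11 < 11 := Nat.mod_lt _ (by norm_num)
    have h2 : (i + 1) % 11 < 11 := Nat.mod_lt _ (by norm_num)
    rw [h _ h1, h i (by omega), h _ h2]
    have e1 : ((u + i) % 11 + 1) % 11 = (u + (i + 1) % 11) % 11 := by omega
    rw [e1]
  unfold kap11
  apply minB_perm (fun j => (j + 1) % 11) (fun j => (j + 10) % 11)
  · intro j hj
    exact ⟨by omega, hkey j hj⟩
  · intro j hj
    refine ⟨by omega, ?_⟩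
    rw [hkey ((j + 10) % 11) (by omega)]
    have e : ((j + 10) % 11 + 1) % 11 = j := by omega
    rw [e]

theorem kap11_add (f f' : ℕ → ℕ) (hf : ∀ t < 11, f t < 11)
    (h : ∀ t < 11, f' t = (f t + 1) % 11) : kap11 f' = kap11 f := by
  unfold kap11
  apply minB_congr
  intro i hi
  apply kap11_sum16_congr
  intro u hu
  have h1 : (u + i) % 11 < 11 := Nat.mod_lt _ (by norm_num)
  have h2 : (i + 1) % 11 < 11 := Nat.mod_lt _ (by norm_num)
  have hi' : i < 11 := by omega
  have b1 := hf _ h1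
  have b2 := hf _ h2
  have b3 := hf i hi'
  have e1 : (f' ((u + i) % 11) + 11 - f' i) % 11 = (f ((u + i) % 11) + 11 - f i) % 11 := by
    rw [h _ h1, h i hi']
    omega
  have e2 : (f' ((i + 1) % 11) + 11 - f' i) % 11 = (f ((i + 1) % 11) + 11 - f i) % 11 := by
    rw [h _ h2, h i hi']
    omega
  rw [kap11_cand_eq, kap11_cand_eq, e1, e2]

theorem kap11_dbl (f f' : ℕ → ℕ) (hf : ∀ t < 11, f t < 11)
    (h : ∀ t < 11, f' t = (2 * f t) % 11) : kap11 f' = kap11 f := by
  unfold kap11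
  apply minB_congr
  intro i hi
  apply kap11_sum16_congr
  intro u hu
  have h1 : (u + i) % 11 < 11 := Nat.mod_lt _ (by norm_num)
  have h2 : (i + 1) % 11 < 11 := Nat.mod_lt _ (by norm_num)
  have hi' : i < 11 := by omega
  have b1 := hf _ h1
  have b2 := hf _ h2
  have b3 := hf i hi'
  have e1 : (f' ((u + i) % 11) + 11 - f' i) % 11
      = (2 * ((f ((u + i) % 11) + 11 - f i) % 11)) % 11 := by
    rw [h _ h1, h i hi']
    omega
  have e2 : (f' ((i + 1) % 11) + 11 - f' i) % 11
      = (2 * ((f ((i + 1) % 11) + 11 - f i) % 11)) % 11 := by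
    rw [h _ h2, h i hi']
    omega
  rw [kap11_cand_eq, kap11_cand_eq, e1, e2]
  exact kap11_dbl_table _ (Nat.mod_lt _ (by norm_num)) _ (Nat.mod_lt _ (by norm_num))

end Cfsg.Agent.Lib.helper27
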