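import Mathlib

/-!
Fusion of non-cyclic subgroups in a group with dihedral Sylow `2`-subgroups: the normalizer tower
argument.  `DihType S` is the abstract dihedral structure (a cyclic subgroup of index two all of
whose outside elements are involutions).
-/

set_option autoImplicit false

namespace Cfsg.Agent.Lib.helper27

variable {G : Type*} [Group G]

/-- The conjugate `x U x⁻¹` of a subgroup. -/
abbrev cj (x : G) (U : Subgroup G) : Subgroup G := U.map (MulAut.conj x).toMonoidHom

theorem mem_cj {x y : G} {U : Subgroup G} : y ∈ cj x U ↔ x⁻¹ * y * x ∈ U := by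
  constructor
  · rintro ⟨u, hu, rfl⟩
    have h : x⁻¹ * ((MulAut.conj x).toMonoidHom u) * x = u := by
      show x⁻¹ * (x * u * x⁻¹) * x = u
      group
    rw [h]; exact hu
  · intro h
    refine ⟨x⁻¹ * y * x, h, ?_⟩
    simp [MulAut.conj_apply, mul_assoc]

theorem cj_mul (x y : G) (U : Subgroup G) : cj (x * y) U = cj x (cj y U) := by
  ext z
  rw [mem_cj, mem_cj, mem_cj]
  have h : (x * y)⁻¹ * z * (x * y) = y⁻¹ * (x⁻¹ * z * x) * y := by group
  rw [h]

theorem card_cj (x : G) (U : Subgroup G) : Nat.card (cj x U) = Nat.card U :=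
  Subgroup.card_map_of_injective (MulAut.conj x).injective

theorem cj_mono {x : G} {U V : Subgroup G} (h : U ≤ V) : cj x U ≤ cj x V := Subgroup.map_mono h

theorem cj_eq_of_mem_normalizer {x : G} {U : Subgroup G}
    (h : x ∈ Subgroup.normalizer (U : Set G)) : cj x U = U := by
  ext z
  rw [mem_cj]
  exact ((Subgroup.mem_normalizer_iff''.mp h) z).symm

theorem mem_normalizer_of_cj_eq {x : G} {U : Subgroup G} (h : cj x U = U) :
    x ∈ Subgroup.normalizer (U : Set G) := by
  rw [Subgroup.mem_normalizer_iff'']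
  intro z
  rw [← mem_cj, h]

theorem cj_normalizer_le (x : G) (U : Subgroup G) :
    cj x (Subgroup.normalizer (U : Set G)) ≤
      Subgroup.normalizer ((cj x U : Subgroup G) : Set G) := by
  intro y hy
  rw [mem_cj, Subgroup.mem_normalizer_iff] at hy
  rw [Subgroup.mem_normalizer_iff]
  intro h
  rw [mem_cj, mem_cj, hy (x⁻¹ * h * x)]
  have e : x⁻¹ * y * x * (x⁻¹ * h * x) * (x⁻¹ * y * x)⁻¹ = x⁻¹ * (y * h * y⁻¹) * x := by group
  rw [e]

theorem isCyclic_of_isCyclic_cj {x : G} {U : Subgroup G} (h : IsCyclic (cj x U)) : IsCyclic U := by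
  have e := Subgroup.equivMapOfInjective U (MulAut.conj x).toMonoidHom (MulAut.conj x).injective
  exact (MulEquiv.isCyclic e).mpr h

/-- In a cyclic subgroup, a subgroup `A` all of whose squares lie in `K` has order at most
`2|K|`. -/
theorem card_le_two_mul_of_sq_mem [Finite G] (C A K : Subgroup G) (hC : IsCyclic C) (hA : A ≤ C)
    (hsq : ∀ a ∈ A, a * a ∈ K) : Nat.card A ≤ 2 * Nat.card K := by
  have := hC
  have : IsCyclic A := Subgroup.isCyclic_of_le hA
  obtain ⟨⟨a, haA⟩, ha⟩ := IsCyclic.exists_generator (α := A)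
  have h1 : orderOf a = Nat.card A := by
    rw [← orderOf_eq_card_of_forall_mem_zpowers ha]
    exact (Subgroup.orderOf_mk a haA).symm
  have h2 : orderOf (a ^ 2) ≤ Nat.card K := by
    have hle : Subgroup.zpowers (a ^ 2) ≤ K := by
      rw [Subgroup.zpowers_le, pow_two]
      exact hsq a haA
    calc orderOf (a ^ 2) = Nat.card (Subgroup.zpowers (a ^ 2)) := (Nat.card_zpowers _).symm
      _ ≤ Nat.card K := Subgroup.card_le_of_le hle
  have h3 : orderOf (a ^ 2) = orderOf a / Nat.gcd (orderOf a) 2 := orderOf_pow' a (by norm_num)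
  have h4 : Nat.gcd (orderOf a) 2 ≤ 2 := Nat.gcd_le_right _ (by norm_num)
  have h5 : orderOf a / Nat.gcd (orderOf a) 2 * Nat.gcd (orderOf a) 2 = orderOf a :=
    Nat.div_mul_cancel (Nat.gcd_dvd_left _ _)
  rw [← h1]
  calc orderOf a = orderOf (a ^ 2) * Nat.gcd (orderOf a) 2 := by rw [h3, h5]
    _ ≤ orderOf (a ^ 2) * 2 := Nat.mul_le_mul_left _ h4
    _ ≤ Nat.card K * 2 := Nat.mul_le_mul_right _ h2
    _ = 2 * Nat.card K := Nat.mul_comm _ _

theorem card_eq_two_mul_card_inf [Finite G] (S C H : Subgroup G) (hidx : C.relIndex S = 2)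
    (hHS : H ≤ S) (hHC : ¬ H ≤ C) : Nat.card H = 2 * Nat.card (H ⊓ C : Subgroup G) := by
  have h1 : C.relIndex H ≤ 2 := by
    rw [← hidx]
    exact Subgroup.relIndex_le_of_le_right hHS (by rw [hidx]; norm_num)
  have h2 : C.relIndex H ≠ 1 := fun h => hHC (Subgroup.relIndex_eq_one.mp h)
  have h3 : C.relIndex H ≠ 0 := Subgroup.index_ne_zero_of_finite
  have h4 : C.relIndex H = 2 := by omega
  have h5 := Subgroup.relIndex_inf_mul_relIndex (⊥ : Subgroup G) C H
  rw [bot_inf_eq, Subgroup.relIndex_bot_left, Subgroup.relIndex_bot_left, h4] at h5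
  rw [inf_comm, ← h5, mul_comm]

/-- In a dihedral-type group `S`, the normalizer in `S` of a subgroup `H` not contained in the
cyclic maximal subgroup has order at most `2|H|`. -/
theorem card_normalizer_inf_le [Finite G] (S C H : Subgroup G) (hC : IsCyclic C)
    (hidx : C.relIndex S = 2) (hinv : ∀ t ∈ S, t ∉ C → t * t = 1) (hHS : H ≤ S) (hHC : ¬ H ≤ C) :
    Nat.card (Subgroup.normalizer (H : Set G) ⊓ S : Subgroup G) ≤ 2 * Nat.card H := by
  have hHN : H ≤ Subgroup.normalizer (H : Set G) ⊓ S := le_inf Subgroup.le_normalizer hHS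
  have hNC : ¬ Subgroup.normalizer (H : Set G) ⊓ S ≤ C := fun h => hHC (hHN.trans h)
  have h1 := card_eq_two_mul_card_inf S C _ hidx inf_le_right hNC
  have h2 := card_eq_two_mul_card_inf S C H hidx hHS hHC
  obtain ⟨t, htH, htC⟩ := SetLike.not_le_iff_exists.mp hHC
  have htt : t * t = 1 := hinv t (hHS htH) htC
  have h3 : Nat.card ((Subgroup.normalizer (H : Set G) ⊓ S) ⊓ C : Subgroup G) ≤
      2 * Nat.card (H ⊓ C : Subgroup G) := by
    apply card_le_two_mul_of_sq_mem C _ (H ⊓ C) hC inf_le_right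
    rintro c ⟨⟨hcN, hcS⟩, hcC⟩
    refine ⟨?_, mul_mem hcC hcC⟩
    have htc : t * c ∉ C := by
      intro h
      apply htC
      have e : t = (t * c) * c⁻¹ := by group
      rw [e]
      exact mul_mem h (inv_mem hcC)
    have h4 : (t * c) * (t * c) = 1 := hinv _ (mul_mem (hHS htH) hcS) htc
    have h5 : c * t * c⁻¹ ∈ H := (Subgroup.mem_normalizer_iff.mp hcN t).mp htH
    have h6 : c * t * c⁻¹ * t⁻¹ ∈ H := mul_mem h5 (inv_mem htH)
    have h7 : c * t * c⁻¹ * t⁻¹ = c * c := by
      have ht' : t⁻¹ = t := inv_eq_of_mul_eq_one_left htt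
      have hc' : c⁻¹ = t * c * t := by
        apply inv_eq_of_mul_eq_one_left
        rw [← h4]
        group
      rw [ht', hc']
      calc c * t * (t * c * t) * t = c * (t * t) * c * (t * t) := by group
        _ = c * c := by rw [htt, mul_one, mul_one]
    rw [← h7]
    exact h6
  omega

/-- Abstract dihedral structure on a subgroup: a cyclic subgroup of index two all of whose
outside elements are involutions. -/
def DihType (S : Subgroup G) : Prop :=
  ∃ C : Subgroup G, C ≤ S ∧ IsCyclic C ∧ C.relIndex S = 2 ∧ ∀ t ∈ S, t ∉ C → t * t = 1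

/-- If all Sylow `2`-subgroups are of dihedral type, a `2`-subgroup normalizing a non-cyclic
`2`-subgroup `K` has order at most `2|K|`. -/
theorem card_le_of_le_normalizer [Finite G] (hD : ∀ Q : Sylow 2 G, DihType (Q : Subgroup G))
    (K P : Subgroup G) (hK : IsPGroup 2 K) (hKc : ¬ IsCyclic K) (hP : IsPGroup 2 P)
    (hPK : P ≤ Subgroup.normalizer (K : Set G)) : Nat.card P ≤ 2 * Nat.card K := by
  have : Fact (Nat.Prime 2) := ⟨Nat.prime_two⟩
  have h1 : IsPGroup 2 (P ⊔ K : Subgroup G) := IsPGroup.to_sup_of_normal_right' hP hK hPK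
  obtain ⟨Q, hQ⟩ := h1.exists_le_sylow
  obtain ⟨C, hCQ, hCc, hidx, hinv⟩ := hD Q
  have hKQ : K ≤ Q := le_sup_right.trans hQ
  have hPQ : P ≤ Q := le_sup_left.trans hQ
  have hKC : ¬ K ≤ C := fun h => hKc (by have := hCc; exact Subgroup.isCyclic_of_le h)
  have h2 := card_normalizer_inf_le (Q : Subgroup G) C K hCc hidx hinv hKQ hKC
  exact (Subgroup.card_le_of_le (le_inf hPK hPQ)).trans h2

/-- Normalizers grow in `2`-groups. -/
theorem two_mul_card_le_card_normalizer_inf [Finite G] (S H : Subgroup G) (hS : IsPGroup 2 S)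
    (hHS : H ≤ S) (hne : H ≠ S) :
    2 * Nat.card H ≤ Nat.card (Subgroup.normalizer (H : Set G) ⊓ S : Subgroup G) := by
  have : Fact (Nat.Prime 2) := ⟨Nat.prime_two⟩
  have hnil : Group.IsNilpotent S := hS.isNilpotent
  have hlt : H.subgroupOf S < ⊤ := by
    rw [lt_top_iff_ne_top]
    intro h
    exact hne (le_antisymm hHS (Subgroup.subgroupOf_eq_top.mp h))
  have h1 := Group.normalizerCondition_of_isNilpotent (G := S) (H.subgroupOf S) hlt
  obtain ⟨n, hn, hn'⟩ := SetLike.exists_of_lt h1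
  have hHN : H ≤ Subgroup.normalizer (H : Set G) ⊓ S := le_inf Subgroup.le_normalizer hHS
  have hnN : (n : G) ∈ Subgroup.normalizer (H : Set G) ⊓ S := by
    refine Subgroup.mem_inf.mpr ⟨?_, n.2⟩
    rw [Subgroup.mem_normalizer_iff]
    intro h
    rw [Subgroup.mem_normalizer_iff] at hn
    constructor
    · intro hh
      have h2 := (hn ⟨h, hHS hh⟩).mp (by rw [Subgroup.mem_subgroupOf]; exact hh)
      rw [Subgroup.mem_subgroupOf] at h2
      simpa using h2
    · intro hh
      have hS' : h ∈ S := by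
        have e : h = (n : G)⁻¹ * (n * h * (n : G)⁻¹) * n := by group
        rw [e]
        exact mul_mem (mul_mem (inv_mem n.2) (hHS hh)) n.2
      have h2 := (hn ⟨h, hS'⟩).mpr (by rw [Subgroup.mem_subgroupOf]; simpa using hh)
      rw [Subgroup.mem_subgroupOf] at h2
      exact h2
  have hnH : (n : G) ∉ H := fun h => hn' (by rw [Subgroup.mem_subgroupOf]; exact h)
  obtain ⟨k, hk⟩ := Subgroup.card_dvd_of_le hHN
  have hk1 : k ≠ 1 := by
    rintro rfl
    rw [mul_one] at hk
    have e : H = Subgroup.normalizer (H : Set G) ⊓ S := Subgroup.eq_of_le_of_card_ge hHN hk.le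
    exact hnH (e ▸ hnN)
  have hk0 : k ≠ 0 := by
    rintro rfl
    rw [mul_zero] at hk
    exact Nat.card_pos.ne' hk
  rw [hk]
  have h2k : 2 ≤ k := by omega
  calc 2 * Nat.card H = Nat.card H * 2 := Nat.mul_comm _ _
    _ ≤ Nat.card H * k := Nat.mul_le_mul_left _ h2k

/-- Two `p`-subgroups of `L` of the maximal possible order are conjugate in `L`. -/
theorem exists_cj_eq_of_card_max [Finite G] (p : ℕ) [Fact p.Prime] (L P Q : Subgroup G)
    (hPL : P ≤ L) (hQL : Q ≤ L) (hP : IsPGroup p P) (hQ : IsPGroup p Q)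
    (hmax : ∀ R : Subgroup G, R ≤ L → IsPGroup p R → Nat.card R ≤ Nat.card P)
    (hcard : Nat.card Q = Nat.card P) : ∃ n ∈ L, cj n P = Q := by
  obtain ⟨P₁, hP₁⟩ := (hP.comap_subtype (K := L)).exists_le_sylow
  obtain ⟨Q₁, hQ₁⟩ := (hQ.comap_subtype (K := L)).exists_le_sylow
  have hP₁' : (P₁ : Subgroup L).map L.subtype = P := by
    symm
    apply Subgroup.eq_of_le_of_card_ge
    · intro x hx
      exact ⟨⟨x, hPL hx⟩, hP₁ (Subgroup.mem_comap.mpr hx), rfl⟩
    · exact hmax _ (Subgroup.map_subtype_le _) (P₁.isPGroup'.map _)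
  have hQ₁' : (Q₁ : Subgroup L).map L.subtype = Q := by
    symm
    apply Subgroup.eq_of_le_of_card_ge
    · intro x hx
      exact ⟨⟨x, hQL hx⟩, hQ₁ (Subgroup.mem_comap.mpr hx), rfl⟩
    · rw [hcard]
      exact hmax _ (Subgroup.map_subtype_le _) (Q₁.isPGroup'.map _)
  obtain ⟨n, hn⟩ := MulAction.exists_smul_eq L P₁ Q₁
  refine ⟨n, n.2, ?_⟩
  have hmem : ∀ x : L, x ∈ ((n • P₁ : Sylow p L) : Subgroup L) ↔
      n⁻¹ * x * n ∈ (P₁ : Subgroup L) := by
    intro x
    rw [Sylow.coe_subgroup_smul, Subgroup.mem_pointwise_smul_iff_inv_smul_mem]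
    simp [MulAut.smul_def]
  ext x
  rw [mem_cj, ← hP₁', ← hQ₁']
  constructor
  · rintro ⟨y, hy, hyx⟩
    refine ⟨n * y * n⁻¹, ?_, ?_⟩
    · rw [← hn]
      show n * y * n⁻¹ ∈ ((n • P₁ : Sylow p L) : Subgroup L)
      rw [hmem]
      have e : n⁻¹ * (n * y * n⁻¹) * n = y := by group
      rw [e]
      exact hy
    · have e : (L.subtype (n * y * n⁻¹) : G) = (n : G) * (L.subtype y) * (n : G)⁻¹ := by
        simp
      rw [e, hyx]
      group
  · rintro ⟨y, hy, rfl⟩
    rw [← hn] at hy
    have hy' := (hmem y).mp hy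
    exact ⟨n⁻¹ * y * n, hy', by simp⟩

/-- The two non-cyclic maximal subgroups `M₁`, `M₂` of a dihedral-type `2`-group `S`. -/
structure DihMax (S M₁ M₂ : Subgroup G) : Prop where
  le1 : M₁ ≤ S
  le2 : M₂ ≤ S
  card1 : 2 * Nat.card M₁ = Nat.card S
  card2 : 2 * Nat.card M₂ = Nat.card S
  cover : ∀ H : Subgroup G, H ≤ S → ¬ IsCyclic H → H ≠ S → H ≤ M₁ ∨ H ≤ M₂
  inter : ∀ H : Subgroup G, H ≤ M₁ → H ≤ M₂ → IsCyclic H
  nc1 : ¬ IsCyclic M₁
  nc2 : ¬ IsCyclic M₂

theorem DihMax.symm {S M₁ M₂ : Subgroup G} (h : DihMax S M₁ M₂) : DihMax S M₂ M₁ :=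
  ⟨h.le2, h.le1, h.card2, h.card1, fun H h1 h2 h3 => (h.cover H h1 h2 h3).symm,
    fun H h1 h2 => h.inter H h2 h1, h.nc2, h.nc1⟩

/-- The normalizer of a Sylow `2`-subgroup `S` normalizes each non-cyclic maximal subgroup. -/
theorem DihMax.normalizer_le [Finite G] {S M₁ M₂ : Subgroup G} (h : DihMax S M₁ M₂)
    (hodd : ¬ 2 ∣ S.index) :
    Subgroup.normalizer (S : Set G) ≤ Subgroup.normalizer (M₁ : Set G) := by
  have hne : M₁ ≠ M₂ := fun e => h.nc1 (h.inter M₁ le_rfl (e ▸ le_rfl))
  have hpos : 0 < Nat.card S := Nat.card_pos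
  have key : ∀ w ∈ Subgroup.normalizer (S : Set G), ∀ M : Subgroup G, M ≤ S →
      2 * Nat.card M = Nat.card S → ¬ IsCyclic M → cj w M = M₁ ∨ cj w M = M₂ := by
    intro w hw M hMS hMc hMnc
    have h1 : cj w M ≤ S := by
      have h0 := cj_mono (x := w) hMS
      rwa [cj_eq_of_mem_normalizer hw] at h0
    have h2 : ¬ IsCyclic (cj w M) := fun hc => hMnc (isCyclic_of_isCyclic_cj hc)
    have h3 : Nat.card (cj w M) = Nat.card M := card_cj w M
    have h4 : cj w M ≠ S := by
      intro e
      rw [e] at h3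
      omega
    rcases h.cover _ h1 h2 h4 with h5 | h5
    · left
      exact Subgroup.eq_of_le_of_card_ge h5 (by have := h.card1; omega)
    · right
      exact Subgroup.eq_of_le_of_card_ge h5 (by have := h.card2; omega)
  have hsq : ∀ w ∈ Subgroup.normalizer (S : Set G),
      w * w ∈ Subgroup.normalizer (M₁ : Set G) := by
    intro w hw
    have hinj : cj w M₁ ≠ cj w M₂ :=
      fun e => hne (Subgroup.map_injective (MulAut.conj w).injective e)
    rcases key w hw M₁ h.le1 h.card1 h.nc1 with h1 | h1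
    · exact mul_mem (mem_normalizer_of_cj_eq h1) (mem_normalizer_of_cj_eq h1)
    · have h2 : cj w M₂ = M₁ := by
        rcases key w hw M₂ h.le2 h.card2 h.nc2 with h2 | h2
        · exact h2
        · exact absurd (h1.trans h2.symm) hinj
      apply mem_normalizer_of_cj_eq
      rw [cj_mul, h1, h2]
  have hSM : S ≤ Subgroup.normalizer (M₁ : Set G) := by
    have hidx : (M₁.subgroupOf S).index = 2 := by
      have h1 := Subgroup.card_mul_index (M₁.subgroupOf S)
      have h2 : Nat.card (M₁.subgroupOf S) = Nat.card M₁ :=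
        Nat.card_congr (Subgroup.subgroupOfEquivOfLe h.le1).toEquiv
      rw [h2] at h1
      have h3 := h.card1
      have h4 : Nat.card M₁ * (M₁.subgroupOf S).index = Nat.card M₁ * 2 := by
        rw [h1, ← h3, mul_comm]
      exact Nat.eq_of_mul_eq_mul_left (by omega) h4
    have hn : (M₁.subgroupOf S).Normal := Subgroup.normal_of_index_eq_two hidx
    exact (Subgroup.normal_subgroupOf_iff_le_normalizer h.le1).mp hn
  intro y hy
  have hye : y ^ S.relIndex (Subgroup.normalizer (S : Set G)) ∈ S := by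
    have h0 := Subgroup.pow_index_mem (S.subgroupOf (Subgroup.normalizer (S : Set G))) ⟨y, hy⟩
    rw [Subgroup.mem_subgroupOf] at h0
    have h00 : y ^ (S.subgroupOf (Subgroup.normalizer (S : Set G))).index ∈ S := by
      simpa using h0
    exact h00
  have he2 : ¬ 2 ∣ S.relIndex (Subgroup.normalizer (S : Set G)) :=
    fun hd => hodd (hd.trans (Subgroup.relIndex_dvd_index_of_le Subgroup.le_normalizer))
  obtain ⟨k, hk⟩ : ∃ k, S.relIndex (Subgroup.normalizer (S : Set G)) = 2 * k + 1 :=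
    ⟨S.relIndex (Subgroup.normalizer (S : Set G)) / 2, by omega⟩
  rw [hk] at hye
  have h1 : y = ((y * y) ^ k)⁻¹ * y ^ (2 * k + 1) := by
    rw [pow_succ, pow_mul, pow_two]
    group
  rw [h1]
  exact mul_mem (inv_mem (pow_mem (hsq y hy) k)) (hSM hye)

/-- The tower argument: conjugation in `G` preserves the non-cyclic maximal subgroup of `S`
containing a given non-cyclic proper subgroup. -/
theorem dih_tower [Finite G] {S M₁ M₂ : Subgroup G} (hS2 : IsPGroup 2 S) (hodd : ¬ 2 ∣ S.index)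
    (hD : ∀ Q : Sylow 2 G, DihType (Q : Subgroup G)) (h : DihMax S M₁ M₂) :
    ∀ (n : ℕ) (H : Subgroup G), Nat.card S ≤ Nat.card H + n → H ≤ S → ¬ IsCyclic H → H ≠ S →
      ∀ x : G, cj x H ≤ S → H ≤ M₁ → cj x H ≤ M₁ := by
  have : Fact (Nat.Prime 2) := ⟨Nat.prime_two⟩
  intro n
  induction n with
  | zero =>
    intro H hn hHS hHc hne
    exact absurd (Subgroup.eq_of_le_of_card_ge hHS (by simpa using hn)) hne
  | succ n ih =>
    intro H hn hHS hHc hne x hx hHM
    have hH2 : IsPGroup 2 H := hS2.to_le hHS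
    have hH'2 : IsPGroup 2 (cj x H) := hS2.to_le hx
    have hH'c : ¬ IsCyclic (cj x H) := fun hc => hHc (isCyclic_of_isCyclic_cj hc)
    have hcH' : Nat.card (cj x H) = Nat.card H := card_cj x H
    have hH'ne : cj x H ≠ S := by
      intro e
      apply hne
      apply Subgroup.eq_of_le_of_card_ge hHS
      rw [← hcH', e]
    have hHN : H ≤ Subgroup.normalizer (H : Set G) ⊓ S := le_inf Subgroup.le_normalizer hHS
    have hN2 : IsPGroup 2 (Subgroup.normalizer (H : Set G) ⊓ S : Subgroup G) :=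
      hS2.to_le inf_le_right
    have hN'2 : IsPGroup 2
        (Subgroup.normalizer ((cj x H : Subgroup G) : Set G) ⊓ S : Subgroup G) :=
      hS2.to_le inf_le_right
    have hcN : Nat.card (Subgroup.normalizer (H : Set G) ⊓ S : Subgroup G) = 2 * Nat.card H :=
      le_antisymm (card_le_of_le_normalizer hD H _ hH2 hHc hN2 inf_le_left)
        (two_mul_card_le_card_normalizer_inf S H hS2 hHS hne)
    have hcN' : Nat.card
        (Subgroup.normalizer ((cj x H : Subgroup G) : Set G) ⊓ S : Subgroup G) =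
        2 * Nat.card H := by
      rw [← hcH']
      exact le_antisymm (card_le_of_le_normalizer hD (cj x H) _ hH'2 hH'c hN'2 inf_le_left)
        (two_mul_card_le_card_normalizer_inf S (cj x H) hS2 hx hH'ne)
    have hxN : cj x (Subgroup.normalizer (H : Set G) ⊓ S) ≤
        Subgroup.normalizer ((cj x H : Subgroup G) : Set G) :=
      (cj_mono inf_le_left).trans (cj_normalizer_le x H)
    obtain ⟨w, hw, hwN⟩ := exists_cj_eq_of_card_max 2
      (Subgroup.normalizer ((cj x H : Subgroup G) : Set G))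
      (cj x (Subgroup.normalizer (H : Set G) ⊓ S))
      (Subgroup.normalizer ((cj x H : Subgroup G) : Set G) ⊓ S)
      hxN inf_le_left (hN2.map _) hN'2
      (fun R hR hR2 => by
        rw [card_cj, hcN, ← hcH']
        exact card_le_of_le_normalizer hD (cj x H) R hH'2 hH'c hR2 hR)
      (by rw [card_cj, hcN, hcN'])
    have hyN : cj (w * x) (Subgroup.normalizer (H : Set G) ⊓ S) =
        Subgroup.normalizer ((cj x H : Subgroup G) : Set G) ⊓ S := by
      rw [cj_mul]
      exact hwN
    have hyH : cj (w * x) H = cj x H := by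
      rw [cj_mul]
      exact cj_eq_of_mem_normalizer hw
    by_cases hNS : Subgroup.normalizer (H : Set G) ⊓ S = S
    · have hN'S : Subgroup.normalizer ((cj x H : Subgroup G) : Set G) ⊓ S = S :=
        Subgroup.eq_of_le_of_card_ge inf_le_right (by rw [hcN', ← hcN, hNS])
      have hy : w * x ∈ Subgroup.normalizer (S : Set G) := by
        apply mem_normalizer_of_cj_eq
        rw [hNS, hN'S] at hyN
        exact hyN
      have hHM1 : H = M₁ := by
        apply Subgroup.eq_of_le_of_card_ge hHM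
        have h1 := h.card1
        rw [hNS] at hcN
        omega
      have hy' := h.normalizer_le hodd hy
      rw [← hyH, hHM1, cj_eq_of_mem_normalizer hy']
    · have hNc : ¬ IsCyclic (Subgroup.normalizer (H : Set G) ⊓ S : Subgroup G) :=
        fun hc => hHc (by have := hc; exact Subgroup.isCyclic_of_le hHN)
      have hNM : Subgroup.normalizer (H : Set G) ⊓ S ≤ M₁ := by
        rcases h.cover _ inf_le_right hNc hNS with h1 | h1
        · exact h1
        · exact absurd (h.inter H hHM (hHN.trans h1)) hHc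
      have hpos : 0 < Nat.card H := Nat.card_pos
      have h1 := ih _ (by omega) inf_le_right hNc hNS (w * x)
        (by rw [hyN]; exact inf_le_right) hNM
      rw [← hyH]
      exact (cj_mono hHN).trans h1

/-- Non-cyclic proper subgroups of `S` lying in different non-cyclic maximal subgroups are not
conjugate in `G`. -/
theorem not_conj_of_dihMax [Finite G] {S M₁ M₂ : Subgroup G} (hS2 : IsPGroup 2 S)
    (hodd : ¬ 2 ∣ S.index) (hD : ∀ Q : Sylow 2 G, DihType (Q : Subgroup G))
    (h : DihMax S M₁ M₂) (U₁ U₂ : Subgroup G) (hU1 : U₁ ≤ M₁) (hU2 : U₂ ≤ M₂)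
    (hU1c : ¬ IsCyclic U₁) (hU2c : ¬ IsCyclic U₂) (hU1S : U₁ ≠ S) :
    ¬ ∃ x : G, cj x U₁ = U₂ := by
  rintro ⟨x, hx⟩
  have h1 := dih_tower hS2 hodd hD h (Nat.card S) U₁ (Nat.le_add_left _ _) (hU1.trans h.le1)
    hU1c hU1S x (by rw [hx]; exact hU2.trans h.le2) hU1
  rw [hx] at h1
  exact hU2c (h.inter U₂ h1 hU2)

end Cfsg.Agent.Lib.helper27
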