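import Mathlib
import Cfsg.Agent.Lib.helper26.DihFusion
import Cfsg.Agent.Lib.helper27.DihTower

/-!
Concrete facts on `DihedralGroup m`, `m` a power of two: the two non-cyclic maximal subgroups,
Klein four-subgroups, and the two classes of four-groups in a group with dihedral Sylow
`2`-subgroups.
-/

set_option autoImplicit false

namespace Cfsg.Agent.Lib.helper27

open Cfsg.Agent.Lib.helper26

/-- The maximal subgroup `⟨r², s r^ε⟩` of `DihedralGroup m`, `m` even. -/
def dihSub (m : ℕ) (h : 2 ∣ m) (ε : ZMod 2) : Subgroup (DihedralGroup m) where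
  carrier := {x | match x with
    | DihedralGroup.r i => ZMod.castHom h (ZMod 2) i = 0
    | DihedralGroup.sr i => ZMod.castHom h (ZMod 2) i = ε}
  one_mem' := by
    show ZMod.castHom h (ZMod 2) 0 = 0
    exact map_zero _
  mul_mem' := by
    rintro (i | i) (j | j) hi hj
    · change ZMod.castHom h (ZMod 2) i = 0 at hi
      change ZMod.castHom h (ZMod 2) j = 0 at hj
      show ZMod.castHom h (ZMod 2) (i + j) = 0
      rw [map_add, hi, hj, add_zero]
    · change ZMod.castHom h (ZMod 2) i = 0 at hi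
      change ZMod.castHom h (ZMod 2) j = ε at hj
      show ZMod.castHom h (ZMod 2) (j - i) = ε
      rw [map_sub, hi, hj, sub_zero]
    · change ZMod.castHom h (ZMod 2) i = ε at hi
      change ZMod.castHom h (ZMod 2) j = 0 at hj
      show ZMod.castHom h (ZMod 2) (i + j) = ε
      rw [map_add, hi, hj, add_zero]
    · change ZMod.castHom h (ZMod 2) i = ε at hi
      change ZMod.castHom h (ZMod 2) j = ε at hj
      show ZMod.castHom h (ZMod 2) (j - i) = 0
      rw [map_sub, hi, hj, sub_self]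
  inv_mem' := by
    rintro (i | i) hi
    · change ZMod.castHom h (ZMod 2) i = 0 at hi
      show ZMod.castHom h (ZMod 2) (-i) = 0
      rw [map_neg, hi, neg_zero]
    · exact hi

theorem r_mem_dihSub {m : ℕ} (h : 2 ∣ m) (ε : ZMod 2) (i : ZMod m) :
    DihedralGroup.r i ∈ dihSub m h ε ↔ ZMod.castHom h (ZMod 2) i = 0 := Iff.rfl

theorem sr_mem_dihSub {m : ℕ} (h : 2 ∣ m) (ε : ZMod 2) (i : ZMod m) :
    DihedralGroup.sr i ∈ dihSub m h ε ↔ ZMod.castHom h (ZMod 2) i = ε := Iff.rfl

theorem mem_rotSub_of_mem_dihSub {m : ℕ} (h : 2 ∣ m) {x : DihedralGroup m}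
    (h0 : x ∈ dihSub m h 0) (h1 : x ∈ dihSub m h 1) : x ∈ rotSub m := by
  rcases x with i | i
  · exact ⟨i, rfl⟩
  · rw [sr_mem_dihSub] at h0 h1
    exact absurd (h0.symm.trans h1) (by decide)

theorem index_dihSub {m : ℕ} (h : 2 ∣ m) (ε : ZMod 2) : (dihSub m h ε).index = 2 := by
  rw [Subgroup.index_eq_two_iff_exists_notMem_and]
  refine ⟨DihedralGroup.r 1, ?_, ?_⟩
  · rw [r_mem_dihSub, map_one]
    decide
  · intro b
    rcases b with i | i
    · rw [DihedralGroup.r_mul_r, r_mem_dihSub, r_mem_dihSub, map_add, map_one]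
      generalize ZMod.castHom h (ZMod 2) i = t
      revert t
      decide
    · rw [DihedralGroup.sr_mul_r, sr_mem_dihSub, sr_mem_dihSub, map_add, map_one]
      generalize ZMod.castHom h (ZMod 2) i = t
      revert t ε
      decide

theorem isCyclic_rotSub (m : ℕ) [NeZero m] : IsCyclic (rotSub m) := by
  rw [isCyclic_iff_exists_zpowers_eq_top]
  refine ⟨⟨DihedralGroup.r 1, ⟨1, rfl⟩⟩, ?_⟩
  rw [eq_top_iff]
  rintro ⟨x, i, rfl⟩ -
  rw [Subgroup.mem_zpowers_iff]
  refine ⟨(i.val : ℤ), ?_⟩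
  apply Subtype.ext
  rw [Subgroup.coe_zpow, zpow_natCast]
  show DihedralGroup.r 1 ^ i.val = DihedralGroup.r i
  rw [DihedralGroup.r_one_pow, ZMod.natCast_zmod_val]

/-- A proper subgroup of a dihedral `2`-group which is not contained in the rotation subgroup
lies in one of the two non-cyclic maximal subgroups. -/
theorem dihSub_cover {m k : ℕ} (hm : m = 2 ^ k) (h : 2 ∣ m) (H : Subgroup (DihedralGroup m))
    (hH : ¬ H ≤ rotSub m) (hne : H ≠ ⊤) : H ≤ dihSub m h 0 ∨ H ≤ dihSub m h 1 := by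
  have : NeZero m := ⟨by rw [hm]; positivity⟩
  obtain ⟨x, hxH, hx⟩ := SetLike.not_le_iff_exists.mp hH
  obtain ⟨i₀, rfl⟩ : ∃ i₀, x = DihedralGroup.sr i₀ := by
    rcases x with i | i
    · exact absurd ⟨i, rfl⟩ hx
    · exact ⟨i, rfl⟩
  have hodd : ∀ j, DihedralGroup.r j ∈ H → ZMod.castHom h (ZMod 2) j = 0 := by
    intro j hj
    by_contra hne0
    have h1 : ZMod.castHom h (ZMod 2) j = 1 := by
      have h01 : ∀ t : ZMod 2, t ≠ 0 → t = 1 := by decide
      exact h01 _ hne0
    have h2 : Odd j.val := by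
      rw [← ZMod.natCast_eq_one_iff_odd, ← h1, ← map_natCast (ZMod.castHom h (ZMod 2)),
        ZMod.natCast_zmod_val]
    have h3 : Nat.Coprime j.val m := by
      have e : Nat.gcd j.val m = Nat.gcd j.val (2 ^ k) := congrArg (Nat.gcd j.val) hm
      show Nat.gcd j.val m = 1
      rw [e]
      exact Nat.Coprime.pow_right _ (Nat.coprime_two_right.mpr h2)
    have h4 : IsUnit ((j.val : ℕ) : ZMod m) := (ZMod.isUnit_iff_coprime _ _).mpr h3
    rw [ZMod.natCast_zmod_val] at h4
    obtain ⟨u, hu⟩ := h4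
    have h5 : DihedralGroup.r (1 : ZMod m) ∈ H := by
      have h6 := pow_mem hj ((↑u⁻¹ : ZMod m).val)
      rw [DihedralGroup.r_pow, ZMod.natCast_zmod_val, ← hu, Units.mul_inv] at h6
      exact h6
    apply hne
    rw [eq_top_iff]
    intro y _
    have hr : ∀ i : ZMod m, DihedralGroup.r i ∈ H := by
      intro i
      have h6 := pow_mem h5 i.val
      rwa [DihedralGroup.r_one_pow, ZMod.natCast_zmod_val] at h6
    rcases y with i | i
    · exact hr i
    · have h6 := mul_mem hxH (hr (i - i₀))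
      rwa [DihedralGroup.sr_mul_r, add_sub_cancel] at h6
  have hsr : ∀ i, DihedralGroup.sr i ∈ H →
      ZMod.castHom h (ZMod 2) i = ZMod.castHom h (ZMod 2) i₀ := by
    intro i hi
    have h1 := hodd _ (by have h2 := mul_mem hxH hi; rwa [DihedralGroup.sr_mul_sr] at h2)
    rw [map_sub, sub_eq_zero] at h1
    exact h1
  have hle : H ≤ dihSub m h (ZMod.castHom h (ZMod 2) i₀) := by
    intro y hy
    rcases y with i | i
    · exact hodd i hy
    · exact hsr i hy
  have h01 : ∀ t : ZMod 2, t = 0 ∨ t = 1 := by decide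
  rcases h01 (ZMod.castHom h (ZMod 2) i₀) with h0 | h0
  · left; rw [← h0]; exact hle
  · right; rw [← h0]; exact hle

variable {G : Type*} [Group G]

theorem fourSub_le {z t : G} (hz : z * z = 1) (ht : t * t = 1) (hzt : z * t = t * z)
    {K : Subgroup G} (h1 : z ∈ K) (h2 : t ∈ K) : fourSub z t hz ht hzt ≤ K := by
  rintro x (rfl | rfl | rfl | rfl)
  exacts [one_mem _, h1, h2, mul_mem h1 h2]

/-- An embedded dihedral group is of dihedral type. -/
theorem dihType_of_hom {m : ℕ} [NeZero m] (ι : DihedralGroup m →* G)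
    (hι : Function.Injective ι) : DihType ι.range := by
  refine ⟨(rotSub m).map ι, Subgroup.map_le_range _ _, ?_, ?_, ?_⟩
  · have hc := isCyclic_rotSub m
    exact (MulEquiv.isCyclic ((rotSub m).equivMapOfInjective ι hι)).mp hc
  · rw [MonoidHom.range_eq_map, Subgroup.relIndex_map_map_of_injective _ _ hι,
      Subgroup.relIndex_top_right, index_rotSub]
  · rintro _ ⟨d, rfl⟩ ht
    rcases d with i | i
    · exact absurd (Subgroup.mem_map_of_mem ι (show DihedralGroup.r i ∈ rotSub m from ⟨i, rfl⟩)) ht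
    · rw [← map_mul, DihedralGroup.sr_mul_self, map_one]

theorem range_subtype_comp_symm {m : ℕ} (S : Subgroup G) (e : S ≃* DihedralGroup m) :
    (S.subtype.comp e.symm.toMonoidHom).range = S := by
  rw [MonoidHom.range_comp]
  have h1 : e.symm.toMonoidHom.range = ⊤ := MonoidHom.range_eq_top.mpr e.symm.surjective
  rw [h1, ← MonoidHom.range_eq_map, Subgroup.range_subtype]

theorem dihType_of_equiv {m : ℕ} [NeZero m] (S : Subgroup G) (e : S ≃* DihedralGroup m) :
    DihType S := by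
  have h := dihType_of_hom (S.subtype.comp e.symm.toMonoidHom)
    (S.subtype_injective.comp e.symm.injective)
  rwa [range_subtype_comp_symm] at h

/-- The two non-cyclic maximal subgroups of an embedded dihedral `2`-group. -/
theorem dihMax_of_hom [Finite G] {m k : ℕ} (hm : m = 2 ^ k) (h : 2 ∣ m)
    (ι : DihedralGroup m →* G) (hι : Function.Injective ι)
    (hnc0 : ¬ IsCyclic ((dihSub m h 0).map ι)) (hnc1 : ¬ IsCyclic ((dihSub m h 1).map ι)) :
    DihMax ι.range ((dihSub m h 0).map ι) ((dihSub m h 1).map ι) := by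
  have hNZ : NeZero m := ⟨by rw [hm]; positivity⟩
  have hcyc : IsCyclic ((rotSub m).map ι) :=
    (MulEquiv.isCyclic ((rotSub m).equivMapOfInjective ι hι)).mp (isCyclic_rotSub m)
  have hcard : ∀ ε, 2 * Nat.card ((dihSub m h ε).map ι) = Nat.card ι.range := by
    intro ε
    rw [Subgroup.card_map_of_injective hι, MonoidHom.range_eq_map,
      Subgroup.card_map_of_injective hι, Subgroup.card_top,
      ← Subgroup.card_mul_index (dihSub m h ε), index_dihSub, mul_comm]
  refine ⟨Subgroup.map_le_range _ _, Subgroup.map_le_range _ _, hcard 0, hcard 1, ?_, ?_,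
    hnc0, hnc1⟩
  · intro H hH hHc hHne
    have hmap : (H.comap ι).map ι = H := Subgroup.map_comap_eq_self hH
    have h1 : ¬ H.comap ι ≤ rotSub m := by
      intro hle
      apply hHc
      have h2 : H ≤ (rotSub m).map ι := by
        rw [← hmap]
        exact Subgroup.map_mono hle
      have := hcyc
      exact Subgroup.isCyclic_of_le h2
    have h2 : H.comap ι ≠ ⊤ := by
      intro e
      apply hHne
      rw [← hmap, e, MonoidHom.range_eq_map]
    rcases dihSub_cover hm h (H.comap ι) h1 h2 with h3 | h3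
    · left
      rw [← hmap]
      exact Subgroup.map_mono h3
    · right
      rw [← hmap]
      exact Subgroup.map_mono h3
  · intro H h0 h1
    have h2 : H ≤ (rotSub m).map ι := by
      intro x hx
      obtain ⟨d, hd, rfl⟩ := h0 hx
      obtain ⟨d', hd', hdd⟩ := h1 hx
      have e : d' = d := hι hdd
      rw [e] at hd'
      exact Subgroup.mem_map_of_mem ι (mem_rotSub_of_mem_dihSub h hd hd')
    have := hcyc
    exact Subgroup.isCyclic_of_le h2

theorem exists_cj_le_sylow [Finite G] {p : ℕ} [Fact p.Prime] (S : Sylow p G) (V : Subgroup G)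
    (hV : IsPGroup p V) : ∃ g : G, cj g V ≤ S := by
  obtain ⟨Q, hQ⟩ := hV.exists_le_sylow
  obtain ⟨g, hg⟩ := MulAction.exists_smul_eq G Q S
  refine ⟨g, ?_⟩
  intro x hx
  rw [mem_cj] at hx
  rw [← hg]
  show x ∈ ((g • Q : Sylow p G) : Subgroup G)
  rw [Sylow.coe_subgroup_smul, Subgroup.mem_pointwise_smul_iff_inv_smul_mem]
  simpa [MulAut.smul_def] using hQ hx

/-- Normal form of a four-group inside an embedded dihedral group: after conjugation by a
rotation it contains the central involution and `s` or `s r`. -/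
theorem exists_cj_mem_of_four [Finite G] {m : ℕ} (hm2 : 2 ≤ m) (hme : m = 2 * (m / 2))
    (ι : DihedralGroup m →* G) (hι : Function.Injective ι) (V : Subgroup G) (hV : V ≤ ι.range)
    (hcard : Nat.card V = 4) (hexp : ∀ x ∈ V, x * x = 1) :
    ∃ (s : G) (j : ZMod m), (j = 0 ∨ j = 1) ∧
      ι (DihedralGroup.r ((m / 2 : ℕ) : ZMod m)) ∈ cj s V ∧ ι (DihedralGroup.sr j) ∈ cj s V := by
  have hNZ : NeZero m := ⟨by omega⟩
  obtain ⟨hh2, hh0, hhu⟩ := zmod_half hm2 hme
  have hmap : (V.comap ι).map ι = V := Subgroup.map_comap_eq_self hV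
  have hc' : Nat.card (V.comap ι) = 4 := by
    have h1 := Subgroup.card_map_of_injective (K := V.comap ι) hι
    rw [hmap] at h1
    rw [← h1]
    exact hcard
  have hsq' : ∀ d ∈ V.comap ι, d * d = 1 := by
    intro d hd
    apply hι
    rw [map_mul, map_one]
    exact hexp _ hd
  have hrot : ¬ V.comap ι ≤ rotSub m := by
    intro hle
    have h1 := card_le_two_mul_of_sq_mem (rotSub m) (V.comap ι) ⊥ (isCyclic_rotSub m) hle
      (fun a ha => by rw [Subgroup.mem_bot]; exact hsq' a ha)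
    rw [Subgroup.card_bot] at h1
    omega
  obtain ⟨x, hxV, hx⟩ := SetLike.not_le_iff_exists.mp hrot
  obtain ⟨i, rfl⟩ : ∃ i, x = DihedralGroup.sr i := by
    rcases x with i | i
    · exact absurd ⟨i, rfl⟩ hx
    · exact ⟨i, rfl⟩
  have h2 := card_eq_two_mul_card_inf ⊤ (rotSub m) (V.comap ι)
    (by rw [Subgroup.relIndex_top_right, index_rotSub]) le_top hrot
  have h3 : (V.comap ι ⊓ rotSub m : Subgroup (DihedralGroup m)) ≠ ⊥ := by
    intro e
    rw [e, Subgroup.card_bot] at h2
    omega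
  obtain ⟨y, hy, hy1⟩ : ∃ y ∈ (V.comap ι ⊓ rotSub m : Subgroup (DihedralGroup m)), y ≠ 1 := by
    by_contra hcon
    push Not at hcon
    exact h3 ((Subgroup.eq_bot_iff_forall _).mpr hcon)
  obtain ⟨hyV, j', rfl⟩ := hy
  have hj0 : j' ≠ 0 := by
    rintro rfl
    exact hy1 DihedralGroup.r_zero
  have hjj : j' + j' = 0 := by
    have h4 := hsq' _ hyV
    rw [DihedralGroup.r_mul_r, DihedralGroup.one_def] at h4
    exact DihedralGroup.r.inj h4
  have hj : j' = ((m / 2 : ℕ) : ZMod m) := hhu j' hjj hj0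
  rw [hj] at hyV
  refine ⟨ι (DihedralGroup.r ((i.val / 2 : ℕ) : ZMod m)), ((i.val % 2 : ℕ) : ZMod m), ?_, ?_, ?_⟩
  · rcases Nat.mod_two_eq_zero_or_one i.val with h0 | h0
    · left; rw [h0, Nat.cast_zero]
    · right; rw [h0, Nat.cast_one]
  · rw [mem_cj, ← map_inv, ← map_mul, ← map_mul]
    have e : (DihedralGroup.r ((i.val / 2 : ℕ) : ZMod m))⁻¹ *
        DihedralGroup.r ((m / 2 : ℕ) : ZMod m) * DihedralGroup.r ((i.val / 2 : ℕ) : ZMod m) =
        DihedralGroup.r ((m / 2 : ℕ) : ZMod m) := by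
      rw [DihedralGroup.inv_r, DihedralGroup.r_mul_r, DihedralGroup.r_mul_r]
      congr 1
      ring
    rw [e]
    exact hyV
  · rw [mem_cj, ← map_inv, ← map_mul, ← map_mul]
    have e : (DihedralGroup.r ((i.val / 2 : ℕ) : ZMod m))⁻¹ *
        DihedralGroup.sr ((i.val % 2 : ℕ) : ZMod m) *
        DihedralGroup.r ((i.val / 2 : ℕ) : ZMod m) = DihedralGroup.sr i := by
      rw [DihedralGroup.inv_r, DihedralGroup.r_mul_sr, DihedralGroup.sr_mul_r]
      congr 1
      have hi : i = ((i.val : ℕ) : ZMod m) := (ZMod.natCast_zmod_val i).symm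
      have hdiv : i.val = 2 * (i.val / 2) + i.val % 2 := (Nat.div_add_mod _ _).symm
      conv_rhs => rw [hi, hdiv]
      push_cast
      ring
    rw [e]
    exact hxV

/-- If the Sylow `2`-subgroups have order four, all subgroups of order four are conjugate. -/
theorem klein_conj_of_card_four [Finite G] (S : Sylow 2 G) (hS : Nat.card (S : Subgroup G) = 4)
    (U V : Subgroup G) (hU : Nat.card U = 4) (hV : Nat.card V = 4) : ∃ x : G, cj x U = V := by
  have : Fact (Nat.Prime 2) := ⟨Nat.prime_two⟩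
  have hU2 : IsPGroup 2 U := IsPGroup.of_card (n := 2) (by rw [hU]; norm_num)
  have hV2 : IsPGroup 2 V := IsPGroup.of_card (n := 2) (by rw [hV]; norm_num)
  obtain ⟨n, -, hn⟩ := exists_cj_eq_of_card_max 2 ⊤ U V le_top le_top hU2 hV2
    (fun R _ hR => by
      obtain ⟨Q, hQ⟩ := hR.exists_le_sylow
      have hcQ : Nat.card (Q : Subgroup G) = 4 := by
        rw [← hS]
        exact Nat.card_congr (Sylow.equiv Q S).toEquiv
      rw [hU, ← hcQ]
      exact Subgroup.card_le_of_le hQ)
    (by rw [hU, hV])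
  exact ⟨n, hn⟩

/-- Dihedral Sylow `2`-subgroups of order greater than four: exactly two classes of Klein
four-subgroups. -/
theorem klein_classes [Finite G] (S : Sylow 2 G) (m : ℕ)
    (eS : (S : Subgroup G) ≃* DihedralGroup m) (h4 : 4 < Nat.card (S : Subgroup G)) :
    ∃ U₁ U₂ : Subgroup G, IsKleinFour U₁ ∧ IsKleinFour U₂ ∧ ¬ (∃ x : G, cj x U₁ = U₂) ∧
      ∀ V : Subgroup G, IsKleinFour V → (∃ x : G, cj x V = U₁) ∨ (∃ x : G, cj x V = U₂) := by
  have : Fact (Nat.Prime 2) := ⟨Nat.prime_two⟩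
  have hS2 : IsPGroup 2 (S : Subgroup G) := S.isPGroup'
  have hcS : Nat.card (S : Subgroup G) = 2 * m := by
    rw [Nat.card_congr eS.toEquiv, DihedralGroup.nat_card]
  obtain ⟨k, hm⟩ : ∃ k, m = 2 ^ (k + 2) := by
    obtain ⟨n, hn⟩ := IsPGroup.iff_card.1 hS2
    rw [hcS] at hn
    rcases n with _ | _ | _ | n
    · exfalso
      have e : (2 : ℕ) ^ 0 = 1 := by norm_num
      omega
    · exfalso
      have e : (2 : ℕ) ^ (0 + 1) = 2 := by norm_num
      omega
    · exfalso
      have e : (2 : ℕ) ^ (0 + 1 + 1) = 4 := by norm_num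
      omega
    · refine ⟨n, ?_⟩
      have e : (2 : ℕ) ^ (n + 1 + 1 + 1) = 2 * 2 ^ (n + 2) := by ring
      omega
  obtain ⟨t, ht0, hmt⟩ : ∃ t, 0 < t ∧ m = 4 * t := ⟨2 ^ k, by positivity, by rw [hm]; ring⟩
  have h2m : 2 ∣ m := ⟨2 * t, by omega⟩
  have hNZ : NeZero m := ⟨by omega⟩
  obtain ⟨hh2, hh0, hhu⟩ := zmod_half (m := m) (by omega) (by omega)
  have hι : Function.Injective ((S : Subgroup G).subtype.comp eS.symm.toMonoidHom) :=
    (Subgroup.subtype_injective _).comp eS.symm.injective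
  have hr : ((S : Subgroup G).subtype.comp eS.symm.toMonoidHom).range = S :=
    range_subtype_comp_symm _ eS
  generalize (S : Subgroup G).subtype.comp eS.symm.toMonoidHom = ι at hι hr
  have hD : ∀ Q : Sylow 2 G, DihType (Q : Subgroup G) :=
    fun Q => dihType_of_equiv _ ((Sylow.equiv Q S).trans eS)
  have hodd : ¬ 2 ∣ (S : Subgroup G).index := S.not_dvd_index
  have hZ : ι (DihedralGroup.r ((m / 2 : ℕ) : ZMod m)) *
      ι (DihedralGroup.r ((m / 2 : ℕ) : ZMod m)) = 1 := by
    rw [← map_mul, DihedralGroup.r_mul_r, hh2, DihedralGroup.r_zero, map_one]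
  have hT : ∀ j : ZMod m, ι (DihedralGroup.sr j) * ι (DihedralGroup.sr j) = 1 := fun j => by
    rw [← map_mul, DihedralGroup.sr_mul_self, map_one]
  have hZT : ∀ j : ZMod m, ι (DihedralGroup.r ((m / 2 : ℕ) : ZMod m)) * ι (DihedralGroup.sr j) =
      ι (DihedralGroup.sr j) * ι (DihedralGroup.r ((m / 2 : ℕ) : ZMod m)) := fun j => by
    rw [← map_mul, ← map_mul, DihedralGroup.r_mul_sr, DihedralGroup.sr_mul_r]
    congr 2
    rw [sub_eq_iff_eq_add, add_assoc, hh2, add_zero]
  have hZ1 : ι (DihedralGroup.r ((m / 2 : ℕ) : ZMod m)) ≠ 1 := by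
    intro e
    rw [← map_one ι] at e
    have h1 := hι e
    rw [DihedralGroup.one_def] at h1
    exact hh0 (DihedralGroup.r.inj h1)
  have hT1 : ∀ j : ZMod m, ι (DihedralGroup.sr j) ≠ 1 := fun j e => by
    rw [← map_one ι] at e
    have h1 := hι e
    rw [DihedralGroup.one_def] at h1
    cases h1
  have hZT' : ∀ j : ZMod m, ι (DihedralGroup.r ((m / 2 : ℕ) : ZMod m)) ≠ ι (DihedralGroup.sr j) :=
    fun j e => by cases hι e
  have hK : ∀ j : ZMod m, IsKleinFour (fourSub (ι (DihedralGroup.r ((m / 2 : ℕ) : ZMod m)))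
      (ι (DihedralGroup.sr j)) hZ (hT j) (hZT j)) :=
    fun j => isKleinFour_fourSub hZ (hT j) (hZT j) hZ1 (hT1 j) (hZT' j)
  have hπ : ZMod.castHom h2m (ZMod 2) ((m / 2 : ℕ) : ZMod m) = 0 := by
    rw [map_natCast, ZMod.natCast_eq_zero_iff]
    exact ⟨t, by omega⟩
  have hUle : ∀ (j : ZMod m) (ε : ZMod 2), ZMod.castHom h2m (ZMod 2) j = ε →
      fourSub (ι (DihedralGroup.r ((m / 2 : ℕ) : ZMod m))) (ι (DihedralGroup.sr j)) hZ (hT j)
        (hZT j) ≤ (dihSub m h2m ε).map ι :=
    fun j ε hj => fourSub_le _ _ _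
      (Subgroup.mem_map_of_mem ι ((r_mem_dihSub h2m ε _).mpr hπ))
      (Subgroup.mem_map_of_mem ι ((sr_mem_dihSub h2m ε j).mpr hj))
  have hU0 := hUle 0 0 (map_zero _)
  have hU1 := hUle 1 1 (map_one _)
  have hnc : ∀ j : ZMod m, ¬ IsCyclic (fourSub (ι (DihedralGroup.r ((m / 2 : ℕ) : ZMod m)))
      (ι (DihedralGroup.sr j)) hZ (hT j) (hZT j)) := fun j => by
    have := hK j
    exact IsKleinFour.not_isCyclic
  have hM := dihMax_of_hom hm h2m ι hι
    (fun hc => hnc 0 (by have := hc; exact Subgroup.isCyclic_of_le hU0))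
    (fun hc => hnc 1 (by have := hc; exact Subgroup.isCyclic_of_le hU1))
  rw [hr] at hM
  refine ⟨_, _, hK 0, hK 1, ?_, ?_⟩
  · exact not_conj_of_dihMax hS2 hodd hD hM _ _ hU0 hU1 (hnc 0) (hnc 1) (by
      intro e
      have h1 := (hK 0).card_four
      rw [e] at h1
      omega)
  · intro V hV
    have hcV : Nat.card V = 4 := hV.card_four
    have hV2 : IsPGroup 2 V := IsPGroup.of_card (n := 2) (by rw [hcV]; norm_num)
    obtain ⟨g, hg⟩ := exists_cj_le_sylow S V hV2
    have hexp : ∀ x ∈ cj g V, x * x = 1 := by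
      intro x hx
      rw [mem_cj] at hx
      have h1 : (⟨g⁻¹ * x * g, hx⟩ : V) ^ 2 = 1 := by
        have h0 := Monoid.pow_exponent_eq_one (⟨g⁻¹ * x * g, hx⟩ : V)
        rwa [hV.exponent_two] at h0
      have h2 : (g⁻¹ * x * g) ^ 2 = 1 := congrArg Subtype.val h1
      have h3 : x * x = g * (g⁻¹ * x * g) ^ 2 * g⁻¹ := by
        rw [pow_two]
        group
      rw [h3, h2]
      group
    obtain ⟨s, j, hj, hz, ht⟩ := exists_cj_mem_of_four (by omega) (by omega) ι hι (cj g V)
      (by rw [hr]; exact hg) (by rw [card_cj]; exact hcV) hexp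
    have hle := fourSub_le hZ (hT j) (hZT j) hz ht
    have heq : fourSub (ι (DihedralGroup.r ((m / 2 : ℕ) : ZMod m))) (ι (DihedralGroup.sr j)) hZ
        (hT j) (hZT j) = cj s (cj g V) :=
      Subgroup.eq_of_le_of_card_ge hle (by rw [card_cj, card_cj, hcV, (hK j).card_four])
    rcases hj with rfl | rfl
    · left
      exact ⟨s * g, by rw [cj_mul]; exact heq.symm⟩
    · right
      exact ⟨s * g, by rw [cj_mul]; exact heq.symm⟩

end Cfsg.Agent.Lib.helper27
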