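import Mathlib
import Cfsg.Agent.Lib.helper38.FQ1

/-!
# S4404, piece X3 (helper27): an elementary abelian 3-group normalized by `Q` normalizes `[Q, M]`

`three_normalizes_of` is the statement of piece X3 with the orbit-counting lemma SA3
(`small_action_three`) as an explicit hypothesis.
-/

set_option autoImplicit false

namespace Cfsg.Agent.Lib.helper27

open Cfsg.Agent.Lib.helper38.FQ

section FQX3

variable {S : Type*} [Group S]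

/-- `{y m y⁻¹ m⁻¹ : m ∈ M}` as a subgroup, for `M` normal and commutative. -/
def fqx3_R (M : Subgroup S) (hN : M.Normal) (hc : ∀ a ∈ M, ∀ b ∈ M, a * b = b * a) (y : S) :
    Subgroup S where
  carrier := {w | ∃ m ∈ M, w = y * m * y⁻¹ * m⁻¹}
  one_mem' := ⟨1, M.one_mem, by group⟩
  mul_mem' := by
    rintro a b ⟨m, hm, rfl⟩ ⟨n, hn, rfl⟩
    refine ⟨m * n, M.mul_mem hm hn, ?_⟩
    have h1 : y * n * y⁻¹ ∈ M := hN.conj_mem n hn y
    have h2 := hc (m⁻¹) (M.inv_mem hm) (y * n * y⁻¹) h1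
    have h3 := hc (m⁻¹) (M.inv_mem hm) (n⁻¹) (M.inv_mem hn)
    calc y * m * y⁻¹ * m⁻¹ * (y * n * y⁻¹ * n⁻¹)
        = y * m * y⁻¹ * (m⁻¹ * (y * n * y⁻¹)) * n⁻¹ := by group
      _ = y * m * y⁻¹ * ((y * n * y⁻¹) * m⁻¹) * n⁻¹ := by rw [h2]
      _ = y * (m * n) * y⁻¹ * (m⁻¹ * n⁻¹) := by group
      _ = y * (m * n) * y⁻¹ * (n⁻¹ * m⁻¹) := by rw [h3]
      _ = y * (m * n) * y⁻¹ * (m * n)⁻¹ := by group
  inv_mem' := by
    rintro a ⟨m, hm, rfl⟩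
    refine ⟨m⁻¹, M.inv_mem hm, ?_⟩
    have h1 : y * m⁻¹ * y⁻¹ ∈ M := hN.conj_mem _ (M.inv_mem hm) y
    have h2 := hc m hm (y * m⁻¹ * y⁻¹) h1
    calc (y * m * y⁻¹ * m⁻¹)⁻¹ = m * (y * m⁻¹ * y⁻¹) := by group
      _ = (y * m⁻¹ * y⁻¹) * m := h2
      _ = y * m⁻¹ * y⁻¹ * m⁻¹⁻¹ := by group

theorem fqx3_mem_R (M : Subgroup S) (hN : M.Normal) (hc : ∀ a ∈ M, ∀ b ∈ M, a * b = b * a)
    (y w : S) : w ∈ fqx3_R M hN hc y ↔ ∃ m ∈ M, w = y * m * y⁻¹ * m⁻¹ := Iff.rfl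

theorem fqx3_mem_iff [Finite S] (M : Subgroup S) (hN : M.Normal)
    (hc : ∀ a ∈ M, ∀ b ∈ M, a * b = b * a) (y w : S) :
    w ∈ ⁅Subgroup.zpowers y, M⁆ ↔ ∃ m ∈ M, w = y * m * y⁻¹ * m⁻¹ := by
  constructor
  · intro hw
    have hpow : ∀ n : ℕ, ∀ m ∈ M, y ^ n * m * (y ^ n)⁻¹ * m⁻¹ ∈ fqx3_R M hN hc y := by
      intro n
      induction n with
      | zero =>
        intro m _
        have : y ^ 0 * m * (y ^ 0)⁻¹ * m⁻¹ = 1 := by rw [pow_zero]; group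
        rw [this]
        exact Subgroup.one_mem _
      | succ n ih =>
        intro m hm
        have h1 : y * m * y⁻¹ ∈ M := hN.conj_mem m hm y
        have h2 : y ^ (n + 1) * m * (y ^ (n + 1))⁻¹ * m⁻¹
            = (y ^ n * (y * m * y⁻¹) * (y ^ n)⁻¹ * (y * m * y⁻¹)⁻¹) * (y * m * y⁻¹ * m⁻¹) := by
          rw [pow_succ]; group
        rw [h2]
        exact (fqx3_R M hN hc y).mul_mem (ih _ h1) ((fqx3_mem_R M hN hc y _).mpr ⟨m, hm, rfl⟩)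
    have hle : ⁅Subgroup.zpowers y, M⁆ ≤ fqx3_R M hN hc y := by
      rw [Subgroup.commutator_le]
      intro g hg m hm
      rw [← mem_powers_iff_mem_zpowers, Submonoid.mem_powers_iff] at hg
      obtain ⟨n, rfl⟩ := hg
      rw [commutatorElement_def]
      exact hpow n m hm
    exact (fqx3_mem_R M hN hc y w).mp (hle hw)
  · rintro ⟨m, hm, rfl⟩
    have := Subgroup.commutator_mem_commutator (Subgroup.mem_zpowers y) hm
    rwa [commutatorElement_def] at this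

/-- `y` has no nontrivial fixed point on `{y m y⁻¹ m⁻¹}` when `y ^ 3` centralizes `M`. -/
theorem fqx3_fpf (M : Subgroup S) (hN : M.Normal)
    (hc : ∀ a ∈ M, ∀ b ∈ M, a * b = b * a) (h2 : ∀ a ∈ M, a * a = 1) (y : S)
    (hy : y ^ 3 ∈ Subgroup.centralizer (M : Set S)) (w : S)
    (hw : ∃ m ∈ M, w = y * m * y⁻¹ * m⁻¹) (hfix : y * w * y⁻¹ = w) : w = 1 := by
  obtain ⟨m, hm, rfl⟩ := hw
  obtain ⟨m₁, hm₁⟩ : ∃ m₁, m₁ = y * m * y⁻¹ := ⟨_, rfl⟩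
  obtain ⟨m₂, hm₂⟩ : ∃ m₂, m₂ = y * m₁ * y⁻¹ := ⟨_, rfl⟩
  have hm1 : m₁ ∈ M := hm₁ ▸ hN.conj_mem m hm y
  have h3 : y * m₂ * y⁻¹ = m := by
    have hy3 : y ^ 3 = y * y * y := by rw [pow_succ, pow_succ, pow_one]
    have := (Subgroup.mem_centralizer_iff.mp hy) m hm
    rw [hy3] at this
    calc y * m₂ * y⁻¹ = ((y * y * y) * m) * (y * y * y)⁻¹ := by rw [hm₂, hm₁]; group
      _ = (m * (y * y * y)) * (y * y * y)⁻¹ := by rw [this]
      _ = m := by group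
  have hf : m₂ * m₁⁻¹ = m₁ * m⁻¹ := by
    calc m₂ * m₁⁻¹ = y * (y * m * y⁻¹ * m⁻¹) * y⁻¹ := by rw [hm₂, hm₁]; group
      _ = y * m * y⁻¹ * m⁻¹ := hfix
      _ = m₁ * m⁻¹ := by rw [hm₁]
  have e1 : m₂ = m₁ * m⁻¹ * m₁ := by
    calc m₂ = m₂ * m₁⁻¹ * m₁ := by group
      _ = m₁ * m⁻¹ * m₁ := by rw [hf]
  have e2 : m₁ * m⁻¹ * m₁ = m⁻¹ := by
    rw [hc m₁ hm1 m⁻¹ (M.inv_mem hm), mul_assoc, h2 m₁ hm1, mul_one]
  have e3 : m⁻¹ = m := inv_eq_of_mul_eq_one_left (h2 m hm)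
  have e4 : m₂ = m := by rw [e1, e2, e3]
  have e5 : m₁ = m := by
    rw [e4] at h3
    rw [hm₁]; exact h3
  rw [← hm₁, e5]
  exact mul_inv_cancel m

/-- stability: an odd-order element centralizing `U` and acting trivially on `M / U` centralizes
`M` (`U` of exponent 2). -/
theorem fqx3_stab (M U : Subgroup S) (hU2 : ∀ u ∈ U, u * u = 1) (g : S)
    (hgU : g ∈ Subgroup.centralizer (U : Set S))
    (hgM : ∀ m ∈ M, g * m * g⁻¹ * m⁻¹ ∈ U) (n : ℕ) (hn : Odd n) (hgn : g ^ n = 1) :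
    g ∈ Subgroup.centralizer (M : Set S) := by
  rw [Subgroup.mem_centralizer_iff]
  intro m hm
  obtain ⟨u, hu⟩ : ∃ u, u = g * m * g⁻¹ * m⁻¹ := ⟨_, rfl⟩
  have huU : u ∈ U := hu ▸ hgM m hm
  have hcomm : ∀ k : ℕ, g * u ^ k = u ^ k * g := fun k =>
    ((Subgroup.mem_centralizer_iff.mp hgU) (u ^ k) (U.pow_mem huU k)).symm
  have key : ∀ k : ℕ, g ^ k * m * (g ^ k)⁻¹ = u ^ k * m := by
    intro k
    induction k with
    | zero => simp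
    | succ k ih =>
      calc g ^ (k + 1) * m * (g ^ (k + 1))⁻¹ = g * (g ^ k * m * (g ^ k)⁻¹) * g⁻¹ := by
            rw [pow_succ']; group
        _ = g * (u ^ k * m) * g⁻¹ := by rw [ih]
        _ = (g * u ^ k) * g⁻¹ * (g * m * g⁻¹ * m⁻¹) * m := by group
        _ = (u ^ k * g) * g⁻¹ * u * m := by rw [hcomm k, ← hu]
        _ = u ^ (k + 1) * m := by rw [pow_succ]; group
  have h1 := key n
  rw [hgn] at h1
  have hun : u ^ n = 1 := by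
    have : u ^ n * m = 1 * m := by rw [← h1]; group
    exact mul_right_cancel this
  have hu1 : u = 1 := by
    obtain ⟨j, rfl⟩ := hn
    rw [pow_succ, pow_mul, pow_two, hU2 u huU, one_pow, one_mul] at hun
    exact hun
  rw [hu1] at hu
  calc m * g = (g * m * g⁻¹ * m⁻¹)⁻¹ * (g * m) := by group
    _ = g * m := by rw [← hu]; group

/-- if `y' y y'⁻¹ y⁻¹` centralizes `M`, conjugation by `y'` preserves `{y m y⁻¹ m⁻¹}`. -/
theorem fqx3_inv (M : Subgroup S) (hN : M.Normal) (y y' : S)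
    (hcm : y' * y * y'⁻¹ * y⁻¹ ∈ Subgroup.centralizer (M : Set S)) (m : S) (hm : m ∈ M) :
    y' * (y * m * y⁻¹ * m⁻¹) * y'⁻¹ = y * (y' * m * y'⁻¹) * y⁻¹ * (y' * m * y'⁻¹)⁻¹ := by
  have hm' : y' * m * y'⁻¹ ∈ M := hN.conj_mem m hm y'
  have hz : y * (y' * m * y'⁻¹) * y⁻¹ ∈ M := hN.conj_mem _ hm' y
  have hcz := (Subgroup.mem_centralizer_iff.mp hcm) _ hz
  calc y' * (y * m * y⁻¹ * m⁻¹) * y'⁻¹
      = ((y' * y * y'⁻¹ * y⁻¹) * (y * (y' * m * y'⁻¹) * y⁻¹)) * (y' * y * y'⁻¹ * y⁻¹)⁻¹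
          * (y' * m * y'⁻¹)⁻¹ := by group
    _ = ((y * (y' * m * y'⁻¹) * y⁻¹) * (y' * y * y'⁻¹ * y⁻¹)) * (y' * y * y'⁻¹ * y⁻¹)⁻¹
          * (y' * m * y'⁻¹)⁻¹ := by rw [← hcz]
    _ = y * (y' * m * y'⁻¹) * y⁻¹ * (y' * m * y'⁻¹)⁻¹ := by group

theorem fqx3_conj [Finite S] (M : Subgroup S) (hN : M.Normal)
    (hc : ∀ a ∈ M, ∀ b ∈ M, a * b = b * a) (g y w : S) :
    w ∈ ⁅Subgroup.zpowers (g * y * g⁻¹), M⁆ ↔ g⁻¹ * w * g ∈ ⁅Subgroup.zpowers y, M⁆ := by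
  rw [fqx3_mem_iff M hN hc, fqx3_mem_iff M hN hc]
  constructor
  · rintro ⟨m, hm, rfl⟩
    refine ⟨g⁻¹ * m * g, ?_, by group⟩
    have := hN.conj_mem m hm g⁻¹
    rwa [inv_inv] at this
  · rintro ⟨m, hm, h⟩
    refine ⟨g * m * g⁻¹, hN.conj_mem m hm g, ?_⟩
    calc w = g * (g⁻¹ * w * g) * g⁻¹ := by group
      _ = g * (y * m * y⁻¹ * m⁻¹) * g⁻¹ := by rw [h]
      _ = g * y * g⁻¹ * (g * m * g⁻¹) * (g * y * g⁻¹)⁻¹ * (g * m * g⁻¹)⁻¹ := by group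

theorem fqx3_card_conj [Finite S] (M : Subgroup S) (hN : M.Normal)
    (hc : ∀ a ∈ M, ∀ b ∈ M, a * b = b * a) (g y : S) :
    Nat.card ↥⁅Subgroup.zpowers (g * y * g⁻¹), M⁆ = Nat.card ↥⁅Subgroup.zpowers y, M⁆ := by
  have h : ⁅Subgroup.zpowers (g * y * g⁻¹), M⁆
      = (⁅Subgroup.zpowers y, M⁆).map (MulAut.conj g).toMonoidHom := by
    ext w
    rw [fqx3_conj M hN hc, Subgroup.mem_map]
    constructor
    · intro hw
      refine ⟨g⁻¹ * w * g, hw, ?_⟩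
      show g * (g⁻¹ * w * g) * g⁻¹ = w
      group
    · rintro ⟨v, hv, rfl⟩
      have : g⁻¹ * (MulAut.conj g).toMonoidHom v * g = v := by
        show g⁻¹ * (g * v * g⁻¹) * g = v
        group
      rw [this]; exact hv
  rw [h]
  exact Subgroup.card_map_of_injective (MulAut.conj g).injective

/-- the product of two subgroups of a commutative subgroup -/
def fqx3_P (M H K : Subgroup S) (hc : ∀ a ∈ M, ∀ b ∈ M, a * b = b * a) (hH : H ≤ M)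
    (hK : K ≤ M) : Subgroup S where
  carrier := {z | ∃ a ∈ H, ∃ b ∈ K, z = a * b}
  one_mem' := ⟨1, H.one_mem, 1, K.one_mem, by simp⟩
  mul_mem' := by
    rintro _ _ ⟨a, ha, b, hb, rfl⟩ ⟨a', ha', b', hb', rfl⟩
    refine ⟨a * a', H.mul_mem ha ha', b * b', K.mul_mem hb hb', ?_⟩
    have := hc b (hK hb) a' (hH ha')
    calc a * b * (a' * b') = a * (b * a') * b' := by group
      _ = a * (a' * b) * b' := by rw [this]
      _ = a * a' * (b * b') := by group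
  inv_mem' := by
    rintro _ ⟨a, ha, b, hb, rfl⟩
    refine ⟨a⁻¹, H.inv_mem ha, b⁻¹, K.inv_mem hb, ?_⟩
    have := hc b⁻¹ (hK (K.inv_mem hb)) a⁻¹ (hH (H.inv_mem ha))
    rw [mul_inv_rev, this]

theorem fqx3_mem_P (M H K : Subgroup S) (hc : ∀ a ∈ M, ∀ b ∈ M, a * b = b * a) (hH : H ≤ M)
    (hK : K ≤ M) (z : S) : z ∈ fqx3_P M H K hc hH hK ↔ ∃ a ∈ H, ∃ b ∈ K, z = a * b := Iff.rfl

theorem fqx3_card_sup_le [Finite S] (M H K : Subgroup S)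
    (hc : ∀ a ∈ M, ∀ b ∈ M, a * b = b * a) (hH : H ≤ M) (hK : K ≤ M) :
    Nat.card ↥(H ⊔ K) ≤ Nat.card ↥H * Nat.card ↥K := by
  have hUP : H ⊔ K ≤ fqx3_P M H K hc hH hK :=
    sup_le (fun a ha => (fqx3_mem_P M H K hc hH hK a).mpr ⟨a, ha, 1, K.one_mem, by simp⟩)
      (fun b hb => (fqx3_mem_P M H K hc hH hK b).mpr ⟨1, H.one_mem, b, hb, by simp⟩)
  have hsurj : Function.Surjective (fun ab : ↥H × ↥K =>
      (⟨(ab.1 : S) * (ab.2 : S), (fqx3_mem_P M H K hc hH hK _).mpr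
        ⟨ab.1, ab.1.2, ab.2, ab.2.2, rfl⟩⟩ : ↥(fqx3_P M H K hc hH hK))) := by
    rintro ⟨z, hz⟩
    obtain ⟨a, ha, b, hb, rfl⟩ := (fqx3_mem_P M H K hc hH hK z).mp hz
    exact ⟨(⟨a, ha⟩, ⟨b, hb⟩), rfl⟩
  have h1 := Nat.card_le_card_of_surjective _ hsurj
  rw [Nat.card_prod] at h1
  exact (Subgroup.card_le_of_le hUP).trans h1

/-- the pair lemma (core): `y'` centralizes `W = {y m y⁻¹ m⁻¹}` when `W ≠ W'`. -/
theorem fqx3_core [Finite S] (M : Subgroup S) (hN : M.Normal)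
    (hc : ∀ a ∈ M, ∀ b ∈ M, a * b = b * a) (h2 : ∀ a ∈ M, a * a = 1)
    (hSA : ∀ (A U : Subgroup S), A ≤ Subgroup.normalizer (U : Set S) → (∀ u ∈ U, u * u = 1) →
      Nat.card ↥U ≤ 16 → IsPGroup 3 ↥A →
      ∀ a ∈ A, ∀ b ∈ A, a * b * a⁻¹ * b⁻¹ ∈ Subgroup.centralizer (U : Set S))
    (T : Subgroup S) (hT : IsPGroup 3 ↥T) (y y' : S) (hyT : y ∈ T) (hy'T : y' ∈ T)
    (hy'3 : y' ^ 3 ∈ Subgroup.centralizer (M : Set S))
    (W W' : Subgroup S)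
    (hWmem : ∀ w, w ∈ W ↔ ∃ m ∈ M, w = y * m * y⁻¹ * m⁻¹)
    (hW'mem : ∀ w, w ∈ W' ↔ ∃ m ∈ M, w = y' * m * y'⁻¹ * m⁻¹)
    (hW : Nat.card ↥W = 4) (hW' : Nat.card ↥W' = 4) (hne : W ≠ W') :
    ∀ w ∈ W, y' * w * y'⁻¹ = w := by
  classical
  have hWM : W ≤ M := by
    intro w hw
    obtain ⟨m, hm, rfl⟩ := (hWmem w).mp hw
    exact M.mul_mem (hN.conj_mem m hm y) (M.inv_mem hm)
  have hW'M : W' ≤ M := by
    intro w hw
    obtain ⟨m, hm, rfl⟩ := (hW'mem w).mp hw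
    exact M.mul_mem (hN.conj_mem m hm y') (M.inv_mem hm)
  have hU16 : Nat.card ↥(W ⊔ W') ≤ 16 := by
    have := fqx3_card_sup_le M W W' hc hWM hW'M
    rw [hW, hW'] at this
    exact this
  have hUM : W ⊔ W' ≤ M := sup_le hWM hW'M
  have hU2 : ∀ u ∈ W ⊔ W', u * u = 1 := fun u hu => h2 u (hUM hu)
  have pst_conj : ∀ g : S, (∀ m ∈ M, g * m * g⁻¹ * m⁻¹ ∈ W ⊔ W') →
      ∀ u ∈ W ⊔ W', g * u * g⁻¹ ∈ W ⊔ W' := by
    intro g hg u hu
    have := (W ⊔ W').mul_mem (hg u (hUM hu)) hu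
    have e : g * u * g⁻¹ * u⁻¹ * u = g * u * g⁻¹ := by group
    rwa [e] at this
  have pst_inv : ∀ g : S, (∀ m ∈ M, g * m * g⁻¹ * m⁻¹ ∈ W ⊔ W') →
      ∀ m ∈ M, g⁻¹ * m * g⁻¹⁻¹ * m⁻¹ ∈ W ⊔ W' := by
    intro g hg m hm
    have hm' : g⁻¹ * m * g⁻¹⁻¹ ∈ M := hN.conj_mem m hm g⁻¹
    have := (W ⊔ W').inv_mem (hg _ hm')
    have e : (g * (g⁻¹ * m * g⁻¹⁻¹) * g⁻¹ * (g⁻¹ * m * g⁻¹⁻¹)⁻¹)⁻¹ = g⁻¹ * m * g⁻¹⁻¹ * m⁻¹ := by
      group
    rwa [e] at this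
  have pst_mul : ∀ g h : S, (∀ m ∈ M, g * m * g⁻¹ * m⁻¹ ∈ W ⊔ W') →
      (∀ m ∈ M, h * m * h⁻¹ * m⁻¹ ∈ W ⊔ W') →
      ∀ m ∈ M, (g * h) * m * (g * h)⁻¹ * m⁻¹ ∈ W ⊔ W' := by
    intro g h hg hh m hm
    have h1 := pst_conj g hg _ (hh m hm)
    have h3 := (W ⊔ W').mul_mem h1 (hg m hm)
    have e : g * (h * m * h⁻¹ * m⁻¹) * g⁻¹ * (g * m * g⁻¹ * m⁻¹)
        = (g * h) * m * (g * h)⁻¹ * m⁻¹ := by group
    rwa [e] at h3
  have hPy : ∀ m ∈ M, y * m * y⁻¹ * m⁻¹ ∈ W ⊔ W' := fun m hm =>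
    (le_sup_left : W ≤ W ⊔ W') ((hWmem _).mpr ⟨m, hm, rfl⟩)
  have hPy' : ∀ m ∈ M, y' * m * y'⁻¹ * m⁻¹ ∈ W ⊔ W' := fun m hm =>
    (le_sup_right : W' ≤ W ⊔ W') ((hW'mem _).mpr ⟨m, hm, rfl⟩)
  have hnorm : ∀ g : S, (∀ m ∈ M, g * m * g⁻¹ * m⁻¹ ∈ W ⊔ W') →
      g ∈ Subgroup.normalizer ((W ⊔ W' : Subgroup S) : Set S) := by
    intro g hg
    rw [Subgroup.mem_normalizer_iff]
    intro u
    constructor
    · exact pst_conj g hg u
    · intro hu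
      have := pst_conj g⁻¹ (pst_inv g hg) _ hu
      have e : g⁻¹ * (g * u * g⁻¹) * g⁻¹⁻¹ = u := by group
      rwa [e] at this
  have hA : IsPGroup 3 ↥(T ⊓ Subgroup.normalizer ((W ⊔ W' : Subgroup S) : Set S)) :=
    hT.to_le inf_le_left
  have hcU := hSA (T ⊓ Subgroup.normalizer ((W ⊔ W' : Subgroup S) : Set S)) (W ⊔ W')
    inf_le_right hU2 hU16 hA y' ⟨hy'T, hnorm y' hPy'⟩ y ⟨hyT, hnorm y hPy⟩
  have hPc : ∀ m ∈ M, (y' * y * y'⁻¹ * y⁻¹) * m * (y' * y * y'⁻¹ * y⁻¹)⁻¹ * m⁻¹ ∈ W ⊔ W' := by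
    have h1 := pst_mul y' y hPy' hPy
    have h2' := pst_mul (y' * y) y'⁻¹ h1 (pst_inv y' hPy')
    exact pst_mul (y' * y * y'⁻¹) y⁻¹ h2' (pst_inv y hPy)
  obtain ⟨k, hk⟩ := hT ⟨y' * y * y'⁻¹ * y⁻¹,
    T.mul_mem (T.mul_mem (T.mul_mem hy'T hyT) (T.inv_mem hy'T)) (T.inv_mem hyT)⟩
  have hk' : (y' * y * y'⁻¹ * y⁻¹) ^ (3 ^ k) = 1 := by
    have := congrArg Subtype.val hk
    simpa using this
  have hodd : Odd (3 ^ k) := Odd.pow (by decide)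
  have hcM := fqx3_stab M (W ⊔ W') hU2 _ hcU hPc (3 ^ k) hodd hk'
  have hinvW : ∀ w ∈ W, y' * w * y'⁻¹ ∈ W := by
    intro w hw
    obtain ⟨m, hm, rfl⟩ := (hWmem w).mp hw
    rw [fqx3_inv M hN y y' hcM m hm]
    exact (hWmem _).mpr ⟨y' * m * y'⁻¹, hN.conj_mem m hm y', rfl⟩
  have hinvW' : ∀ w ∈ W', y' * w * y'⁻¹ ∈ W' := by
    intro w hw
    obtain ⟨m, hm, rfl⟩ := (hW'mem w).mp hw
    have h1 : y' * y' * y'⁻¹ * y'⁻¹ ∈ Subgroup.centralizer (M : Set S) := by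
      have : y' * y' * y'⁻¹ * y'⁻¹ = 1 := by group
      rw [this]; exact Subgroup.one_mem _
    rw [fqx3_inv M hN y' y' h1 m hm]
    exact (hW'mem _).mpr ⟨y' * m * y'⁻¹, hN.conj_mem m hm y', rfl⟩
  have hD : W ⊓ W' = ⊥ := by
    have hdvd : Nat.card ↥(W ⊓ W' : Subgroup S) ∣ 4 :=
      hW' ▸ Subgroup.card_dvd_of_le (inf_le_right : W ⊓ W' ≤ W')
    have hle4 : Nat.card ↥(W ⊓ W' : Subgroup S) ≤ 4 := Nat.le_of_dvd (by norm_num) hdvd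
    have hpos : 0 < Nat.card ↥(W ⊓ W' : Subgroup S) := Nat.card_pos
    have hcases : Nat.card ↥(W ⊓ W' : Subgroup S) = 1 ∨ Nat.card ↥(W ⊓ W' : Subgroup S) = 2 ∨
        Nat.card ↥(W ⊓ W' : Subgroup S) = 4 := by
      revert hdvd hle4 hpos
      generalize Nat.card ↥(W ⊓ W' : Subgroup S) = n
      intro hdvd hle4 hpos
      interval_cases n
      · left; rfl
      · right; left; rfl
      · exact absurd hdvd (by decide)
      · right; right; rfl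
    rcases hcases with h1 | h2c | h4
    · exact Subgroup.eq_bot_of_card_eq _ h1
    · exfalso
      obtain ⟨d, hd1, hduniq⟩ := (Nat.card_eq_two_iff' (1 : ↥(W ⊓ W' : Subgroup S))).mp h2c
      have hdm : (d : S) ∈ W ⊓ W' := d.2
      have hcd : y' * (d : S) * y'⁻¹ ∈ W ⊓ W' := ⟨hinvW _ hdm.1, hinvW' _ hdm.2⟩
      have hne1 : (⟨y' * (d : S) * y'⁻¹, hcd⟩ : ↥(W ⊓ W' : Subgroup S)) ≠ 1 := by
        intro h
        have h' : y' * (d : S) * y'⁻¹ = 1 := congrArg Subtype.val h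
        have : (d : S) = 1 := by
          calc (d : S) = y'⁻¹ * (y' * (d : S) * y'⁻¹) * y' := by group
            _ = 1 := by rw [h']; group
        exact hd1 (Subtype.ext this)
      have heq := hduniq _ hne1
      have hfix : y' * (d : S) * y'⁻¹ = (d : S) := congrArg Subtype.val heq
      have := fqx3_fpf M hN hc h2 y' hy'3 (d : S) ((hW'mem _).mp hdm.2) hfix
      exact hd1 (Subtype.ext this)
    · exfalso
      have e1 : W ⊓ W' = W' := Subgroup.eq_of_le_of_card_ge inf_le_right (by rw [h4, hW'])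
      have e2 : W' ≤ W := e1 ▸ inf_le_left
      have e3 : W' = W := Subgroup.eq_of_le_of_card_ge e2 (by rw [hW, hW'])
      exact hne e3.symm
  intro w hw
  have hv : y' * w * y'⁻¹ * w⁻¹ ∈ W ⊓ W' :=
    ⟨W.mul_mem (hinvW w hw) (W.inv_mem hw), (hW'mem _).mpr ⟨w, hWM hw, rfl⟩⟩
  rw [hD, Subgroup.mem_bot] at hv
  calc y' * w * y'⁻¹ = (y' * w * y'⁻¹ * w⁻¹) * w := by group
    _ = w := by rw [hv, one_mul]

/-- Piece X3 of S4404, with SA3 (`small_action_three`) as a hypothesis. -/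
theorem three_normalizes_of [Finite S]
    (hSA : ∀ (A U : Subgroup S), A ≤ Subgroup.normalizer (U : Set S) → (∀ u ∈ U, u * u = 1) →
      Nat.card ↥U ≤ 16 → IsPGroup 3 ↥A →
      ∀ a ∈ A, ∀ b ∈ A, a * b * a⁻¹ * b⁻¹ ∈ Subgroup.centralizer (U : Set S))
    {M Q : Subgroup S} (h : Hyp M Q) (F : Subgroup S)
    (hF : Cfsg.IsElementaryAbelian 3 F) (hQF : Q ≤ Subgroup.normalizer (F : Set S)) :
    F ≤ Subgroup.normalizer ((⁅Q, M⁆ : Subgroup S) : Set S) := by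
  classical
  have hN := h.normal
  have hc : ∀ a ∈ M, ∀ b ∈ M, a * b = b * a := fun a ha b hb =>
    congrArg Subtype.val (h.elem.1.is_comm.comm ⟨a, ha⟩ ⟨b, hb⟩)
  have h2 : ∀ a ∈ M, a * a = 1 := by
    intro a ha
    have := h.elem.2 a ha
    rwa [pow_two] at this
  have hFc : ∀ a ∈ F, ∀ b ∈ F, a * b = b * a := fun a ha b hb =>
    congrArg Subtype.val (hF.1.is_comm.comm ⟨a, ha⟩ ⟨b, hb⟩)
  obtain ⟨⟨x, hxQ⟩, hgen⟩ := @IsCyclic.exists_generator _ _ h.cyc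
  have hQx : Q = Subgroup.zpowers x := by
    apply le_antisymm
    · intro q hq
      obtain ⟨k, hk⟩ := Subgroup.mem_zpowers_iff.mp (hgen ⟨q, hq⟩)
      rw [Subgroup.mem_zpowers_iff]
      exact ⟨k, by simpa using congrArg Subtype.val hk⟩
    · rw [Subgroup.zpowers_le]; exact hxQ
  subst hQx
  have hx3 : x ^ 3 ∈ Subgroup.centralizer (M : Set S) := h.cube x hxQ
  have hcard : Nat.card ↥⁅Subgroup.zpowers x, M⁆ = 4 := h.card
  have hF3 : IsPGroup 3 ↥F := by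
    intro g
    refine ⟨1, ?_⟩
    apply Subtype.ext
    have := hF.2 g g.2
    simpa using this
  have hT : IsPGroup 3 ↥(F ⊔ Subgroup.zpowers x) :=
    IsPGroup.to_sup_of_normal_left' hF3 h.three hQF
  have hxT : x ∈ F ⊔ Subgroup.zpowers x :=
    (le_sup_right : Subgroup.zpowers x ≤ F ⊔ Subgroup.zpowers x) (Subgroup.mem_zpowers x)
  have memT : ∀ g ∈ F, g * x * g⁻¹ ∈ F ⊔ Subgroup.zpowers x := fun g hg =>
    Subgroup.mul_mem _ (Subgroup.mul_mem _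
      ((le_sup_left : F ≤ F ⊔ Subgroup.zpowers x) hg) hxT)
      (Subgroup.inv_mem _ ((le_sup_left : F ≤ F ⊔ Subgroup.zpowers x) hg))
  have hconj3 : ∀ g : S, (g * x * g⁻¹) ^ 3 ∈ Subgroup.centralizer (M : Set S) := by
    intro g
    rw [Subgroup.mem_centralizer_iff]
    intro m hm
    have hm' : g⁻¹ * m * g ∈ M := by
      have := hN.conj_mem m hm g⁻¹
      rwa [inv_inv] at this
    have := (Subgroup.mem_centralizer_iff.mp hx3) _ hm'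
    rw [conj_pow]
    calc m * (g * x ^ 3 * g⁻¹) = g * ((g⁻¹ * m * g) * x ^ 3) * g⁻¹ := by group
      _ = g * (x ^ 3 * (g⁻¹ * m * g)) * g⁻¹ := by rw [this]
      _ = g * x ^ 3 * g⁻¹ * m := by group
  intro f hf
  by_contra hfN
  have hf3 : f ^ 3 = 1 := hF.2 f hf
  have hfinv : f⁻¹ ∈ F := F.inv_mem hf
  have hcard1 : Nat.card ↥⁅Subgroup.zpowers (f * x * f⁻¹), M⁆ = 4 := by
    rw [fqx3_card_conj M hN hc, hcard]
  have hcard2 : Nat.card ↥⁅Subgroup.zpowers (f⁻¹ * x * f⁻¹⁻¹), M⁆ = 4 := by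
    rw [fqx3_card_conj M hN hc, hcard]
  have hne1 : ⁅Subgroup.zpowers x, M⁆ ≠ ⁅Subgroup.zpowers (f * x * f⁻¹), M⁆ := by
    intro heq
    apply hfN
    have : f⁻¹ ∈ Subgroup.normalizer ((⁅Subgroup.zpowers x, M⁆ : Subgroup S) : Set S) := by
      rw [Subgroup.mem_normalizer_iff]
      intro w
      have := fqx3_conj M hN hc f x w
      rw [← heq] at this
      rw [inv_inv]
      exact this
    have h' := Subgroup.inv_mem _ this
    rwa [inv_inv] at h'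
  have hne2 : ⁅Subgroup.zpowers (f⁻¹ * x * f⁻¹⁻¹), M⁆ ≠ ⁅Subgroup.zpowers x, M⁆ := by
    intro heq
    apply hfN
    rw [Subgroup.mem_normalizer_iff]
    intro w
    have := fqx3_conj M hN hc f⁻¹ x w
    rw [heq] at this
    rw [inv_inv] at this
    exact this
  have hne3 : ⁅Subgroup.zpowers (f⁻¹ * x * f⁻¹⁻¹), M⁆ ≠ ⁅Subgroup.zpowers (f * x * f⁻¹), M⁆ := by
    intro heq
    apply hfN
    have key : ∀ v, f * v * f⁻¹ ∈ ⁅Subgroup.zpowers x, M⁆ ↔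
        f⁻¹ * v * f ∈ ⁅Subgroup.zpowers x, M⁆ := by
      intro v
      have a := fqx3_conj M hN hc f⁻¹ x v
      have b := fqx3_conj M hN hc f x v
      rw [heq] at a
      rw [inv_inv] at a
      exact a.symm.trans b
    have hff : f * f = f⁻¹ := by
      have : f * f * f = 1 := by rw [← hf3, pow_succ, pow_succ, pow_one]
      exact eq_inv_of_mul_eq_one_left this
    have : f⁻¹ ∈ Subgroup.normalizer ((⁅Subgroup.zpowers x, M⁆ : Subgroup S) : Set S) := by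
      rw [Subgroup.mem_normalizer_iff]
      intro w
      have e1 : f * (f * w * f⁻¹) * f⁻¹ = f⁻¹ * w * f⁻¹⁻¹ := by
        calc f * (f * w * f⁻¹) * f⁻¹ = (f * f) * w * (f * f)⁻¹ := by group
          _ = f⁻¹ * w * f⁻¹⁻¹ := by rw [hff]
      have e2 : f⁻¹ * (f * w * f⁻¹) * f = w := by group
      have k := key (f * w * f⁻¹)
      rw [e1, e2] at k
      exact k.symm
    have h' := Subgroup.inv_mem _ this
    rwa [inv_inv] at h'
  have c1 := fqx3_core M hN hc h2 hSA _ hT x (f * x * f⁻¹) hxT (memT f hf) (hconj3 f)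
    ⁅Subgroup.zpowers x, M⁆ ⁅Subgroup.zpowers (f * x * f⁻¹), M⁆
    (fun w => fqx3_mem_iff M hN hc x w) (fun w => fqx3_mem_iff M hN hc _ w) hcard hcard1 hne1
  have c2 := fqx3_core M hN hc h2 hSA _ hT (f⁻¹ * x * f⁻¹⁻¹) x (memT f⁻¹ hfinv) hxT hx3
    ⁅Subgroup.zpowers (f⁻¹ * x * f⁻¹⁻¹), M⁆ ⁅Subgroup.zpowers x, M⁆
    (fun w => fqx3_mem_iff M hN hc _ w) (fun w => fqx3_mem_iff M hN hc x w) hcard2 hcard hne2
  have c3 := fqx3_core M hN hc h2 hSA _ hT (f⁻¹ * x * f⁻¹⁻¹) (f * x * f⁻¹) (memT f⁻¹ hfinv)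
    (memT f hf) (hconj3 f)
    ⁅Subgroup.zpowers (f⁻¹ * x * f⁻¹⁻¹), M⁆ ⁅Subgroup.zpowers (f * x * f⁻¹), M⁆
    (fun w => fqx3_mem_iff M hN hc _ w) (fun w => fqx3_mem_iff M hN hc _ w) hcard2 hcard1 hne3
  have hall : ∀ w ∈ ⁅Subgroup.zpowers x, M⁆, w = 1 := by
    intro w hw
    have hv : f⁻¹ * w * f ∈ ⁅Subgroup.zpowers (f⁻¹ * x * f⁻¹⁻¹), M⁆ := by
      rw [fqx3_conj M hN hc f⁻¹ x]
      have e : f⁻¹⁻¹ * (f⁻¹ * w * f) * f⁻¹ = w := by group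
      rw [e]; exact hw
    have a1 := c1 w hw
    have a2 := c2 _ hv
    have a3 := c3 _ hv
    obtain ⟨c, hcdef⟩ : ∃ c, c = x⁻¹ * (f * x * f⁻¹) := ⟨_, rfl⟩
    have hcF : c ∈ F := by
      have hxN : x⁻¹ ∈ Subgroup.normalizer (F : Set S) :=
        hQF (Subgroup.inv_mem _ (Subgroup.mem_zpowers x))
      have := (Subgroup.mem_normalizer_iff.mp hxN f).mp hf
      have h' := F.mul_mem this (F.inv_mem hf)
      have e : x⁻¹ * f * x⁻¹⁻¹ * f⁻¹ = x⁻¹ * (f * x * f⁻¹) := by group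
      rw [e] at h'
      rw [hcdef]; exact h'
    have hcf : c * f = f * c := hFc c hcF f hf
    have hcv : c * (f⁻¹ * w * f) = (f⁻¹ * w * f) * c := by
      have b3 : (f * x * f⁻¹) * (f⁻¹ * w * f) = (f⁻¹ * w * f) * (f * x * f⁻¹) := by
        calc (f * x * f⁻¹) * (f⁻¹ * w * f)
            = ((f * x * f⁻¹) * (f⁻¹ * w * f) * (f * x * f⁻¹)⁻¹) * (f * x * f⁻¹) := by group
          _ = (f⁻¹ * w * f) * (f * x * f⁻¹) := by rw [a3]
      have b2 : x⁻¹ * (f⁻¹ * w * f) = (f⁻¹ * w * f) * x⁻¹ := by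
        calc x⁻¹ * (f⁻¹ * w * f) = x⁻¹ * (x * (f⁻¹ * w * f) * x⁻¹) := by rw [a2]
          _ = (f⁻¹ * w * f) * x⁻¹ := by group
      rw [hcdef]
      calc x⁻¹ * (f * x * f⁻¹) * (f⁻¹ * w * f)
          = x⁻¹ * ((f * x * f⁻¹) * (f⁻¹ * w * f)) := by group
        _ = x⁻¹ * ((f⁻¹ * w * f) * (f * x * f⁻¹)) := by rw [b3]
        _ = (x⁻¹ * (f⁻¹ * w * f)) * (f * x * f⁻¹) := by group
        _ = ((f⁻¹ * w * f) * x⁻¹) * (f * x * f⁻¹) := by rw [b2]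
        _ = (f⁻¹ * w * f) * (x⁻¹ * (f * x * f⁻¹)) := by group
    have hcf' : c * f⁻¹ = f⁻¹ * c := by
      calc c * f⁻¹ = f⁻¹ * (f * c) * f⁻¹ := by group
        _ = f⁻¹ * (c * f) * f⁻¹ := by rw [hcf]
        _ = f⁻¹ * c := by group
    have hcw : c * w = w * c := by
      calc c * w = f * ((f⁻¹ * c) * w * f) * f⁻¹ := by group
        _ = f * ((c * f⁻¹) * w * f) * f⁻¹ := by rw [hcf']
        _ = f * (c * (f⁻¹ * w * f)) * f⁻¹ := by group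
        _ = f * ((f⁻¹ * w * f) * c) * f⁻¹ := by rw [hcv]
        _ = w * (f * c) * f⁻¹ := by group
        _ = w * (c * f) * f⁻¹ := by rw [hcf]
        _ = w * c := by group
    have hxw : x * w * x⁻¹ = w := by
      have b1 : (f * x * f⁻¹) * w = w * (f * x * f⁻¹) := by
        calc (f * x * f⁻¹) * w = ((f * x * f⁻¹) * w * (f * x * f⁻¹)⁻¹) * (f * x * f⁻¹) := by
              group
          _ = w * (f * x * f⁻¹) := by rw [a1]
      rw [hcdef] at hcw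
      have b4 : x⁻¹ * w = w * x⁻¹ := by
        calc x⁻¹ * w = (x⁻¹ * (w * (f * x * f⁻¹))) * (f * x * f⁻¹)⁻¹ := by group
          _ = (x⁻¹ * ((f * x * f⁻¹) * w)) * (f * x * f⁻¹)⁻¹ := by rw [b1]
          _ = (x⁻¹ * (f * x * f⁻¹) * w) * (f * x * f⁻¹)⁻¹ := by group
          _ = (w * (x⁻¹ * (f * x * f⁻¹))) * (f * x * f⁻¹)⁻¹ := by rw [hcw]
          _ = w * x⁻¹ := by group
      calc x * w * x⁻¹ = x * (w * x⁻¹) := by group
        _ = x * (x⁻¹ * w) := by rw [b4]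
        _ = w := by group
    exact fqx3_fpf M hN hc h2 x hx3 w ((fqx3_mem_iff M hN hc x w).mp hw) hxw
  have hbot : ⁅Subgroup.zpowers x, M⁆ = ⊥ := (Subgroup.eq_bot_iff_forall _).mpr hall
  rw [hbot] at hcard
  simp at hcard

end FQX3

end Cfsg.Agent.Lib.helper27
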