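import Mathlib
import Cfsg.Agent.Lib.helper38.FQ1
import Cfsg.Agent.Lib.helper14.FQSA
import Cfsg.Agent.Lib.helper27.FQX3a

/-!
# S4404, piece X3 (helper27): exact spec statement `three_normalizes`
-/

set_option autoImplicit false

namespace Cfsg.Agent.Lib.helper27

open Cfsg.Agent.Lib.helper38.FQ

theorem three_normalizes {S : Type*} [Group S] [Finite S] {M Q : Subgroup S} (h : Hyp M Q)
    (F : Subgroup S) (hF : Cfsg.IsElementaryAbelian 3 F)
    (hQF : Q ≤ Subgroup.normalizer (F : Set S)) :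
    F ≤ Subgroup.normalizer ((⁅Q, M⁆ : Subgroup S) : Set S) :=
  three_normalizes_of
    (fun A U h1 h2 h3 h4 => Cfsg.Agent.Lib.helper14.small_action_three A U h1 h2 h3 h4)
    h F hF hQF

end Cfsg.Agent.Lib.helper27
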