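import Mathlib
import Cfsg.Prelude.Def_Local
import Cfsg.Agent.Lib.helper38.HallHigman2
import Cfsg.Agent.Lib.helper40.Cores

/-!
# A `p`-solvable two-generator lemma (group-theoretic part of Flavell's Theorem B)

In a finite `p`-solvable group `H` with abelian Sylow `p`-subgroups, all elements of `p`-power
order lie in `O_{p',p}(H)`; hence for `x, y` of order `p` at most one of the products `x ^ i * y`
(`i` modulo `p`) can be `p`-regular.
-/

set_option autoImplicit false

namespace Cfsg.Agent.Lib.helper27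

open Subgroup

/-- In a finite `p`-solvable group with abelian Sylow `p`-subgroups, every Sylow `p`-subgroup lies
in `O_{p',p}`. -/
theorem fl_sylow_le_pPrimePCore_of_abelian {H : Type*} [Group H] [Finite H] {p : ℕ} [Fact p.Prime]
    (hS : Cfsg.IsPSolvable p H)
    (hab : ∀ S : Sylow p H, ∀ a ∈ (S : Subgroup H), ∀ b ∈ (S : Subgroup H), a * b = b * a)
    (S : Sylow p H) : (S : Subgroup H) ≤ Cfsg.pPrimePCore p H := by
  have hLn : (Cfsg.pPrimePCore p H).Normal := by
    unfold Cfsg.pPrimePCore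
    have : (Cfsg.pCore p (H ⧸ Cfsg.pPrimeCore p H)).Normal :=
      Cfsg.Agent.Lib.helper40.pCore_normal' p _
    infer_instance
  have hcons := Cfsg.Agent.Lib.helper38.isPConstrained_of_isPSolvable hS
  -- a Sylow subgroup of `O_{p',p}` and a Sylow subgroup of `H` containing it
  obtain ⟨PL⟩ : Nonempty (Sylow p ↥(Cfsg.pPrimePCore p H)) := inferInstance
  have hQp : IsPGroup p ((PL : Subgroup ↥(Cfsg.pPrimePCore p H)).map
      (Cfsg.pPrimePCore p H).subtype) := PL.2.map _
  obtain ⟨S₀, hS₀⟩ := hQp.exists_le_sylow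
  have hS₀L : (S₀ : Subgroup H) ≤ Cfsg.pPrimePCore p H := by
    refine le_trans ?_ (hcons PL)
    intro a ha
    rw [Subgroup.mem_centralizer_iff]
    intro b hb
    exact hab S₀ b (hS₀ hb) a ha
  -- every Sylow subgroup is conjugate to `S₀`
  obtain ⟨g, hg⟩ := MulAction.exists_smul_eq H S₀ S
  intro a ha
  rw [← hg, Sylow.coe_subgroup_smul, Subgroup.mem_pointwise_smul_iff_inv_smul_mem] at ha
  have h1 := hS₀L ha
  have h2 : a = g * ((MulAut.conj g)⁻¹ • a) * g⁻¹ := by
    simp [MulAut.smul_def, mul_assoc]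
  rw [h2]
  exact hLn.conj_mem _ h1 g

/-- In a finite `p`-solvable group with abelian Sylow `p`-subgroups, a `p`-regular element of
`O_{p',p}` lies in `O_{p'}`. -/
theorem fl_mem_pPrimeCore_of_mem_pPrimePCore {H : Type*} [Group H] [Finite H] {p : ℕ} [Fact p.Prime]
    {w : H} (hw : w ∈ Cfsg.pPrimePCore p H) (hreg : ¬ p ∣ orderOf w) :
    w ∈ Cfsg.pPrimeCore p H := by
  have hp : p.Prime := Fact.out
  have hKn : (Cfsg.pPrimeCore p H).Normal := Cfsg.Agent.Lib.helper40.pPrimeCore_normal' p H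
  unfold Cfsg.pPrimePCore at hw
  rw [Subgroup.mem_comap] at hw
  have hpg := Cfsg.Agent.Lib.helper40.pCore_isPGroup p (H ⧸ Cfsg.pPrimeCore p H)
  obtain ⟨k, hk⟩ := hpg ⟨_, hw⟩
  have hk' : (QuotientGroup.mk' (Cfsg.pPrimeCore p H) w) ^ p ^ k = 1 := by
    have := congrArg Subtype.val hk
    simpa using this
  have h1 : orderOf (QuotientGroup.mk' (Cfsg.pPrimeCore p H) w) ∣ p ^ k := orderOf_dvd_of_pow_eq_one hk'
  have h2 : orderOf (QuotientGroup.mk' (Cfsg.pPrimeCore p H) w) ∣ orderOf w :=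
    orderOf_map_dvd _ w
  have hcop : Nat.Coprime (p ^ k) (orderOf w) :=
    Nat.Coprime.pow_left k ((Nat.Prime.coprime_iff_not_dvd hp).mpr hreg)
  have h3 : orderOf (QuotientGroup.mk' (Cfsg.pPrimeCore p H) w) = 1 :=
    Nat.eq_one_of_dvd_coprimes hcop h1 h2
  rw [orderOf_eq_one_iff] at h3
  exact (QuotientGroup.eq_one_iff w).mp h3

/-- **Two-generator lemma.** Let `H` be a finite `p`-solvable group with abelian Sylow
`p`-subgroups and `x, y ∈ H` with `x` of order `p`. If `i < j` and `p ∤ j - i`, then `x ^ i * y`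
and `x ^ j * y` are not both `p`-regular. -/
theorem not_both_pRegular_of_isPSolvable {H : Type*} [Group H] [Finite H] {p : ℕ} [Fact p.Prime]
    (hS : Cfsg.IsPSolvable p H)
    (hab : ∀ S : Sylow p H, ∀ a ∈ (S : Subgroup H), ∀ b ∈ (S : Subgroup H), a * b = b * a)
    (x y : H) (hx : orderOf x = p) (hy : orderOf y = p) (i j : ℕ) (hij : i < j)
    (hjp : ¬ p ∣ (j - i))
    (h1 : ¬ p ∣ orderOf (x ^ i * y)) (h2 : ¬ p ∣ orderOf (x ^ j * y)) : False := by
  have hp : p.Prime := Fact.out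
  have hLn : (Cfsg.pPrimePCore p H).Normal := by
    unfold Cfsg.pPrimePCore
    have : (Cfsg.pCore p (H ⧸ Cfsg.pPrimeCore p H)).Normal :=
      Cfsg.Agent.Lib.helper40.pCore_normal' p _
    infer_instance
  -- elements of order `p` lie in `O_{p',p}`
  have hmem : ∀ u : H, orderOf u = p → u ∈ Cfsg.pPrimePCore p H := by
    intro u hu
    have hpg : IsPGroup p (Subgroup.zpowers u) := by
      apply IsPGroup.of_card (n := 1)
      rw [Nat.card_zpowers, hu, pow_one]
    obtain ⟨S, hS'⟩ := hpg.exists_le_sylow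
    exact fl_sylow_le_pPrimePCore_of_abelian hS hab S (hS' (Subgroup.mem_zpowers u))
  have hxL := hmem x hx
  have hyL := hmem y hy
  have hK1 := fl_mem_pPrimeCore_of_mem_pPrimePCore
    (Subgroup.mul_mem _ (Subgroup.pow_mem _ hxL i) hyL) h1
  have hK2 := fl_mem_pPrimeCore_of_mem_pPrimePCore
    (Subgroup.mul_mem _ (Subgroup.pow_mem _ hxL j) hyL) h2
  have hK3 : x ^ (j - i) ∈ Cfsg.pPrimeCore p H := by
    have h := Subgroup.mul_mem _ hK2 (Subgroup.inv_mem _ hK1)
    have e : x ^ j * y * (x ^ i * y)⁻¹ = x ^ (j - i) := by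
      rw [mul_inv_rev, mul_assoc, mul_inv_cancel_left, ← pow_sub x hij.le]
    rwa [e] at h
  have hcop := Cfsg.Agent.Lib.helper40.orderOf_coprime_of_mem_pPrimeCore hK3
  have hord : orderOf (x ^ (j - i)) = p := by
    rw [orderOf_pow, hx]
    have : Nat.gcd p (j - i) = 1 := (Nat.Prime.coprime_iff_not_dvd hp).mpr hjp
    rw [this, Nat.div_one]
  rw [hord] at hcop
  exact hp.one_lt.ne' (Nat.coprime_self p |>.mp hcop)

end Cfsg.Agent.Lib.helper27
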