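import Mathlib
import Cfsg.Agent.S0942
import Cfsg.Agent.Lib.helper20.BlockOrth
import Cfsg.Agent.Lib.helper20.Schur
import Cfsg.Agent.Lib.helper20.ProjVanish
import Cfsg.Agent.Lib.helper81.CharOrtho
import Cfsg.Agent.Lib.helper81.Blocks

/-!
# The character-theoretic core of Flavell's Theorem B

Let `z` be an element of order `p` such that all elements of order `p` are conjugate to `z`,
all nontrivial `p`-elements have order `p` and `C_G(z)` has a normal `p`-complement.  For the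
principal block `B₀` put `a_χ = χ(z)`.  Then `∑_{χ ∈ B₀} a_χ χ` is `q` times the indicator function
of the `p`-singular elements (`q = ∑_{B₀} a_χ²`), and counting pairs of conjugates of `z` with
`p`-singular product gives `q · N_sing = |G|² ∑_{B₀} a_χ³ / χ(1)`.
-/

set_option autoImplicit false

open Cfsg
open scoped ComplexConjugate

namespace Cfsg.Agent.Lib.helper27

universe u

variable {G : Type u} [Group G] [Fintype G] {p : ℕ} [Fact p.Prime] {M : Ideal AlgInt}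

open Classical in
theorem fl_finsum_mem_eq_sum {ι : Type*} [Fintype ι] (S : Set ι) (f : ι → ℂ) :
    ∑ᶠ i ∈ S, f i = ∑ i, if i ∈ S then f i else 0 := by
  rw [finsum_mem_def, finsum_eq_sum_of_fintype]
  refine Finset.sum_congr rfl fun i _ => ?_
  rw [Set.indicator_apply]

open Classical in
/-- `∑_{χ ∈ B₀} χ(z) χ(g⁻¹) = 0` for `p`-regular `g`. -/
theorem fl_theta_regular (hM : IsPModular p M) (z : G) (hz : orderOf z = p) (g : G)
    (hg : ¬ p ∣ orderOf g) :
    ∑ χ : IrrCharacter G,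
      (if χ ∈ principalBlock M G then (χ : G → ℂ) z * (χ : G → ℂ) g⁻¹ else 0) = 0 := by
  have hp : p.Prime := Fact.out
  have h1 : IsPPart p z z :=
    ⟨1, mul_one z, Commute.one_right z, ⟨1, by rw [hz, pow_one]⟩, by
      rw [orderOf_one, Nat.dvd_one]; exact hp.one_lt.ne'⟩
  have h2 : IsPPart p g 1 :=
    ⟨g, one_mul g, Commute.one_left g, ⟨0, by rw [orderOf_one, pow_zero]⟩, hg⟩
  have h3 : ¬ IsConj z 1 := by
    intro hc
    rw [isConj_one_left] at hc
    rw [hc, orderOf_one] at hz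
    exact hp.one_lt.ne' hz.symm
  have h := Cfsg.Agent.Lib.helper20.sum_block_mul_inv_eq_zero hM z g z 1 h1 h2 h3
    (principalBlock M G) Cfsg.Agent.Lib.helper81.isPBlock_principalBlock
  rw [fl_finsum_mem_eq_sum] at h
  exact h

/-- Characters of the principal block take the value `χ(z)` on all `p`-singular elements. -/
theorem fl_char_singular (hM : IsPModular p M) (z : G) (hz : orderOf z = p)
    (hconj : ∀ x : G, orderOf x = p → IsConj z x)
    (hpel : ∀ x : G, x ≠ 1 → (∃ k : ℕ, x ^ p ^ k = 1) → orderOf x = p)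
    (hreg : ∀ v : G, Commute z v → ¬ p ∣ orderOf v → v ∈ centralizerPPrimeCore p z)
    (g : G) (hg : p ∣ orderOf g) (χ : IrrCharacter G) (hχ : χ ∈ principalBlock M G) :
    (χ : G → ℂ) g = (χ : G → ℂ) z := by
  have hp : p.Prime := Fact.out
  obtain ⟨x, y, k, n, hxy, hcomm, hx1, hxk, hyn, hn0, hncop⟩ :=
    Cfsg.Agent.Lib.helper20.exists_pPart_split hp g hg
  have hxo : orderOf x = p := hpel x hx1 ⟨k, hxk⟩
  obtain ⟨c, hc⟩ := isConj_iff.mp (hconj x hxo)
  have hx' : x = c * z * c⁻¹ := hc.symm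
  have hyreg : ¬ p ∣ orderOf y := by
    intro hdvd
    have h1 : orderOf y ∣ n := orderOf_dvd_of_pow_eq_one hyn
    have h2 : p ∣ n := hdvd.trans h1
    have h3 : p ∣ Nat.gcd n p := Nat.dvd_gcd h2 dvd_rfl
    rw [hncop] at h3
    exact hp.one_lt.ne' (Nat.dvd_one.mp h3)
  set v := c⁻¹ * y * c with hv
  have hvreg : ¬ p ∣ orderOf v := by
    have h1 : v = MulAut.conj c⁻¹ y := by
      rw [hv, MulAut.conj_apply, inv_inv]
    rw [h1, MulEquiv.orderOf_eq]
    exact hyreg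
  have hcv : Commute z v := by
    show z * v = v * z
    calc z * v = c⁻¹ * (x * y) * c := by rw [hx', hv]; group
      _ = c⁻¹ * (y * x) * c := by rw [hcomm]
      _ = v * z := by rw [hx', hv]; group
  have hg' : g = c * (z * v) * c⁻¹ := by
    rw [hxy, hx', hv]; group
  rw [hg', Cfsg.Agent.Lib.helper81.irr_classFun χ (z * v) c]
  exact Cfsg.Agent.S0942.result p M hM z ⟨1, by rw [hz, pow_one]⟩ v (hreg v hcv hvreg) χ hχ

/-- The class-sum count: `χ(1) ∑_{g,h} χ((z^g z^h)⁻¹) = |G|² χ(z)²` when `z` is conjugate to its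
inverse. -/
theorem fl_pair_sum (χ : IrrCharacter G) (z : G) (hzinv : IsConj z z⁻¹) :
    (χ : G → ℂ) 1 * ∑ g : G, ∑ h : G, (χ : G → ℂ) (g * z * g⁻¹ * (h * z * h⁻¹))⁻¹
      = (Nat.card G : ℂ) ^ 2 * (χ : G → ℂ) z ^ 2 := by
  have hcf := Cfsg.Agent.Lib.helper81.irr_classFun χ
  have hz' : (χ : G → ℂ) z⁻¹ = (χ : G → ℂ) z := by
    obtain ⟨c, hc⟩ := isConj_iff.mp hzinv
    rw [← hc, hcf z c]
  have h1 : ∀ g : G,
      (χ : G → ℂ) 1 * ∑ h : G, (χ : G → ℂ) (g * z * g⁻¹ * (h * z * h⁻¹))⁻¹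
        = (Nat.card G : ℂ) * (χ : G → ℂ) z ^ 2 := by
    intro g
    have key := Cfsg.Agent.Lib.helper20.irr_sum_conj_mul (χ : G → ℂ) χ.2 z⁻¹ (g * z⁻¹ * g⁻¹)
    have e : ∀ h : G, (g * z * g⁻¹ * (h * z * h⁻¹))⁻¹ = h * z⁻¹ * h⁻¹ * (g * z⁻¹ * g⁻¹) := by
      intro h; group
    simp_rw [e]
    rw [key, hcf z⁻¹ g, hz']
    ring
  calc (χ : G → ℂ) 1 * ∑ g : G, ∑ h : G, (χ : G → ℂ) (g * z * g⁻¹ * (h * z * h⁻¹))⁻¹
      = ∑ g : G, (χ : G → ℂ) 1 * ∑ h : G, (χ : G → ℂ) (g * z * g⁻¹ * (h * z * h⁻¹))⁻¹ := by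
        rw [Finset.mul_sum]
    _ = ∑ g : G, (Nat.card G : ℂ) * (χ : G → ℂ) z ^ 2 := Finset.sum_congr rfl (fun g _ => h1 g)
    _ = (Nat.card G : ℂ) ^ 2 * (χ : G → ℂ) z ^ 2 := by
        rw [Finset.sum_const, Finset.card_univ, nsmul_eq_mul, ← Nat.card_eq_fintype_card]; ring

open Classical in
/-- The main identity: `q · #{(g,h) : z^g z^h is p-singular} = |G|² ∑_{B₀} χ(z)³/χ(1)`. -/
theorem fl_identity (hM : IsPModular p M) (z : G) (hz : orderOf z = p)
    (hconj : ∀ x : G, orderOf x = p → IsConj z x)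
    (hpel : ∀ x : G, x ≠ 1 → (∃ k : ℕ, x ^ p ^ k = 1) → orderOf x = p)
    (hreg : ∀ v : G, Commute z v → ¬ p ∣ orderOf v → v ∈ centralizerPPrimeCore p z)
    (q : ℕ)
    (hσ : ∑ χ : IrrCharacter G, (if χ ∈ principalBlock M G then
      (χ : G → ℂ) z * conj ((χ : G → ℂ) z) else 0) = (q : ℂ)) :
    (q : ℂ) * ((Finset.univ.filter (fun gh : G × G =>
        p ∣ orderOf (gh.1 * z * gh.1⁻¹ * (gh.2 * z * gh.2⁻¹)))).card : ℂ)
      = (Nat.card G : ℂ) ^ 2 * ∑ χ : IrrCharacter G, (if χ ∈ principalBlock M G then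
          (χ : G → ℂ) z ^ 3 / (χ : G → ℂ) 1 else 0) := by
  have hzinv : IsConj z z⁻¹ := hconj z⁻¹ (by rw [orderOf_inv, hz])
  have hzc : ∀ χ : IrrCharacter G, conj ((χ : G → ℂ) z) = (χ : G → ℂ) z := by
    intro χ
    rw [← Cfsg.Agent.Lib.helper81.irr_inv χ z]
    obtain ⟨c, hc⟩ := isConj_iff.mp hzinv
    rw [← hc, Cfsg.Agent.Lib.helper81.irr_classFun χ z c]
  -- the function Θ
  have hΘ : ∀ g : G, ∑ χ : IrrCharacter G,
      (if χ ∈ principalBlock M G then (χ : G → ℂ) z * (χ : G → ℂ) g⁻¹ else 0)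
        = if p ∣ orderOf g then (q : ℂ) else 0 := by
    intro g
    by_cases hg : p ∣ orderOf g
    · rw [if_pos hg, ← hσ]
      refine Finset.sum_congr rfl fun χ _ => ?_
      by_cases hχ : χ ∈ principalBlock M G
      · rw [if_pos hχ, if_pos hχ, hzc χ,
          fl_char_singular hM z hz hconj hpel hreg g⁻¹ (by rwa [orderOf_inv]) χ hχ]
      · rw [if_neg hχ, if_neg hχ]
    · rw [if_neg hg]
      exact fl_theta_regular hM z hz g hg
  have hL : ∑ gh : G × G, ∑ χ : IrrCharacter G,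
      (if χ ∈ principalBlock M G then
        (χ : G → ℂ) z * (χ : G → ℂ) (gh.1 * z * gh.1⁻¹ * (gh.2 * z * gh.2⁻¹))⁻¹ else 0)
      = (q : ℂ) * ((Finset.univ.filter (fun gh : G × G =>
        p ∣ orderOf (gh.1 * z * gh.1⁻¹ * (gh.2 * z * gh.2⁻¹)))).card : ℂ) := by
    simp_rw [hΘ]
    rw [Finset.sum_ite, Finset.sum_const, Finset.sum_const_zero, add_zero, nsmul_eq_mul, mul_comm]
  rw [← hL, Finset.sum_comm, Finset.mul_sum]
  refine Finset.sum_congr rfl fun χ _ => ?_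
  by_cases hχ : χ ∈ principalBlock M G
  · simp only [if_pos hχ]
    rw [← Finset.mul_sum, Fintype.sum_prod_type]
    have h1 := fl_pair_sum χ z hzinv
    have h0 := Cfsg.Agent.Lib.helper81.irr_one_ne_zero χ
    have h2 : ∑ g : G, ∑ h : G, (χ : G → ℂ) (g * z * g⁻¹ * (h * z * h⁻¹))⁻¹
        = (Nat.card G : ℂ) ^ 2 * (χ : G → ℂ) z ^ 2 / (χ : G → ℂ) 1 := by
      rw [eq_div_iff h0, mul_comm, h1]
    rw [h2]
    ring
  · simp only [if_neg hχ, Finset.sum_const_zero, mul_zero]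

open Classical in
/-- Counting: if for each pair of conjugates `x, y` of `z` at most one of the `x ^ i * y`
(`1 ≤ i ≤ p - 1`) is `p`-regular, then the number of pairs with `p`-regular product is at most
`|G|² / (p - 1)`. -/
theorem fl_count (z : G) (hz : orderOf z = p) (hconj : ∀ x : G, orderOf x = p → IsConj z x)
    (hcount : ∀ (g h : G) (i j : ℕ), 1 ≤ i → i < j → j < p →
      ¬ p ∣ orderOf (g * z ^ i * g⁻¹ * (h * z * h⁻¹)) →
      ¬ p ∣ orderOf (g * z ^ j * g⁻¹ * (h * z * h⁻¹)) → False) :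
    (p - 1) * (Finset.univ.filter (fun gh : G × G =>
        ¬ p ∣ orderOf (gh.1 * z * gh.1⁻¹ * (gh.2 * z * gh.2⁻¹)))).card ≤ Nat.card G ^ 2 := by
  have hp : p.Prime := Fact.out
  set A : ℕ → Finset (G × G) := fun i => Finset.univ.filter (fun gh : G × G =>
    ¬ p ∣ orderOf (gh.1 * z ^ i * gh.1⁻¹ * (gh.2 * z * gh.2⁻¹))) with hA
  have hA1 : A 1 = Finset.univ.filter (fun gh : G × G =>
      ¬ p ∣ orderOf (gh.1 * z * gh.1⁻¹ * (gh.2 * z * gh.2⁻¹))) := by
    simp only [hA, pow_one]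
  have hcard : ∀ i ∈ Finset.Icc 1 (p - 1), (A i).card = (A 1).card := by
    intro i hi
    rw [Finset.mem_Icc] at hi
    have hzi : orderOf (z ^ i) = p := by
      rw [orderOf_pow, hz]
      have hnd : ¬ p ∣ i := fun hd => by
        have := Nat.le_of_dvd (by omega) hd
        omega
      have : Nat.gcd p i = 1 := (Nat.Prime.coprime_iff_not_dvd hp).mpr hnd
      rw [this, Nat.div_one]
    obtain ⟨c, hc⟩ := isConj_iff.mp (hconj (z ^ i) hzi)
    apply Finset.card_bij (fun gh _ => (gh.1 * c, gh.2))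
    · intro gh hgh
      simp only [hA, Finset.mem_filter, Finset.mem_univ, true_and] at hgh ⊢
      have e : gh.1 * c * z ^ 1 * (gh.1 * c)⁻¹ = gh.1 * z ^ i * gh.1⁻¹ := by
        rw [← hc, pow_one]; group
      rw [e]
      exact hgh
    · intro gh _ gh' _ heq
      simp only [Prod.mk.injEq, mul_left_inj] at heq
      exact Prod.ext heq.1 heq.2
    · intro gh hgh
      refine ⟨(gh.1 * c⁻¹, gh.2), ?_, ?_⟩
      · simp only [hA, Finset.mem_filter, Finset.mem_univ, true_and] at hgh ⊢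
        have e : gh.1 * c⁻¹ * z ^ i * (gh.1 * c⁻¹)⁻¹ = gh.1 * z ^ 1 * gh.1⁻¹ := by
          rw [← hc, pow_one]; group
        rw [e]
        exact hgh
      · simp
  have hdisj : ∀ i ∈ Finset.Icc 1 (p - 1), ∀ j ∈ Finset.Icc 1 (p - 1), i ≠ j →
      Disjoint (A i) (A j) := by
    intro i hi j hj hij
    rw [Finset.mem_Icc] at hi hj
    rw [Finset.disjoint_left]
    intro gh h1 h2
    simp only [hA, Finset.mem_filter, Finset.mem_univ, true_and] at h1 h2
    rcases lt_or_gt_of_ne hij with h | h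
    · exact hcount gh.1 gh.2 i j hi.1 h (by omega) h1 h2
    · exact hcount gh.1 gh.2 j i hj.1 h (by omega) h2 h1
  have h1 : ((Finset.Icc 1 (p - 1)).biUnion A).card = ∑ i ∈ Finset.Icc 1 (p - 1), (A i).card :=
    Finset.card_biUnion hdisj
  have h2 : ((Finset.Icc 1 (p - 1)).biUnion A).card ≤ (Finset.univ : Finset (G × G)).card :=
    Finset.card_le_card (Finset.subset_univ _)
  rw [h1, Finset.sum_congr rfl hcard, Finset.sum_const, Nat.card_Icc, smul_eq_mul,
    Finset.card_univ, Fintype.card_prod, ← Nat.card_eq_fintype_card, hA1] at h2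
  have h3 : p - 1 + 1 - 1 = p - 1 := by omega
  rw [h3, ← sq] at h2
  exact h2

end Cfsg.Agent.Lib.helper27
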