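import Mathlib
import Cfsg.Agent.Lib.helper27.FlavellB

/-!
# Flavell's Theorem B: the final inequality

From the identity `q · N_sing = |G|² ∑_{B₀} a_χ³ / d_χ` and the counting bound
`(p - 1) N_reg ≤ |G|²` one gets `∑_{B₀} a_χ³ / d_χ ≥ q / 2` for `p ≥ 3`, while the arithmetic of
the principal block (`∑ a² = q`, `∑ a d = 0`, `d ≡ a mod q`, `d ≠ a`) forces
`∑_{B₀} a_χ³ / d_χ ≤ (q + 1) / 3`.
-/

set_option autoImplicit false

open Cfsg
open scoped ComplexConjugate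

namespace Cfsg.Agent.Lib.helper27

universe u

/-- The arithmetic bound. -/
theorem fl_real_bound {ι : Type*} [DecidableEq ι] (s : Finset ι) (a : ι → ℤ) (d : ι → ℕ) (q : ℕ)
    (t₀ : ι) (ht₀ : t₀ ∈ s) (ha₀ : a t₀ = 1) (hd₀ : d t₀ = 1)
    (hdpos : ∀ i ∈ s, 0 < d i)
    (hnt : ∀ i ∈ s, i ≠ t₀ → ∃ m : ℕ, (d i : ℤ) = a i + q * m ∧ 1 ≤ m)
    (hσ : ∑ i ∈ s, (a i : ℝ) ^ 2 = q)
    (hΘ : ∑ i ∈ s, (a i : ℝ) * (d i : ℝ) = 0) :
    ∑ i ∈ s, (a i : ℝ) ^ 3 / (d i : ℝ) ≤ ((q : ℝ) + 1) / 3 := by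
  -- some `a i` is negative
  have hneg : ∃ i₀ ∈ s, a i₀ < 0 := by
    by_contra hcon
    push Not at hcon
    have h1 : (a t₀ : ℝ) * (d t₀ : ℝ) ≤ ∑ i ∈ s, (a i : ℝ) * (d i : ℝ) :=
      Finset.single_le_sum (f := fun i => (a i : ℝ) * (d i : ℝ))
        (fun i hi => mul_nonneg (by exact_mod_cast hcon i hi) (Nat.cast_nonneg _)) ht₀
    rw [hΘ, ha₀, hd₀] at h1
    norm_num at h1
  obtain ⟨i₀, hi₀, hai₀⟩ := hneg
  have hi₀t : i₀ ≠ t₀ := by
    rintro rfl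
    rw [ha₀] at hai₀
    omega
  have hsq : ∀ i ∈ s, i ≠ t₀ → (a i : ℝ) ^ 2 + 1 ≤ q := by
    intro i hi hit
    have hsub : ({t₀, i} : Finset ι) ⊆ s := by
      intro j hj
      rw [Finset.mem_insert, Finset.mem_singleton] at hj
      rcases hj with rfl | rfl <;> assumption
    have h1 := Finset.sum_le_sum_of_subset_of_nonneg hsub (f := fun j => (a j : ℝ) ^ 2)
      (fun j _ _ => sq_nonneg _)
    rw [Finset.sum_pair (Ne.symm hit), hσ, ha₀] at h1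
    norm_num at h1
    linarith
  have hterm : ∀ i ∈ s, (a i : ℝ) ^ 3 / (d i : ℝ) ≤
      (a i : ℝ) ^ 2 / 3 + (if i = t₀ then (2 / 3 : ℝ) else 0) - (if i = i₀ then (1 / 3 : ℝ) else 0) := by
    intro i hi
    by_cases hit : i = t₀
    · rw [if_pos hit, if_neg (fun h => hi₀t (h.symm.trans hit)), hit, ha₀, hd₀]
      norm_num
    · rw [if_neg hit, add_zero]
      obtain ⟨m, hm, hm1⟩ := hnt i hi hit
      have hdp : (0 : ℝ) < d i := by exact_mod_cast hdpos i hi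
      by_cases hpos : 0 < a i
      · have hii₀ : i ≠ i₀ := by
          rintro rfl
          omega
        rw [if_neg hii₀, sub_zero]
        have h1 := hsq i hi hit
        have hdr : (d i : ℝ) = a i + q * m := by exact_mod_cast hm
        have hm1' : (1 : ℝ) ≤ m := by exact_mod_cast hm1
        have hq0 : (0 : ℝ) ≤ q := Nat.cast_nonneg q
        have hqm' : (q : ℝ) ≤ q * m := by nlinarith
        have h3 : (3 : ℝ) * a i ≤ d i := by nlinarith [sq_nonneg ((a i : ℝ) - 1)]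
        have hap : (0 : ℝ) < a i := by exact_mod_cast hpos
        rw [div_le_div_iff₀ hdp (by norm_num : (0 : ℝ) < 3)]
        nlinarith [mul_pos hap hap, mul_nonneg (mul_pos hap hap).le (sub_nonneg.mpr h3)]
      · have hle : a i ≤ 0 := not_lt.mp hpos
        have hler : (a i : ℝ) ≤ 0 := by exact_mod_cast hle
        have h1 : (a i : ℝ) ^ 3 / (d i : ℝ) ≤ 0 := by
          apply div_nonpos_of_nonpos_of_nonneg _ hdp.le
          nlinarith [sq_nonneg (a i : ℝ), mul_nonneg (sq_nonneg (a i : ℝ)) (neg_nonneg.mpr hler)]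
        by_cases hii₀ : i = i₀
        · rw [if_pos hii₀]
          have h2 : (a i : ℝ) ≤ -1 := by
            rw [hii₀]
            exact_mod_cast (by omega : a i₀ ≤ -1)
          nlinarith
        · rw [if_neg hii₀]
          nlinarith [sq_nonneg (a i : ℝ)]
  calc ∑ i ∈ s, (a i : ℝ) ^ 3 / (d i : ℝ)
      ≤ ∑ i ∈ s, ((a i : ℝ) ^ 2 / 3 + (if i = t₀ then (2 / 3 : ℝ) else 0)
          - (if i = i₀ then (1 / 3 : ℝ) else 0)) := Finset.sum_le_sum hterm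
    _ = (∑ i ∈ s, (a i : ℝ) ^ 2) / 3 + 2 / 3 - 1 / 3 := by
        rw [Finset.sum_sub_distrib, Finset.sum_add_distrib, Finset.sum_ite_eq' s t₀,
          Finset.sum_ite_eq' s i₀, if_pos ht₀, if_pos hi₀, ← Finset.sum_div]
    _ = ((q : ℝ) + 1) / 3 := by rw [hσ]; ring

variable {G : Type u} [Group G] [Fintype G] {p : ℕ} [Fact p.Prime] {M : Ideal AlgInt}

open Classical in
/-- **Core of Flavell's Theorem B.** -/
theorem fl_core (hM : IsPModular p M) (z : G) (hz : orderOf z = p)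
    (hconj : ∀ x : G, orderOf x = p → IsConj z x)
    (hpel : ∀ x : G, x ≠ 1 → (∃ k : ℕ, x ^ p ^ k = 1) → orderOf x = p)
    (hreg : ∀ v : G, Commute z v → ¬ p ∣ orderOf v → v ∈ centralizerPPrimeCore p z)
    (q : ℕ) (hp3 : 3 ≤ p) (hq3 : 3 ≤ q)
    (hσ : ∑ χ : IrrCharacter G, (if χ ∈ principalBlock M G then
      (χ : G → ℂ) z * conj ((χ : G → ℂ) z) else 0) = (q : ℂ))
    (hdeg : ∀ χ : IrrCharacter G, χ ≠ Cfsg.Agent.Lib.helper81.trivChar G →
      ∃ (a : ℤ) (m : ℕ), (χ : G → ℂ) z = (a : ℂ) ∧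
        (charDegree (χ : G → ℂ) : ℤ) = a + q * m ∧ 1 ≤ m)
    (hcount : ∀ (g h : G) (i j : ℕ), 1 ≤ i → i < j → j < p →
      ¬ p ∣ orderOf (g * z ^ i * g⁻¹ * (h * z * h⁻¹)) →
      ¬ p ∣ orderOf (g * z ^ j * g⁻¹ * (h * z * h⁻¹)) → False) : False := by
  have hp : p.Prime := Fact.out
  have hMp : M.IsPrime := hM.2.1.isPrime
  set Bf : Finset (IrrCharacter G) := Finset.univ.filter (fun χ => χ ∈ principalBlock M G) with hBf
  have htB : Cfsg.Agent.Lib.helper81.trivChar G ∈ Bf := by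
    rw [hBf, Finset.mem_filter]
    exact ⟨Finset.mem_univ _, Cfsg.Agent.Lib.helper81.trivChar_mem_principalBlock hMp⟩
  have hdata : ∀ χ : IrrCharacter G, ∃ (a : ℤ) (d : ℕ), (χ : G → ℂ) z = (a : ℂ) ∧
      (χ : G → ℂ) 1 = (d : ℂ) ∧ 0 < d ∧
      (χ = Cfsg.Agent.Lib.helper81.trivChar G → a = 1 ∧ d = 1) ∧
      (χ ≠ Cfsg.Agent.Lib.helper81.trivChar G → ∃ m : ℕ, (d : ℤ) = a + q * m ∧ 1 ≤ m) := by
    intro χ
    by_cases hχ : χ = Cfsg.Agent.Lib.helper81.trivChar G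
    · refine ⟨1, 1, ?_, ?_, Nat.one_pos, fun _ => ⟨rfl, rfl⟩, fun h => absurd hχ h⟩
      · rw [hχ]; simp
      · rw [hχ]; simp
    · obtain ⟨a, m, h1, h2, h3⟩ := hdeg χ hχ
      exact ⟨a, charDegree (χ : G → ℂ), h1, Cfsg.Agent.Lib.helper81.irr_one_eq_charDegree χ,
        Cfsg.Agent.Lib.helper81.irr_charDegree_pos χ, fun h => absurd h hχ, fun _ => ⟨m, h2, h3⟩⟩
  choose a d ha hd hdpos htr hnt using hdata
  -- the three identities over the reals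
  have Hσ : ∑ χ ∈ Bf, (a χ : ℝ) ^ 2 = q := by
    have h1 : ∑ χ ∈ Bf, ((a χ : ℤ) : ℂ) ^ 2 = (q : ℂ) := by
      rw [← hσ, hBf, Finset.sum_filter]
      refine Finset.sum_congr rfl fun χ _ => ?_
      by_cases hχ : χ ∈ principalBlock M G
      · rw [if_pos hχ, if_pos hχ, ha χ, map_intCast, sq]
      · rw [if_neg hχ, if_neg hχ]
    exact_mod_cast h1
  have HΘ : ∑ χ ∈ Bf, (a χ : ℝ) * (d χ : ℝ) = 0 := by
    have h0 := fl_theta_regular hM z hz (1 : G) (by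
      rw [orderOf_one, Nat.dvd_one]; exact hp.one_lt.ne')
    have h1 : ∑ χ ∈ Bf, ((a χ : ℤ) : ℂ) * ((d χ : ℕ) : ℂ) = 0 := by
      rw [← h0, hBf, Finset.sum_filter]
      refine Finset.sum_congr rfl fun χ _ => ?_
      by_cases hχ : χ ∈ principalBlock M G
      · rw [if_pos hχ, if_pos hχ, inv_one, ha χ, hd χ]
      · rw [if_neg hχ, if_neg hχ]
    exact_mod_cast h1
  have Hid : (q : ℝ) * ((Finset.univ.filter (fun gh : G × G =>
        p ∣ orderOf (gh.1 * z * gh.1⁻¹ * (gh.2 * z * gh.2⁻¹)))).card : ℝ)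
      = (Nat.card G : ℝ) ^ 2 * ∑ χ ∈ Bf, (a χ : ℝ) ^ 3 / (d χ : ℝ) := by
    have h0 := fl_identity hM z hz hconj hpel hreg q hσ
    have h1 : ∑ χ : IrrCharacter G, (if χ ∈ principalBlock M G then
          (χ : G → ℂ) z ^ 3 / (χ : G → ℂ) 1 else 0)
        = ∑ χ ∈ Bf, ((a χ : ℤ) : ℂ) ^ 3 / ((d χ : ℕ) : ℂ) := by
      rw [hBf, Finset.sum_filter]
      refine Finset.sum_congr rfl fun χ _ => ?_
      by_cases hχ : χ ∈ principalBlock M G
      · rw [if_pos hχ, if_pos hχ, ha χ, hd χ]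
      · rw [if_neg hχ, if_neg hχ]
    rw [h1] at h0
    exact_mod_cast h0
  have hbound := fl_real_bound Bf a d q (Cfsg.Agent.Lib.helper81.trivChar G) htB
    (htr _ rfl).1 (htr _ rfl).2 (fun χ _ => hdpos χ) (fun χ _ h => hnt χ h) Hσ HΘ
  have hcnt := fl_count z hz hconj hcount
  have hsplit := Finset.card_filter_add_card_filter_not (s := (Finset.univ : Finset (G × G)))
    (fun gh : G × G => p ∣ orderOf (gh.1 * z * gh.1⁻¹ * (gh.2 * z * gh.2⁻¹)))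
  rw [Finset.card_univ, Fintype.card_prod, ← Nat.card_eq_fintype_card, ← sq] at hsplit
  set Nsing := (Finset.univ.filter (fun gh : G × G =>
        p ∣ orderOf (gh.1 * z * gh.1⁻¹ * (gh.2 * z * gh.2⁻¹)))).card with hNsing
  set Nreg := (Finset.univ.filter (fun gh : G × G =>
        ¬ p ∣ orderOf (gh.1 * z * gh.1⁻¹ * (gh.2 * z * gh.2⁻¹)))).card with hNreg
  set E := ∑ χ ∈ Bf, (a χ : ℝ) ^ 3 / (d χ : ℝ) with hE
  have hGpos : (0 : ℝ) < (Nat.card G : ℝ) ^ 2 := by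
    have : 0 < Nat.card G := Nat.card_pos
    positivity
  -- `2 * Nreg ≤ |G|²`
  have h2 : 2 * Nreg ≤ Nat.card G ^ 2 := by
    have : 2 * Nreg ≤ (p - 1) * Nreg := Nat.mul_le_mul_right _ (by omega)
    exact this.trans hcnt
  have h2r : (2 : ℝ) * Nreg ≤ (Nat.card G : ℝ) ^ 2 := by exact_mod_cast h2
  have hsr : (Nsing : ℝ) + Nreg = (Nat.card G : ℝ) ^ 2 := by exact_mod_cast hsplit
  have hq3r : (3 : ℝ) ≤ q := by exact_mod_cast hq3
  -- combine
  have h5 : (q : ℝ) * (Nat.card G : ℝ) ^ 2 ≤ 2 * ((Nat.card G : ℝ) ^ 2 * E) := by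
    rw [← Hid]
    nlinarith
  have h6 : (q : ℝ) ≤ 2 * E := by
    by_contra hcon
    push Not at hcon
    nlinarith
  linarith
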