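import Mathlib
import Cfsg.Agent.Lib.helper27.FlavellC
import Cfsg.Agent.Lib.helper84.PrincipalSection
import Cfsg.Agent.Lib.helper4.PiPart
import Cfsg.Agent.Lib.helper40.Cores

/-!
# Flavell's Theorem B: supplying the hypotheses of the core

* `fl_degree_congr`: in a simple group, for a Sylow subgroup `P` all of whose nonidentity elements
  are conjugate to `z`, a nonprincipal irreducible character `χ` has `χ(z) ∈ ℤ` and
  `χ(1) = χ(z) + |P| m` with `m ≥ 1`.
* `fl_sigma`: `∑_{χ ∈ B₀} |χ(z)|² = |C_G(z)|_p` when `C_G(z)` has a normal `p`-complement.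
* `fl_centralizer_facts`: consequences of a normal `p`-complement in `C_G(z)`.
-/

set_option autoImplicit false

open Cfsg
open scoped ComplexConjugate Pointwise

namespace Cfsg.Agent.Lib.helper27

universe u

open Classical in
theorem fl_degree_congr {G : Type u} [Group G] [Fintype G] [IsSimpleGroup G] (P : Subgroup G)
    (z : G) (hz1 : z ≠ 1)
    (hPconj : ∀ u ∈ P, u ≠ 1 → IsConj z u) (q : ℕ) (hq : Nat.card P = q) (hq2 : 2 ≤ q)
    (χ : IrrCharacter G) (hχ : χ ≠ Cfsg.Agent.Lib.helper81.trivChar G) :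
    ∃ (a : ℤ) (m : ℕ), (χ : G → ℂ) z = (a : ℂ) ∧
      (charDegree (χ : G → ℂ) : ℤ) = a + q * m ∧ 1 ≤ m := by
  obtain ⟨n, ρ, hρ, hχe⟩ := χ.2
  have hPfin : Fintype ↥P := Fintype.ofFinite _
  let ρP : Representation ℂ ↥P (Fin n → ℂ) := ρ.comp P.subtype
  have hPne : (Nat.card ↥P : ℂ) ≠ 0 := by exact_mod_cast Nat.card_pos.ne'
  have hinv : Invertible (Nat.card ↥P : ℂ) := invertibleOfNonzero hPne
  have havg := Representation.card_inv_mul_sum_char_eq_finrank ρP
  set f := Module.finrank ℂ ↥(Representation.invariants ρP) with hf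
  have hcf := Cfsg.Agent.Lib.helper81.irr_classFun χ
  have hchar : ∀ u : ↥P, ρP.character u = (χ : G → ℂ) (u : G) := by
    intro u
    rw [← hχe]
    rfl
  have hsum : ∑ u : ↥P, ρP.character u = (χ : G → ℂ) 1 + ((q : ℂ) - 1) * (χ : G → ℂ) z := by
    have h1 : ∀ u : ↥P, ρP.character u
        = (χ : G → ℂ) z + (if u = 1 then (χ : G → ℂ) 1 - (χ : G → ℂ) z else 0) := by
      intro u
      rw [hchar]
      by_cases hu : u = 1
      · rw [if_pos hu, hu]
        simp
      · rw [if_neg hu, add_zero]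
        have hu' : (u : G) ≠ 1 := fun h => hu (Subtype.ext h)
        obtain ⟨c, hc⟩ := isConj_iff.mp (hPconj u u.2 hu')
        rw [← hc, hcf z c]
    simp_rw [h1]
    rw [Finset.sum_add_distrib, Finset.sum_const, Finset.card_univ, Finset.sum_ite_eq',
      if_pos (Finset.mem_univ _), nsmul_eq_mul, ← Nat.card_eq_fintype_card, hq]
    ring
  rw [hsum, hq] at havg
  set d := charDegree (χ : G → ℂ) with hd
  have hd1 : (χ : G → ℂ) 1 = (d : ℂ) := Cfsg.Agent.Lib.helper81.irr_one_eq_charDegree χ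
  have hqpos : 0 < q := by omega
  have hq0 : (q : ℂ) ≠ 0 := by exact_mod_cast hqpos.ne'
  have heq : (d : ℂ) + ((q : ℂ) - 1) * (χ : G → ℂ) z = (q : ℂ) * (f : ℂ) := by
    rw [← havg, hd1]
    field_simp
  -- integrality
  have hq1 : ((q : ℚ) - 1) ≠ 0 := by
    have : (2 : ℚ) ≤ q := by exact_mod_cast hq2
    linarith
  have hq1c : ((q : ℂ) - 1) ≠ 0 := by
    intro h0
    apply hq1
    have h : ((((q : ℚ) - 1 : ℚ)) : ℂ) = 0 := by
      push_cast
      exact h0
    exact_mod_cast h
  set r : ℚ := ((q : ℚ) * f - d) / ((q : ℚ) - 1) with hr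
  have hzr : (χ : G → ℂ) z = (r : ℂ) := by
    rw [hr]
    push_cast
    rw [eq_div_iff hq1c]
    linear_combination heq
  have hint : IsIntegral ℤ (r : ℂ) := hzr ▸ Cfsg.Agent.Lib.helper81.irr_isIntegral χ z
  have hintQ : IsIntegral ℤ r := by
    have h1 : IsIntegral ℤ (algebraMap ℚ ℂ r) := by rwa [eq_ratCast]
    exact (isIntegral_algebraMap_iff (algebraMap ℚ ℂ).injective).mp h1
  obtain ⟨k, hk⟩ := IsIntegrallyClosed.isIntegral_iff.mp hintQ
  have hk' : (k : ℚ) = r := by
    rw [← hk]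
    simp
  have hzk : (χ : G → ℂ) z = (k : ℂ) := by
    rw [hzr, ← hk']
    push_cast
    rfl
  have hZ : (d : ℤ) + ((q : ℤ) - 1) * k = q * f := by
    have h1 : ((d : ℚ)) + ((q : ℚ) - 1) * k = q * f := by
      rw [hk', hr]
      field_simp
      ring
    exact_mod_cast h1
  have hfn : f ≤ n := by
    have h := Submodule.finrank_le (Representation.invariants ρP)
    rwa [Module.finrank_fin_fun] at h
  have hdn : d = n := by
    have h1 : (χ : G → ℂ) 1 = (n : ℂ) := by
      rw [← hχe, Representation.char_one]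
      simp
    have : (d : ℂ) = (n : ℂ) := by rw [← hd1, h1]
    exact_mod_cast this
  have hq2' : (2 : ℤ) ≤ q := by exact_mod_cast hq2
  have hkd : k ≤ d := by
    have h1 : (q : ℤ) * f ≤ q * d := by
      rw [hdn]
      exact_mod_cast Nat.mul_le_mul_left q hfn
    nlinarith
  have hkne : k ≠ d := by
    intro hkd'
    apply hχ
    obtain ⟨K, hKn, hK⟩ := Cfsg.Agent.Lib.helper4.exists_normal_ker_of_isCharacter
      (Cfsg.Agent.Lib.helper81.irr_isCharacter χ)
    have hzK : z ∈ K := by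
      rw [hK, hzk, hd1, hkd']
      push_cast
      rfl
    have hKtop : K = ⊤ := by
      rcases hKn.eq_bot_or_eq_top with h | h
      · rw [h, Subgroup.mem_bot] at hzK
        exact absurd hzK hz1
      · exact h
    have hall : ∀ g : G, (χ : G → ℂ) g = (d : ℂ) := by
      intro g
      rw [← hd1, ← hK, hKtop]
      exact Subgroup.mem_top g
    have hin := Cfsg.Agent.Lib.helper81.irr_classInner_self χ
    unfold classInner at hin
    simp_rw [hall] at hin
    have hG0 : (Nat.card G : ℂ) ≠ 0 := by exact_mod_cast Nat.card_pos.ne'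
    rw [Finset.sum_const, Finset.card_univ, nsmul_eq_mul, ← Nat.card_eq_fintype_card,
      map_natCast, inv_mul_cancel_left₀ hG0] at hin
    have hdd : d * d = 1 := by exact_mod_cast hin
    have hd1' : d = 1 := Nat.eq_one_of_mul_eq_one_left hdd
    apply Subtype.ext
    funext g
    rw [hall g, hd1']
    simp
  have hlt : k < d := lt_of_le_of_ne hkd hkne
  have hfk : 0 < (f : ℤ) - k := by
    by_contra hcon
    have h1 : (f : ℤ) - k ≤ 0 := not_lt.mp hcon
    have h2 : (q : ℤ) * ((f : ℤ) - k) ≤ 0 :=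
      mul_nonpos_of_nonneg_of_nonpos (by omega) h1
    nlinarith
  refine ⟨k, ((f : ℤ) - k).toNat, hzk, ?_, ?_⟩
  · rw [Int.toNat_of_nonneg hfk.le]
    linarith
  · omega

open Classical in
/-- `∑_{χ ∈ B₀(G)} |χ(z)|² = |C_G(z)|_p` when `C_G(z)` has a normal `p`-complement. -/
theorem fl_sigma {G : Type u} [Group G] [Fintype G] {p : ℕ} [Fact p.Prime] {M : Ideal AlgInt}
    (hM : IsPModular p M) (z : G) (hz : orderOf z = p)
    (hidx : ∃ k : ℕ, (pPrimeCore p ↥(Subgroup.centralizer ({z} : Set G))).index = p ^ k) :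
    ∑ χ : IrrCharacter G, (if χ ∈ principalBlock M G then
      (χ : G → ℂ) z * conj ((χ : G → ℂ) z) else 0)
      = ((p ^ (Nat.card ↥(Subgroup.centralizer ({z} : Set G))).factorization p : ℕ) : ℂ) := by
  have hp : p.Prime := Fact.out
  have hCfin : Fintype ↥(Subgroup.centralizer ({z} : Set G)) := Fintype.ofFinite _
  have h1ne : ¬ p ∣ orderOf (1 : ↥(Subgroup.centralizer ({z} : Set G))) := by
    rw [orderOf_one, Nat.dvd_one]
    exact hp.one_lt.ne'
  have h1 := Cfsg.Agent.Lib.helper84.sum_principalBlock_section hM z ⟨1, by rw [hz, pow_one]⟩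
    (1 : ↥(Subgroup.centralizer ({z} : Set G))) h1ne
  have h2 := Cfsg.Agent.Lib.helper84.sum_principalBlock_sq_of_pNilpotent hM hidx
    (1 : ↥(Subgroup.centralizer ({z} : Set G))) h1ne
  simp only [Subgroup.coe_one, mul_one] at h1
  rw [h1, h2]

/-- Consequences of a normal `p`-complement in `C_G(z)`. -/
theorem fl_centralizer_facts {G : Type u} [Group G] [Finite G] {p : ℕ} [Fact p.Prime] (z : G)
    (hb : HasNormalPComplement p ↥(Subgroup.centralizer ({z} : Set G))) :
    (∃ k : ℕ, (pPrimeCore p ↥(Subgroup.centralizer ({z} : Set G))).index = p ^ k) ∧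
    ∀ v : G, Commute z v → ¬ p ∣ orderOf v → v ∈ centralizerPPrimeCore p z := by
  have hp : p.Prime := Fact.out
  obtain ⟨P', N, hN, hcompl⟩ := hb
  -- `N` has index a power of `p` and order prime to `p`
  have hNidx : N.index = Nat.card (P' : Subgroup ↥(Subgroup.centralizer ({z} : Set G))) :=
    hcompl.symm.index_eq_card
  obtain ⟨k, hk⟩ := IsPGroup.iff_card.mp P'.2
  have hNk : N.index = p ^ k := by rw [hNidx, hk]
  have hNcard : Nat.card N = (P' : Subgroup ↥(Subgroup.centralizer ({z} : Set G))).index :=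
    hcompl.index_eq_card.symm
  have hNcop : (Nat.card N).Coprime p := by
    rw [hNcard, Nat.coprime_comm]
    exact (Nat.Prime.coprime_iff_not_dvd hp).mpr P'.not_dvd_index
  have hNle : N ≤ pPrimeCore p ↥(Subgroup.centralizer ({z} : Set G)) :=
    Cfsg.Agent.Lib.helper40.le_pPrimeCore N hN hNcop
  refine ⟨?_, ?_⟩
  · have hdvd : (pPrimeCore p ↥(Subgroup.centralizer ({z} : Set G))).index ∣ p ^ k := by
      rw [← hNk]
      exact Subgroup.index_dvd_of_le hNle
    obtain ⟨j, -, hj⟩ := (Nat.dvd_prime_pow hp).mp hdvd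
    exact ⟨j, hj⟩
  · intro v hcv hv
    have hvC : v ∈ Subgroup.centralizer ({z} : Set G) := by
      rw [Subgroup.mem_centralizer_iff]
      intro h hh
      rw [Set.mem_singleton_iff] at hh
      rw [hh]
      exact hcv.eq
    set v' : ↥(Subgroup.centralizer ({z} : Set G)) := ⟨v, hvC⟩ with hv'
    have hv'o : ¬ p ∣ orderOf v' := by
      rw [hv', Subgroup.orderOf_mk]
      exact hv
    have h1 : v' ^ p ^ k ∈ N := by
      rw [← hNk]
      exact Subgroup.pow_index_mem N v'
    have hcop : Nat.Coprime (p ^ k) (orderOf v') :=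
      Nat.Coprime.pow_left k ((Nat.Prime.coprime_iff_not_dvd hp).mpr hv'o)
    obtain ⟨m, hm⟩ := exists_pow_eq_self_of_coprime hcop
    have hv'N : v' ∈ N := by
      rw [← hm]
      exact Subgroup.pow_mem N h1 m
    unfold centralizerPPrimeCore
    exact ⟨v', hNle hv'N, rfl⟩

/-- A `p`-element is conjugate into a given Sylow `p`-subgroup. -/
theorem fl_conj_mem_sylow {G : Type u} [Group G] [Finite G] {p : ℕ} [Fact p.Prime] (P : Sylow p G)
    (x : G) (k : ℕ) (hx : x ^ p ^ k = 1) : ∃ g : G, g * x * g⁻¹ ∈ (P : Subgroup G) := by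
  have hpg : IsPGroup p (Subgroup.zpowers x) := by
    rintro ⟨g, hg⟩
    obtain ⟨i, rfl⟩ := Subgroup.mem_zpowers_iff.mp hg
    refine ⟨k, Subtype.ext ?_⟩
    show (x ^ i) ^ p ^ k = 1
    rw [← zpow_natCast, ← zpow_mul, mul_comm, zpow_mul, zpow_natCast, hx, one_zpow]
  obtain ⟨Q, hQ⟩ := hpg.exists_le_sylow
  obtain ⟨g, hg⟩ := MulAction.exists_smul_eq G Q P
  refine ⟨g, ?_⟩
  have h1 : x ∈ (Q : Subgroup G) := hQ (Subgroup.mem_zpowers x)
  have h2 : MulAut.conj g • x ∈ MulAut.conj g • (Q : Subgroup G) :=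
    Subgroup.smul_mem_pointwise_smul x (MulAut.conj g) (Q : Subgroup G) h1
  rw [← Sylow.coe_subgroup_smul, hg] at h2
  simpa [MulAut.smul_def] using h2

/-- If a Sylow `p`-subgroup is commutative, then so is every `p`-subgroup. -/
theorem fl_pgroup_comm {G : Type u} [Group G] [Finite G] {p : ℕ} [Fact p.Prime] (P : Sylow p G)
    (hPc : ∀ a ∈ (P : Subgroup G), ∀ b ∈ (P : Subgroup G), a * b = b * a)
    (T : Subgroup G) (hT : IsPGroup p T) : ∀ a ∈ T, ∀ b ∈ T, a * b = b * a := by
  obtain ⟨Q, hQ⟩ := hT.exists_le_sylow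
  obtain ⟨g, hg⟩ := MulAction.exists_smul_eq G Q P
  have key : ∀ a ∈ T, g * a * g⁻¹ ∈ (P : Subgroup G) := by
    intro a ha
    have h2 : MulAut.conj g • a ∈ MulAut.conj g • (Q : Subgroup G) :=
      Subgroup.smul_mem_pointwise_smul a (MulAut.conj g) (Q : Subgroup G) (hQ ha)
    rw [← Sylow.coe_subgroup_smul, hg] at h2
    simpa [MulAut.smul_def] using h2
  intro a ha b hb
  have h := hPc _ (key a ha) _ (key b hb)
  have h1 : g * (a * b) * g⁻¹ = g * (b * a) * g⁻¹ := by
    have e1 : g * (a * b) * g⁻¹ = g * a * g⁻¹ * (g * b * g⁻¹) := by group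
    have e2 : g * (b * a) * g⁻¹ = g * b * g⁻¹ * (g * a * g⁻¹) := by group
    rw [e1, e2, h]
  exact mul_left_cancel (mul_right_cancel h1)

end Cfsg.Agent.Lib.helper27
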