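import Mathlib
import Cfsg.Agent.Lib.helper27.FlavellB
import Cfsg.Agent.Lib.helper27.FlavellD

/-!
# Flavell's Theorem A: the class-sum counting for a cyclic Sylow subgroup

Generalisation of `FlavellB`: `x` has order `p`, the powers `x ^ t` (`t` a unit of `ZMod p`)
represent the elements of order `p`, and `s_χ = ∑_t χ(x^t)`.
-/

set_option autoImplicit false
set_option linter.unusedSectionVars false

open Cfsg
open scoped ComplexConjugate

namespace Cfsg.Agent.Lib.helper27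

universe u

variable {G : Type u} [Group G] [Fintype G] {p : ℕ} [Fact p.Prime] {M : Ideal AlgInt}

open Classical in
/-- `∑_{χ ∈ B₀(G)} |χ(w)|² = |C_G(w)|_p` when `C_G(w)` has a normal `p`-complement. -/
theorem flA_sigma (hM : IsPModular p M) (w : G) (hw : ∃ k : ℕ, orderOf w = p ^ k)
    (hidx : ∃ k : ℕ, (pPrimeCore p ↥(Subgroup.centralizer ({w} : Set G))).index = p ^ k) :
    ∑ χ : IrrCharacter G, (if χ ∈ principalBlock M G then
      (χ : G → ℂ) w * conj ((χ : G → ℂ) w) else 0)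
      = ((p ^ (Nat.card ↥(Subgroup.centralizer ({w} : Set G))).factorization p : ℕ) : ℂ) := by
  have hp : p.Prime := Fact.out
  have hCfin : Fintype ↥(Subgroup.centralizer ({w} : Set G)) := Fintype.ofFinite _
  have h1ne : ¬ p ∣ orderOf (1 : ↥(Subgroup.centralizer ({w} : Set G))) := by
    rw [orderOf_one, Nat.dvd_one]
    exact hp.one_lt.ne'
  have h1 := Cfsg.Agent.Lib.helper84.sum_principalBlock_section hM w hw
    (1 : ↥(Subgroup.centralizer ({w} : Set G))) h1ne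
  have h2 := Cfsg.Agent.Lib.helper84.sum_principalBlock_sq_of_pNilpotent hM hidx
    (1 : ↥(Subgroup.centralizer ({w} : Set G))) h1ne
  simp only [Subgroup.coe_one, mul_one] at h1
  rw [h1, h2]

open Classical in
/-- The function `Θ_w = ∑_{χ ∈ B₀} χ(w) χ` is `q` times the indicator of the elements whose
`p`-part is conjugate to `w`. -/
theorem flA_theta (hM : IsPModular p M) (w : G) (hw : ∃ k : ℕ, orderOf w = p ^ k)
    (hreg : ∀ v : G, Commute w v → ¬ p ∣ orderOf v → v ∈ centralizerPPrimeCore p w)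
    (q : ℕ)
    (hσ : ∑ χ : IrrCharacter G, (if χ ∈ principalBlock M G then
      (χ : G → ℂ) w * conj ((χ : G → ℂ) w) else 0) = (q : ℂ))
    (g y : G) (hy : IsPPart p g y) :
    ∑ χ : IrrCharacter G,
      (if χ ∈ principalBlock M G then (χ : G → ℂ) w * (χ : G → ℂ) g⁻¹ else 0)
      = if IsConj w y then (q : ℂ) else 0 := by
  have hp : p.Prime := Fact.out
  by_cases hc : IsConj w y
  · rw [if_pos hc, ← hσ]
    obtain ⟨c, hc'⟩ := isConj_iff.mp hc
    obtain ⟨y', hyy', hcomm, -, hy'⟩ := hy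
    set v := c⁻¹ * y' * c with hv
    have hvreg : ¬ p ∣ orderOf v := by
      have h1 : v = MulAut.conj c⁻¹ y' := by rw [hv, MulAut.conj_apply, inv_inv]
      rw [h1, MulEquiv.orderOf_eq]
      exact hy'
    have hcv : Commute w v := by
      show w * v = v * w
      have hcomm' : y * y' = y' * y := hcomm.eq
      rw [← hc'] at hcomm'
      calc w * v = c⁻¹ * (c * w * c⁻¹ * y') * c := by rw [hv]; group
        _ = c⁻¹ * (y' * (c * w * c⁻¹)) * c := by rw [hcomm']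
        _ = v * w := by rw [hv]; group
    have hg' : g = c * (w * v) * c⁻¹ := by
      rw [← hyy', ← hc', hv]; group
    refine Finset.sum_congr rfl fun χ _ => ?_
    by_cases hχ : χ ∈ principalBlock M G
    · rw [if_pos hχ, if_pos hχ, Cfsg.Agent.Lib.helper81.irr_inv χ g, hg',
        Cfsg.Agent.Lib.helper81.irr_classFun χ (w * v) c,
        Cfsg.Agent.S0942.result p M hM w hw v (hreg v hcv hvreg) χ hχ]
    · rw [if_neg hχ, if_neg hχ]
  · rw [if_neg hc]
    have h1 : IsPPart p w w :=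
      ⟨1, mul_one w, Commute.one_right w, hw, by
        rw [orderOf_one, Nat.dvd_one]; exact hp.one_lt.ne'⟩
    have h := Cfsg.Agent.Lib.helper20.sum_block_mul_inv_eq_zero hM w g w y h1 hy hc
      (principalBlock M G) Cfsg.Agent.Lib.helper81.isPBlock_principalBlock
    rw [fl_finsum_mem_eq_sum] at h
    exact h

/-- The class-sum count for two classes. -/
theorem flA_pair_sum (χ : IrrCharacter G) (a b : G) :
    (χ : G → ℂ) 1 * ∑ g : G, ∑ h : G, (χ : G → ℂ) (g * a * g⁻¹ * (h * b * h⁻¹))⁻¹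
      = (Nat.card G : ℂ) ^ 2 * (χ : G → ℂ) a⁻¹ * (χ : G → ℂ) b⁻¹ := by
  have hcf := Cfsg.Agent.Lib.helper81.irr_classFun χ
  have h1 : ∀ g : G,
      (χ : G → ℂ) 1 * ∑ h : G, (χ : G → ℂ) (g * a * g⁻¹ * (h * b * h⁻¹))⁻¹
        = (Nat.card G : ℂ) * (χ : G → ℂ) b⁻¹ * (χ : G → ℂ) a⁻¹ := by
    intro g
    have key := Cfsg.Agent.Lib.helper20.irr_sum_conj_mul (χ : G → ℂ) χ.2 b⁻¹ (g * a⁻¹ * g⁻¹)
    have e : ∀ h : G, (g * a * g⁻¹ * (h * b * h⁻¹))⁻¹ = h * b⁻¹ * h⁻¹ * (g * a⁻¹ * g⁻¹) := by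
      intro h; group
    simp_rw [e]
    rw [key, hcf a⁻¹ g]
  calc (χ : G → ℂ) 1 * ∑ g : G, ∑ h : G, (χ : G → ℂ) (g * a * g⁻¹ * (h * b * h⁻¹))⁻¹
      = ∑ g : G, (χ : G → ℂ) 1 * ∑ h : G, (χ : G → ℂ) (g * a * g⁻¹ * (h * b * h⁻¹))⁻¹ := by
        rw [Finset.mul_sum]
    _ = ∑ g : G, (Nat.card G : ℂ) * (χ : G → ℂ) b⁻¹ * (χ : G → ℂ) a⁻¹ :=
        Finset.sum_congr rfl (fun g _ => h1 g)
    _ = (Nat.card G : ℂ) ^ 2 * (χ : G → ℂ) a⁻¹ * (χ : G → ℂ) b⁻¹ := by
        rw [Finset.sum_const, Finset.card_univ, nsmul_eq_mul, ← Nat.card_eq_fintype_card]; ring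

theorem flA_pow_mul {x : G} (hx : orderOf x = p) (a b : ZMod p) :
    x ^ (a * b).val = (x ^ a.val) ^ b.val := by
  rw [ZMod.val_mul, ← pow_mul]
  have h := pow_mod_orderOf x (a.val * b.val)
  rw [hx] at h
  exact h

theorem flA_pow_neg {x : G} (hx : orderOf x = p) (a : ZMod p) :
    x ^ (-a).val = (x ^ a.val)⁻¹ := by
  rw [eq_inv_iff_mul_eq_one, ← pow_add]
  have h : ((-a).val + a.val) % p = 0 := by
    rw [← ZMod.val_add, neg_add_cancel, ZMod.val_zero]
  have h2 := pow_mod_orderOf x ((-a).val + a.val)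
  rw [hx, h, pow_zero] at h2
  exact h2.symm

theorem flA_orderOf_pow {x : G} (hx : orderOf x = p) (t : (ZMod p)ˣ) :
    orderOf (x ^ (t : ZMod p).val) = p := by
  have h : Nat.Coprime (orderOf x) (t : ZMod p).val := by
    rw [hx, Nat.coprime_comm]
    exact ZMod.val_coe_unit_coprime t
  rw [h.orderOf_pow, hx]

theorem flA_pow_ne_one {x : G} (hx : orderOf x = p) (t : (ZMod p)ˣ) :
    x ^ (t : ZMod p).val ≠ 1 := by
  have hp : p.Prime := Fact.out
  intro h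
  have h1 := flA_orderOf_pow hx t
  rw [h, orderOf_one] at h1
  exact hp.one_lt.ne' h1.symm

theorem flA_pow_one {x : G} : x ^ ((1 : (ZMod p)ˣ) : ZMod p).val = x := by
  rw [Units.val_one, ZMod.val_one, pow_one]

/-- All classes of powers of `x` contain the same number of powers. -/
theorem flA_class_card {x : G} (hx : orderOf x = p) (t' : (ZMod p)ˣ) :
    Nat.card {t : (ZMod p)ˣ // IsConj (x ^ (t : ZMod p).val) (x ^ (t' : ZMod p).val)}
      = Nat.card {t : (ZMod p)ˣ // IsConj (x ^ (t : ZMod p).val) x} := by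
  apply Nat.card_congr
  refine ⟨fun t => ⟨t.1 * t'⁻¹, ?_⟩, fun t => ⟨t.1 * t', ?_⟩, ?_, ?_⟩
  · have h := t.2.pow ((t'⁻¹ : (ZMod p)ˣ) : ZMod p).val
    rw [← flA_pow_mul hx, ← flA_pow_mul hx, ← Units.val_mul, ← Units.val_mul, mul_inv_cancel,
      flA_pow_one] at h
    exact h
  · have h := t.2.pow (t' : ZMod p).val
    rw [← flA_pow_mul hx, ← Units.val_mul] at h
    exact h
  · intro t
    apply Subtype.ext
    simp
  · intro t
    apply Subtype.ext
    simp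

open Classical in
theorem flA_card_filter_class {x : G} (hx : orderOf x = p) (t' : (ZMod p)ˣ) :
    (Finset.univ.filter (fun t : (ZMod p)ˣ =>
        IsConj (x ^ (t : ZMod p).val) (x ^ (t' : ZMod p).val))).card
      = Nat.card {t : (ZMod p)ˣ // IsConj (x ^ (t : ZMod p).val) x} := by
  rw [← flA_class_card hx t', Nat.card_eq_fintype_card, Fintype.card_subtype]

open Classical in
/-- `∑_{χ ∈ B} s_χ conj(s_χ) = q (p - 1) e`. -/
theorem flA_sq_sum (x : G) (hx : orderOf x = p) (q : ℕ) (B : Set (IrrCharacter G))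
    (hΘ : ∀ (t : (ZMod p)ˣ) (g y : G), IsPPart p g y →
      ∑ χ : IrrCharacter G,
        (if χ ∈ B then (χ : G → ℂ) (x ^ (t : ZMod p).val) * (χ : G → ℂ) g⁻¹ else 0)
        = if IsConj (x ^ (t : ZMod p).val) y then (q : ℂ) else 0) :
    ∑ χ : IrrCharacter G, (if χ ∈ B then
        (∑ t : (ZMod p)ˣ, (χ : G → ℂ) (x ^ (t : ZMod p).val)) *
          conj (∑ t : (ZMod p)ˣ, (χ : G → ℂ) (x ^ (t : ZMod p).val)) else 0)
      = (q : ℂ) * ((p : ℂ) - 1) *
        (Nat.card {t : (ZMod p)ˣ // IsConj (x ^ (t : ZMod p).val) x} : ℂ) := by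
  have hp : p.Prime := Fact.out
  have h1 : ∀ χ : IrrCharacter G, (if χ ∈ B then
        (∑ t : (ZMod p)ˣ, (χ : G → ℂ) (x ^ (t : ZMod p).val)) *
          conj (∑ t : (ZMod p)ˣ, (χ : G → ℂ) (x ^ (t : ZMod p).val)) else 0)
      = ∑ t : (ZMod p)ˣ, ∑ t' : (ZMod p)ˣ, (if χ ∈ B then
          (χ : G → ℂ) (x ^ (t : ZMod p).val) * (χ : G → ℂ) (x ^ (t' : ZMod p).val)⁻¹ else 0) := by
    intro χ
    by_cases hχ : χ ∈ B
    · simp only [if_pos hχ]
      rw [map_sum, Finset.sum_mul_sum]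
      refine Finset.sum_congr rfl fun t _ => Finset.sum_congr rfl fun t' _ => ?_
      rw [Cfsg.Agent.Lib.helper81.irr_inv]
    · simp only [if_neg hχ, Finset.sum_const_zero]
  simp_rw [h1]
  rw [Finset.sum_comm]
  have h2 : ∀ t : (ZMod p)ˣ, ∑ χ : IrrCharacter G, ∑ t' : (ZMod p)ˣ, (if χ ∈ B then
          (χ : G → ℂ) (x ^ (t : ZMod p).val) * (χ : G → ℂ) (x ^ (t' : ZMod p).val)⁻¹ else 0)
      = ∑ t' : (ZMod p)ˣ,
          (if IsConj (x ^ (t : ZMod p).val) (x ^ (t' : ZMod p).val) then (q : ℂ) else 0) := by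
    intro t
    rw [Finset.sum_comm]
    refine Finset.sum_congr rfl fun t' _ => ?_
    have hpp : IsPPart p (x ^ (t' : ZMod p).val) (x ^ (t' : ZMod p).val) :=
      ⟨1, mul_one _, Commute.one_right _, ⟨1, by rw [flA_orderOf_pow hx, pow_one]⟩, by
        rw [orderOf_one, Nat.dvd_one]; exact hp.one_lt.ne'⟩
    exact hΘ t _ _ hpp
  rw [Finset.sum_congr rfl (fun t _ => h2 t), Finset.sum_comm]
  have h3 : ∀ t' : (ZMod p)ˣ, ∑ t : (ZMod p)ˣ,
      (if IsConj (x ^ (t : ZMod p).val) (x ^ (t' : ZMod p).val) then (q : ℂ) else 0)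
      = (q : ℂ) * (Nat.card {t : (ZMod p)ˣ // IsConj (x ^ (t : ZMod p).val) x} : ℂ) := by
    intro t'
    rw [← Finset.sum_filter, Finset.sum_const, flA_card_filter_class hx t', nsmul_eq_mul]
    ring
  rw [Finset.sum_congr rfl (fun t' _ => h3 t'), Finset.sum_const, Finset.card_univ,
    ZMod.card_units, nsmul_eq_mul, Nat.cast_sub hp.one_lt.le]
  push_cast
  ring

theorem flA_pair_sum' (χ : IrrCharacter G) (f : (ZMod p)ˣ → G) (b : G) :
    (χ : G → ℂ) 1 * ∑ g : G, ∑ h : G, ∑ t : (ZMod p)ˣ,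
        (χ : G → ℂ) (g * f t * g⁻¹ * (h * b * h⁻¹))⁻¹
      = (Nat.card G : ℂ) ^ 2 * (∑ t : (ZMod p)ˣ, (χ : G → ℂ) (f t)⁻¹) * (χ : G → ℂ) b⁻¹ := by
  have h1 : ∑ g : G, ∑ h : G, ∑ t : (ZMod p)ˣ, (χ : G → ℂ) (g * f t * g⁻¹ * (h * b * h⁻¹))⁻¹
      = ∑ t : (ZMod p)ˣ, ∑ g : G, ∑ h : G, (χ : G → ℂ) (g * f t * g⁻¹ * (h * b * h⁻¹))⁻¹ := by
    calc ∑ g : G, ∑ h : G, ∑ t : (ZMod p)ˣ, (χ : G → ℂ) (g * f t * g⁻¹ * (h * b * h⁻¹))⁻¹
        = ∑ g : G, ∑ t : (ZMod p)ˣ, ∑ h : G, (χ : G → ℂ) (g * f t * g⁻¹ * (h * b * h⁻¹))⁻¹ :=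
          Finset.sum_congr rfl (fun g _ => Finset.sum_comm)
      _ = ∑ t : (ZMod p)ˣ, ∑ g : G, ∑ h : G, (χ : G → ℂ) (g * f t * g⁻¹ * (h * b * h⁻¹))⁻¹ :=
          Finset.sum_comm
  rw [h1, Finset.mul_sum, Finset.sum_congr rfl (fun t _ => flA_pair_sum χ (f t) b),
    ← Finset.sum_mul, ← Finset.mul_sum]

theorem flA_sum6_comm {α β γ δ ε ζ : Type*} [Fintype α] [Fintype β] [Fintype γ] [Fintype δ]
    [Fintype ε] [Fintype ζ] (F : α → β → γ → δ → ε → ζ → ℂ) :
    ∑ a, ∑ b, ∑ c, ∑ d, ∑ e, ∑ z, F a b c d e z = ∑ z, ∑ a, ∑ b, ∑ c, ∑ d, ∑ e, F a b c d e z := by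
  calc ∑ a, ∑ b, ∑ c, ∑ d, ∑ e, ∑ z, F a b c d e z
      = ∑ v : α × β × γ × δ × ε, ∑ z, F v.1 v.2.1 v.2.2.1 v.2.2.2.1 v.2.2.2.2 z := by
        simp only [Fintype.sum_prod_type]
    _ = ∑ z, ∑ v : α × β × γ × δ × ε, F v.1 v.2.1 v.2.2.1 v.2.2.2.1 v.2.2.2.2 z :=
        Finset.sum_comm
    _ = ∑ z, ∑ a, ∑ b, ∑ c, ∑ d, ∑ e, F a b c d e z := by
        simp only [Fintype.sum_prod_type]

/-- The product of a conjugate of `x ^ t` and a conjugate of `x ^ l`. -/
def flW (x : G) (l : (ZMod p)ˣ) (g h : G) (t : (ZMod p)ˣ) : G :=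
  g * x ^ (t : ZMod p).val * g⁻¹ * (h * x ^ (l : ZMod p).val * h⁻¹)

open Classical in
/-- `q e N' = |G|² ∑_{χ ∈ B} s_χ³ / χ(1)`, where `N' ≥ (p-1)(p-2)|G|²` counts the `p`-singular
products. -/
theorem flA_cube_sum (x : G) (hx : orderOf x = p) (q : ℕ) (B : Set (IrrCharacter G))
    (hΘ : ∀ (t : (ZMod p)ˣ) (g y : G), IsPPart p g y →
      ∑ χ : IrrCharacter G,
        (if χ ∈ B then (χ : G → ℂ) (x ^ (t : ZMod p).val) * (χ : G → ℂ) g⁻¹ else 0)
        = if IsConj (x ^ (t : ZMod p).val) y then (q : ℂ) else 0)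
    (hT : ∀ y : G, orderOf y = p →
      ∃ (g : G) (t : (ZMod p)ˣ), g * y * g⁻¹ = x ^ (t : ZMod p).val)
    (hcount : ∀ (g h : G) (l t t' : (ZMod p)ˣ), t ≠ t' →
      ¬ p ∣ orderOf (g * x ^ (t : ZMod p).val * g⁻¹ * (h * x ^ (l : ZMod p).val * h⁻¹)) →
      ¬ p ∣ orderOf (g * x ^ (t' : ZMod p).val * g⁻¹ * (h * x ^ (l : ZMod p).val * h⁻¹)) → False)
    (hpp : ∀ (g h : G) (l t : (ZMod p)ˣ),
      p ∣ orderOf (g * x ^ (t : ZMod p).val * g⁻¹ * (h * x ^ (l : ZMod p).val * h⁻¹)) →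
      ∃ y, IsPPart p (g * x ^ (t : ZMod p).val * g⁻¹ * (h * x ^ (l : ZMod p).val * h⁻¹)) y ∧
        orderOf y = p) :
    ∃ N' : ℕ, (p - 1) * (p - 2) * Nat.card G ^ 2 ≤ N' ∧
      (q : ℂ) * (Nat.card {t : (ZMod p)ˣ // IsConj (x ^ (t : ZMod p).val) x} : ℂ) * (N' : ℂ)
        = (Nat.card G : ℂ) ^ 2 * ∑ χ : IrrCharacter G, (if χ ∈ B then
            (∑ t : (ZMod p)ˣ, (χ : G → ℂ) (x ^ (t : ZMod p).val)) ^ 3 / (χ : G → ℂ) 1
            else 0) := by
  have hp : p.Prime := Fact.out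
  set e := Nat.card {t : (ZMod p)ˣ // IsConj (x ^ (t : ZMod p).val) x} with he
  refine ⟨∑ l : (ZMod p)ˣ, ∑ g : G, ∑ h : G, ∑ t : (ZMod p)ˣ,
    (if p ∣ orderOf (flW x l g h t) then 1 else 0), ?_, ?_⟩
  · -- lower bound
    have hin : ∀ (l : (ZMod p)ˣ) (g h : G),
        p - 2 ≤ ∑ t : (ZMod p)ˣ, (if p ∣ orderOf (flW x l g h t) then 1 else 0) := by
      intro l g h
      rw [← Finset.card_filter]
      have h1 := Finset.card_filter_add_card_filter_not
        (s := (Finset.univ : Finset (ZMod p)ˣ)) (fun t => p ∣ orderOf (flW x l g h t))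
      have h2 : (Finset.univ.filter
          (fun t : (ZMod p)ˣ => ¬ p ∣ orderOf (flW x l g h t))).card ≤ 1 := by
        rw [Finset.card_le_one]
        intro a ha b hb
        rw [Finset.mem_filter] at ha hb
        by_contra hab
        exact hcount g h l a b hab ha.2 hb.2
      rw [Finset.card_univ, ZMod.card_units] at h1
      omega
    calc (p - 1) * (p - 2) * Nat.card G ^ 2
        = ∑ l : (ZMod p)ˣ, ∑ g : G, ∑ h : G, (p - 2) := by
          simp only [Finset.sum_const, Finset.card_univ, smul_eq_mul, ZMod.card_units]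
          rw [← Nat.card_eq_fintype_card]
          ring
      _ ≤ _ := Finset.sum_le_sum fun l _ => Finset.sum_le_sum fun g _ =>
          Finset.sum_le_sum fun h _ => hin l g h
  · -- side A
    have hA : ∀ (l : (ZMod p)ˣ) (g h : G) (t : (ZMod p)ˣ),
        ∑ t'' : (ZMod p)ˣ, ∑ χ : IrrCharacter G, (if χ ∈ B then
          (χ : G → ℂ) (x ^ (t'' : ZMod p).val) * (χ : G → ℂ) (flW x l g h t)⁻¹ else 0)
        = if p ∣ orderOf (flW x l g h t) then (q : ℂ) * (e : ℂ) else 0 := by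
      intro l g h t
      by_cases hs : p ∣ orderOf (flW x l g h t)
      · rw [if_pos hs]
        obtain ⟨y, hy, hyo⟩ := hpp g h l t hs
        obtain ⟨g₀, t₀, hg₀⟩ := hT y hyo
        have hconj : IsConj y (x ^ (t₀ : ZMod p).val) := isConj_iff.mpr ⟨g₀, hg₀⟩
        have h1 : ∀ t'' : (ZMod p)ˣ, ∑ χ : IrrCharacter G, (if χ ∈ B then
            (χ : G → ℂ) (x ^ (t'' : ZMod p).val) * (χ : G → ℂ) (flW x l g h t)⁻¹ else 0)
            = if IsConj (x ^ (t'' : ZMod p).val) (x ^ (t₀ : ZMod p).val) then (q : ℂ) else 0 := by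
          intro t''
          have hΘ' := hΘ t'' (flW x l g h t) y hy
          rw [hΘ']
          have hiff : IsConj (x ^ (t'' : ZMod p).val) y ↔
              IsConj (x ^ (t'' : ZMod p).val) (x ^ (t₀ : ZMod p).val) :=
            ⟨fun h => h.trans hconj, fun h => h.trans hconj.symm⟩
          simp only [hiff]
        rw [Finset.sum_congr rfl (fun t'' _ => h1 t''), ← Finset.sum_filter, Finset.sum_const,
          flA_card_filter_class hx t₀, nsmul_eq_mul]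
        ring
      · rw [if_neg hs]
        have hy : IsPPart p (flW x l g h t) 1 :=
          ⟨flW x l g h t, one_mul _, Commute.one_left _, ⟨0, by rw [orderOf_one, pow_zero]⟩, hs⟩
        apply Finset.sum_eq_zero
        intro t'' _
        have hΘ' := hΘ t'' (flW x l g h t) 1 hy
        rw [hΘ', if_neg]
        rw [isConj_one_left]
        exact flA_pow_ne_one hx t''
    have hLHS : ∑ l : (ZMod p)ˣ, ∑ g : G, ∑ h : G, ∑ t : (ZMod p)ˣ,
        ∑ t'' : (ZMod p)ˣ, ∑ χ : IrrCharacter G, (if χ ∈ B then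
          (χ : G → ℂ) (x ^ (t'' : ZMod p).val) * (χ : G → ℂ) (flW x l g h t)⁻¹ else 0)
        = (q : ℂ) * (e : ℂ) * ((∑ l : (ZMod p)ˣ, ∑ g : G, ∑ h : G, ∑ t : (ZMod p)ˣ,
            (if p ∣ orderOf (flW x l g h t) then 1 else 0) : ℕ) : ℂ) := by
      simp_rw [hA]
      push_cast
      simp only [Finset.mul_sum]
      refine Finset.sum_congr rfl fun l _ => Finset.sum_congr rfl fun g _ =>
        Finset.sum_congr rfl fun h _ => Finset.sum_congr rfl fun t _ => ?_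
      split_ifs <;> simp
    rw [← hLHS]
    -- side B
    have hB : ∀ χ : IrrCharacter G,
        ∑ l : (ZMod p)ˣ, ∑ g : G, ∑ h : G, ∑ t : (ZMod p)ˣ,
        ∑ t'' : (ZMod p)ˣ, (if χ ∈ B then
          (χ : G → ℂ) (x ^ (t'' : ZMod p).val) * (χ : G → ℂ) (flW x l g h t)⁻¹ else 0)
        = (Nat.card G : ℂ) ^ 2 * (if χ ∈ B then
            (∑ t : (ZMod p)ˣ, (χ : G → ℂ) (x ^ (t : ZMod p).val)) ^ 3 / (χ : G → ℂ) 1
            else 0) := by
      intro χ
      by_cases hχ : χ ∈ B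
      · simp only [if_pos hχ]
        set s := ∑ t : (ZMod p)ˣ, (χ : G → ℂ) (x ^ (t : ZMod p).val) with hs
        have hs' : ∑ t : (ZMod p)ˣ, (χ : G → ℂ) (x ^ (t : ZMod p).val)⁻¹ = s := by
          rw [hs]
          apply Fintype.sum_equiv (Equiv.neg (ZMod p)ˣ)
          intro t
          simp only [Equiv.neg_apply, Units.val_neg]
          rw [flA_pow_neg hx]
        have h0 := Cfsg.Agent.Lib.helper81.irr_one_ne_zero χ
        have h1 : ∀ l : (ZMod p)ˣ, ∑ g : G, ∑ h : G, ∑ t : (ZMod p)ˣ,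
            ∑ t'' : (ZMod p)ˣ,
              (χ : G → ℂ) (x ^ (t'' : ZMod p).val) * (χ : G → ℂ) (flW x l g h t)⁻¹
            = (Nat.card G : ℂ) ^ 2 * s * s * (χ : G → ℂ) (x ^ (l : ZMod p).val)⁻¹
              / (χ : G → ℂ) 1 := by
          intro l
          have h2 := flA_pair_sum' χ (fun t : (ZMod p)ˣ => x ^ (t : ZMod p).val)
            (x ^ (l : ZMod p).val)
          rw [hs'] at h2
          have h3 : ∑ g : G, ∑ h : G, ∑ t : (ZMod p)ˣ,
              ∑ t'' : (ZMod p)ˣ,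
                (χ : G → ℂ) (x ^ (t'' : ZMod p).val) * (χ : G → ℂ) (flW x l g h t)⁻¹
              = s * ∑ g : G, ∑ h : G, ∑ t : (ZMod p)ˣ, (χ : G → ℂ) (flW x l g h t)⁻¹ := by
            simp only [Finset.mul_sum]
            refine Finset.sum_congr rfl fun g _ => Finset.sum_congr rfl fun h _ =>
              Finset.sum_congr rfl fun t _ => ?_
            rw [hs, Finset.sum_mul]
          have h4 : ∑ g : G, ∑ h : G, ∑ t : (ZMod p)ˣ, (χ : G → ℂ) (flW x l g h t)⁻¹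
              = (Nat.card G : ℂ) ^ 2 * s * (χ : G → ℂ) (x ^ (l : ZMod p).val)⁻¹
                / (χ : G → ℂ) 1 := by
            rw [eq_div_iff h0, mul_comm]
            exact h2
          rw [h3, h4]
          ring
        rw [Finset.sum_congr rfl (fun l _ => h1 l), ← Finset.sum_div, ← Finset.mul_sum, hs']
        ring
      · simp only [if_neg hχ, Finset.sum_const_zero, mul_zero]
    rw [flA_sum6_comm (fun (l : (ZMod p)ˣ) (g h : G) (t t'' : (ZMod p)ˣ) (χ : IrrCharacter G) =>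
      (if χ ∈ B then
          (χ : G → ℂ) (x ^ (t'' : ZMod p).val) * (χ : G → ℂ) (flW x l g h t)⁻¹ else 0)),
      Finset.sum_congr rfl (fun χ _ => hB χ), ← Finset.mul_sum]

end Cfsg.Agent.Lib.helper27
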