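import Mathlib
import Cfsg.Agent.Lib.helper27.FlavellA
import Cfsg.Agent.Lib.helper27.FlavellE
import Cfsg.Agent.Lib.helper4.PiPart

/-!
# Flavell's Theorem A: group-theoretic input for the counting, and restriction to `⟨x⟩`
-/

set_option autoImplicit false
set_option linter.unusedSectionVars false

open Cfsg
open scoped ComplexConjugate

namespace Cfsg.Agent.Lib.helper27

universe u

/-- In a finite `p`-solvable group with abelian Sylow `p`-subgroups which is generated by two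
elements of order `p`, the `p`-th power of every element is `p`-regular. -/
theorem fl_pow_regular_of_isPSolvable {H : Type*} [Group H] [Finite H] {p : ℕ} [Fact p.Prime]
    (hS : Cfsg.IsPSolvable p H)
    (hab : ∀ S : Sylow p H, ∀ a ∈ (S : Subgroup H), ∀ b ∈ (S : Subgroup H), a * b = b * a)
    (x y : H) (hx : orderOf x = p) (hy : orderOf y = p)
    (hgen : Subgroup.closure ({x, y} : Set H) = ⊤) (w : H) : ¬ p ∣ orderOf (w ^ p) := by
  have hp : p.Prime := Fact.out
  have hKn : (Cfsg.pPrimeCore p H).Normal := Cfsg.Agent.Lib.helper40.pPrimeCore_normal' p H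
  have hmem : ∀ u : H, orderOf u = p → u ∈ Cfsg.pPrimePCore p H := by
    intro u hu
    have hpg : IsPGroup p (Subgroup.zpowers u) := by
      apply IsPGroup.of_card (n := 1)
      rw [Nat.card_zpowers, hu, pow_one]
    obtain ⟨S, hS'⟩ := hpg.exists_le_sylow
    exact fl_sylow_le_pPrimePCore_of_abelian hS hab S (hS' (Subgroup.mem_zpowers u))
  have hLtop : Cfsg.pPrimePCore p H = ⊤ := by
    rw [eq_top_iff, ← hgen, Subgroup.closure_le]
    intro u hu
    rcases hu with rfl | rfl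
    · exact hmem _ hx
    · exact hmem _ hy
  -- the quotient is a `p`-group
  have hQp : ∀ a : H ⧸ Cfsg.pPrimeCore p H, a ∈ Cfsg.pCore p (H ⧸ Cfsg.pPrimeCore p H) := by
    intro a
    obtain ⟨h, rfl⟩ := QuotientGroup.mk'_surjective (Cfsg.pPrimeCore p H) a
    have : h ∈ Cfsg.pPrimePCore p H := by rw [hLtop]; exact Subgroup.mem_top h
    unfold Cfsg.pPrimePCore at this
    exact this
  have hQpg : IsPGroup p (⊤ : Subgroup (H ⧸ Cfsg.pPrimeCore p H)) := by
    have h1 := Cfsg.Agent.Lib.helper40.pCore_isPGroup p (H ⧸ Cfsg.pPrimeCore p H)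
    have h2 : Cfsg.pCore p (H ⧸ Cfsg.pPrimeCore p H) = ⊤ := by
      rw [eq_top_iff]; intro a _; exact hQp a
    rwa [h2] at h1
  -- the quotient is commutative
  obtain ⟨S⟩ : Nonempty (Sylow p H) := inferInstance
  have hStop : (S : Subgroup H).map (QuotientGroup.mk' (Cfsg.pPrimeCore p H)) = ⊤ := by
    have h1 := (S.mapSurjective (QuotientGroup.mk'_surjective (Cfsg.pPrimeCore p H))).is_maximal'
      hQpg le_top
    rw [Sylow.coe_mapSurjective] at h1
    exact h1.symm
  have hcommQ : ∀ a b : H ⧸ Cfsg.pPrimeCore p H, a * b = b * a := by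
    intro a b
    have ha : a ∈ (S : Subgroup H).map (QuotientGroup.mk' (Cfsg.pPrimeCore p H)) := by
      rw [hStop]; exact Subgroup.mem_top a
    have hb : b ∈ (S : Subgroup H).map (QuotientGroup.mk' (Cfsg.pPrimeCore p H)) := by
      rw [hStop]; exact Subgroup.mem_top b
    obtain ⟨s, hs, rfl⟩ := ha
    obtain ⟨s', hs', rfl⟩ := hb
    rw [← map_mul, ← map_mul, hab S s hs s' hs']
  -- every element of the quotient has `p`-th power `1`
  have hxp : x ^ p = 1 := by
    have := pow_orderOf_eq_one x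
    rwa [hx] at this
  have hyp : y ^ p = 1 := by
    have := pow_orderOf_eq_one y
    rwa [hy] at this
  have hpow : ∀ h : H, (QuotientGroup.mk' (Cfsg.pPrimeCore p H) h) ^ p = 1 := by
    intro h
    have hh : h ∈ Subgroup.closure ({x, y} : Set H) := by rw [hgen]; exact Subgroup.mem_top h
    induction hh using Subgroup.closure_induction with
    | mem u hu =>
      rcases hu with hu | hu
      · rw [hu, ← map_pow, hxp, map_one]
      · rw [Set.mem_singleton_iff] at hu
        rw [hu, ← map_pow, hyp, map_one]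
    | one => rw [map_one, one_pow]
    | mul a b _ _ iha ihb =>
      rw [map_mul, (show Commute _ _ from hcommQ _ _).mul_pow, iha, ihb, one_mul]
    | inv a _ iha => rw [map_inv, inv_pow, iha, inv_one]
  have hwK : w ^ p ∈ Cfsg.pPrimeCore p H := by
    rw [← QuotientGroup.eq_one_iff, ← QuotientGroup.mk'_apply, map_pow]
    exact hpow w
  have hcop := Cfsg.Agent.Lib.helper40.orderOf_coprime_of_mem_pPrimeCore hwK
  intro hdvd
  have := Nat.eq_one_of_dvd_coprimes hcop hdvd (dvd_refl p)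
  exact hp.one_lt.ne' this

/-- Consequences of the pair hypothesis for two elements of order `p`. -/
theorem flA_pair_facts {G : Type u} [Group G] [Finite G] {p : ℕ} [Fact p.Prime] (P : Sylow p G)
    (hPc : ∀ a ∈ (P : Subgroup G), ∀ b ∈ (P : Subgroup G), a * b = b * a)
    (hc : ∀ x y : G, orderOf x = p → orderOf y = p →
      IsPSolvable p ↥(Subgroup.closure ({x, y} : Set G)))
    (x₁ y₁ : G) (hx₁ : orderOf x₁ = p) (hy₁ : orderOf y₁ = p) :
    (∀ i j : ℕ, i < j → ¬ p ∣ (j - i) → ¬ p ∣ orderOf (x₁ ^ i * y₁) →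
      ¬ p ∣ orderOf (x₁ ^ j * y₁) → False) ∧
    (∀ i : ℕ, ¬ p ∣ orderOf ((x₁ ^ i * y₁) ^ p)) := by
  have hxH : x₁ ∈ Subgroup.closure ({x₁, y₁} : Set G) := Subgroup.subset_closure (by simp)
  have hyH : y₁ ∈ Subgroup.closure ({x₁, y₁} : Set G) := Subgroup.subset_closure (by simp)
  have hS := hc x₁ y₁ hx₁ hy₁
  have hab : ∀ S : Sylow p ↥(Subgroup.closure ({x₁, y₁} : Set G)),
      ∀ a ∈ (S : Subgroup ↥(Subgroup.closure ({x₁, y₁} : Set G))),
      ∀ b ∈ (S : Subgroup ↥(Subgroup.closure ({x₁, y₁} : Set G))), a * b = b * a := by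
    intro S a ha' b hb'
    have hT : IsPGroup p ((S : Subgroup ↥(Subgroup.closure ({x₁, y₁} : Set G))).map
        (Subgroup.closure ({x₁, y₁} : Set G)).subtype) := S.2.map _
    have h3 := fl_pgroup_comm P hPc _ hT (a : G)
      (Subgroup.mem_map_of_mem _ ha') (b : G) (Subgroup.mem_map_of_mem _ hb')
    exact Subtype.ext h3
  have hxo : orderOf (⟨x₁, hxH⟩ : ↥(Subgroup.closure ({x₁, y₁} : Set G))) = p := by
    rw [Subgroup.orderOf_mk, hx₁]
  have hyo : orderOf (⟨y₁, hyH⟩ : ↥(Subgroup.closure ({x₁, y₁} : Set G))) = p := by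
    rw [Subgroup.orderOf_mk, hy₁]
  have e : ∀ i : ℕ, ((⟨x₁, hxH⟩ : ↥(Subgroup.closure ({x₁, y₁} : Set G))) ^ i * ⟨y₁, hyH⟩)
      = ⟨x₁ ^ i * y₁, Subgroup.mul_mem _ (Subgroup.pow_mem _ hxH i) hyH⟩ := fun i => rfl
  refine ⟨?_, ?_⟩
  · intro i j hij hjp h1 h2
    refine not_both_pRegular_of_isPSolvable hS hab ⟨x₁, hxH⟩ ⟨y₁, hyH⟩ hxo hyo i j hij hjp ?_ ?_
    · rw [e, Subgroup.orderOf_mk]; exact h1
    · rw [e, Subgroup.orderOf_mk]; exact h2
  · intro i
    have hgen : Subgroup.closure ({(⟨x₁, hxH⟩ : ↥(Subgroup.closure ({x₁, y₁} : Set G))),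
        ⟨y₁, hyH⟩} : Set ↥(Subgroup.closure ({x₁, y₁} : Set G))) = ⊤ := by
      have h := Subgroup.closure_closure_coe_preimage (k := ({x₁, y₁} : Set G))
      have hset : ((↑) : ↥(Subgroup.closure ({x₁, y₁} : Set G)) → G) ⁻¹' ({x₁, y₁} : Set G)
          = {(⟨x₁, hxH⟩ : ↥(Subgroup.closure ({x₁, y₁} : Set G))), ⟨y₁, hyH⟩} := by
        ext u
        simp only [Set.mem_preimage, Set.mem_insert_iff, Set.mem_singleton_iff, Subtype.ext_iff]
      rw [hset] at h
      exact h
    have h := fl_pow_regular_of_isPSolvable hS hab ⟨x₁, hxH⟩ ⟨y₁, hyH⟩ hxo hyo hgen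
      (⟨x₁, hxH⟩ ^ i * ⟨y₁, hyH⟩)
    rw [e] at h
    have e2 : ((⟨x₁ ^ i * y₁, Subgroup.mul_mem _ (Subgroup.pow_mem _ hxH i) hyH⟩ :
        ↥(Subgroup.closure ({x₁, y₁} : Set G))) ^ p)
        = ⟨(x₁ ^ i * y₁) ^ p, Subgroup.pow_mem _
          (Subgroup.mul_mem _ (Subgroup.pow_mem _ hxH i) hyH) p⟩ := rfl
    rw [e2, Subgroup.orderOf_mk] at h
    exact h

/-- The pair hypothesis in the form needed by `flA_cube_sum`: at most one `p`-regular product. -/
theorem flA_hcount {G : Type u} [Group G] [Fintype G] {p : ℕ} [Fact p.Prime] (P : Sylow p G)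
    (hPc : ∀ a ∈ (P : Subgroup G), ∀ b ∈ (P : Subgroup G), a * b = b * a)
    (hc : ∀ x y : G, orderOf x = p → orderOf y = p →
      IsPSolvable p ↥(Subgroup.closure ({x, y} : Set G)))
    (x : G) (hx : orderOf x = p) (g h : G) (l t t' : (ZMod p)ˣ) (htt : t ≠ t')
    (h1 : ¬ p ∣ orderOf (g * x ^ (t : ZMod p).val * g⁻¹ * (h * x ^ (l : ZMod p).val * h⁻¹)))
    (h2 : ¬ p ∣ orderOf (g * x ^ (t' : ZMod p).val * g⁻¹ * (h * x ^ (l : ZMod p).val * h⁻¹))) :
    False := by
  have hp : p.Prime := Fact.out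
  have hxo : orderOf (g * x * g⁻¹) = p := by
    have e : g * x * g⁻¹ = MulAut.conj g x := by rw [MulAut.conj_apply]
    rw [e, MulEquiv.orderOf_eq, hx]
  have hyo : orderOf (h * x ^ (l : ZMod p).val * h⁻¹) = p := by
    have e : h * x ^ (l : ZMod p).val * h⁻¹ = MulAut.conj h (x ^ (l : ZMod p).val) := by
      rw [MulAut.conj_apply]
    rw [e, MulEquiv.orderOf_eq, flA_orderOf_pow hx]
  have hfacts := (flA_pair_facts P hPc hc _ _ hxo hyo).1
  have hxi : ∀ n : ℕ, g * x ^ n * g⁻¹ = (g * x * g⁻¹) ^ n := fun n => by rw [conj_pow]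
  rw [hxi] at h1 h2
  have hne : (t : ZMod p).val ≠ (t' : ZMod p).val := by
    intro h
    exact htt (Units.ext (ZMod.val_injective p h))
  have hlt1 := ZMod.val_lt (t : ZMod p)
  have hlt2 := ZMod.val_lt (t' : ZMod p)
  rcases lt_or_gt_of_ne hne with hlt | hlt
  · refine hfacts _ _ hlt ?_ h1 h2
    intro hd
    have := Nat.le_of_dvd (by omega) hd
    omega
  · refine hfacts _ _ hlt ?_ h2 h1
    intro hd
    have := Nat.le_of_dvd (by omega) hd
    omega

/-- The pair hypothesis in the form needed by `flA_cube_sum`: `p`-singular products have a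
`p`-part of order `p`. -/
theorem flA_hpp {G : Type u} [Group G] [Fintype G] {p : ℕ} [Fact p.Prime] (P : Sylow p G)
    (hPc : ∀ a ∈ (P : Subgroup G), ∀ b ∈ (P : Subgroup G), a * b = b * a)
    (hc : ∀ x y : G, orderOf x = p → orderOf y = p →
      IsPSolvable p ↥(Subgroup.closure ({x, y} : Set G)))
    (x : G) (hx : orderOf x = p) (g h : G) (l t : (ZMod p)ˣ)
    (hs : p ∣ orderOf (g * x ^ (t : ZMod p).val * g⁻¹ * (h * x ^ (l : ZMod p).val * h⁻¹))) :
    ∃ y, IsPPart p (g * x ^ (t : ZMod p).val * g⁻¹ * (h * x ^ (l : ZMod p).val * h⁻¹)) y ∧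
      orderOf y = p := by
  have hp : p.Prime := Fact.out
  have hxo : orderOf (g * x * g⁻¹) = p := by
    have e : g * x * g⁻¹ = MulAut.conj g x := by rw [MulAut.conj_apply]
    rw [e, MulEquiv.orderOf_eq, hx]
  have hyo : orderOf (h * x ^ (l : ZMod p).val * h⁻¹) = p := by
    have e : h * x ^ (l : ZMod p).val * h⁻¹ = MulAut.conj h (x ^ (l : ZMod p).val) := by
      rw [MulAut.conj_apply]
    rw [e, MulEquiv.orderOf_eq, flA_orderOf_pow hx]
  have hreg := (flA_pair_facts P hPc hc _ _ hxo hyo).2 (t : ZMod p).val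
  have hxi : (g * x * g⁻¹) ^ (t : ZMod p).val = g * x ^ (t : ZMod p).val * g⁻¹ := conj_pow
  rw [hxi] at hreg
  set W := g * x ^ (t : ZMod p).val * g⁻¹ * (h * x ^ (l : ZMod p).val * h⁻¹) with hW
  obtain ⟨a, b, k, n, hWab, hcomm, ha1, hak, hbn, hn0, hncop⟩ :=
    Cfsg.Agent.Lib.helper20.exists_pPart_split hp W hs
  have hbreg : ¬ p ∣ orderOf b := by
    intro hd
    have h1 : orderOf b ∣ n := orderOf_dvd_of_pow_eq_one hbn
    have h3 : p ∣ Nat.gcd n p := Nat.dvd_gcd (hd.trans h1) dvd_rfl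
    rw [hncop] at h3
    exact hp.one_lt.ne' (Nat.dvd_one.mp h3)
  have hcab : Commute a b := hcomm
  have hap : a ^ p = 1 := by
    have h1 : W ^ p = a ^ p * b ^ p := by rw [hWab, hcab.mul_pow]
    have h2 : a ^ p = W ^ p * (b ^ p)⁻¹ := by rw [h1, mul_inv_cancel_right]
    have hcW : Commute (W ^ p) ((b ^ p)⁻¹) := by
      have : Commute W b := by rw [hWab]; exact (hcab.mul_left (Commute.refl b))
      exact (this.pow_pow p p).inv_right
    have h3 := hcW.orderOf_mul_dvd_lcm
    rw [← h2, orderOf_inv] at h3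
    have h4 : orderOf (a ^ p) ∣ p ^ k := by
      apply orderOf_dvd_of_pow_eq_one
      rw [← pow_mul, mul_comm, pow_mul, hak, one_pow]
    obtain ⟨j, -, hj⟩ := (Nat.dvd_prime_pow hp).mp h4
    rcases Nat.eq_zero_or_pos j with hj0 | hjpos
    · rw [hj0, pow_zero, orderOf_eq_one_iff] at hj
      exact hj
    · exfalso
      have h5 : p ∣ orderOf (a ^ p) := by rw [hj]; exact dvd_pow_self p hjpos.ne'
      have h6 : p ∣ Nat.lcm (orderOf (W ^ p)) (orderOf (b ^ p)) := h5.trans h3
      have h7 : p ∣ orderOf (W ^ p) * orderOf (b ^ p) := h6.trans (Nat.lcm_dvd_mul _ _)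
      rcases (Nat.Prime.dvd_mul hp).mp h7 with h8 | h8
      · exact hreg h8
      · exact hbreg (h8.trans (orderOf_pow_dvd p))
  have hao : orderOf a = p := orderOf_eq_prime hap ha1
  exact ⟨a, ⟨b, hWab.symm, hcab, ⟨1, by rw [hao, pow_one]⟩, hbreg⟩, hao⟩

/-- A nonprincipal irreducible character of a simple group is faithful. -/
theorem flA_faithful {G : Type u} [Group G] [Fintype G] [IsSimpleGroup G] (χ : IrrCharacter G)
    (hχ : χ ≠ Cfsg.Agent.Lib.helper81.trivChar G) (x : G) (hx1 : x ≠ 1) :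
    (χ : G → ℂ) x ≠ (χ : G → ℂ) 1 := by
  intro hx
  apply hχ
  obtain ⟨K, hKn, hK⟩ := Cfsg.Agent.Lib.helper4.exists_normal_ker_of_isCharacter
    (Cfsg.Agent.Lib.helper81.irr_isCharacter χ)
  have hxK : x ∈ K := by rw [hK]; exact hx
  have hKtop : K = ⊤ := by
    rcases hKn.eq_bot_or_eq_top with h | h
    · rw [h, Subgroup.mem_bot] at hxK
      exact absurd hxK hx1
    · exact h
  set d := charDegree (χ : G → ℂ) with hd
  have hd1 : (χ : G → ℂ) 1 = (d : ℂ) := Cfsg.Agent.Lib.helper81.irr_one_eq_charDegree χ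
  have hall : ∀ g : G, (χ : G → ℂ) g = (d : ℂ) := by
    intro g
    rw [← hd1, ← hK, hKtop]
    exact Subgroup.mem_top g
  have hin := Cfsg.Agent.Lib.helper81.irr_classInner_self χ
  unfold classInner at hin
  simp_rw [hall] at hin
  have hG0 : (Nat.card G : ℂ) ≠ 0 := by exact_mod_cast Nat.card_pos.ne'
  rw [Finset.sum_const, Finset.card_univ, nsmul_eq_mul, ← Nat.card_eq_fintype_card,
    map_natCast, inv_mul_cancel_left₀ hG0] at hin
  have hdd : d * d = 1 := by exact_mod_cast hin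
  have hd1' : d = 1 := Nat.eq_one_of_mul_eq_one_left hdd
  apply Subtype.ext
  funext g
  rw [hall g, hd1']
  simp

/-- Restriction of an irreducible character to `⟨x⟩`, `x` of order `p`: the sum of the values on
the nontrivial powers is `p f - χ(1)` where `f ≤ χ(1)` is the multiplicity of the trivial
character. -/
theorem flA_zlevel {G : Type u} [Group G] [Fintype G] {p : ℕ} [Fact p.Prime] (x : G)
    (hx : orderOf x = p) (χ : IrrCharacter G) :
    ∃ f : ℕ, f ≤ charDegree (χ : G → ℂ) ∧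
      ∑ t : (ZMod p)ˣ, (χ : G → ℂ) (x ^ (t : ZMod p).val)
        = (p : ℂ) * (f : ℂ) - (charDegree (χ : G → ℂ) : ℂ) ∧
      (f = charDegree (χ : G → ℂ) → (χ : G → ℂ) x = (χ : G → ℂ) 1) := by
  classical
  have hp : p.Prime := Fact.out
  obtain ⟨n, ρ, hρ, hχe⟩ := χ.2
  set Z := Subgroup.zpowers x with hZ
  have hZfin : Fintype ↥Z := Fintype.ofFinite _
  let ρZ : Representation ℂ ↥Z (Fin n → ℂ) := ρ.comp Z.subtype
  have hZcard : Nat.card ↥Z = p := by rw [hZ, Nat.card_zpowers, hx]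
  have hZne : (Nat.card ↥Z : ℂ) ≠ 0 := by rw [hZcard]; exact_mod_cast hp.pos.ne'
  have hinv : Invertible (Nat.card ↥Z : ℂ) := invertibleOfNonzero hZne
  have havg := Representation.card_inv_mul_sum_char_eq_finrank ρZ
  set f := Module.finrank ℂ ↥(Representation.invariants ρZ) with hf
  have hchar : ∀ u : ↥Z, ρZ.character u = (χ : G → ℂ) (u : G) := by
    intro u; rw [← hχe]; rfl
  have hmemZ : ∀ a : ZMod p, x ^ a.val ∈ Z :=
    fun a => Subgroup.pow_mem _ (Subgroup.mem_zpowers x) _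
  let φ : ZMod p → ↥Z := fun a => ⟨x ^ a.val, hmemZ a⟩
  have hφinj : Function.Injective φ := by
    intro a b hab
    have h1 : x ^ a.val = x ^ b.val := congrArg Subtype.val hab
    rw [pow_inj_mod, hx, Nat.mod_eq_of_lt (ZMod.val_lt a), Nat.mod_eq_of_lt (ZMod.val_lt b)] at h1
    exact ZMod.val_injective p h1
  have hφbij : Function.Bijective φ := by
    rw [Fintype.bijective_iff_injective_and_card]
    refine ⟨hφinj, ?_⟩
    rw [ZMod.card, ← Nat.card_eq_fintype_card, hZcard]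
  have hsum1 : ∑ u : ↥Z, (χ : G → ℂ) (u : G) = ∑ a : ZMod p, (χ : G → ℂ) (x ^ a.val) := by
    symm
    exact Fintype.sum_bijective φ hφbij _ _ (fun a => rfl)
  have hsum2 : ∑ a : ZMod p, (χ : G → ℂ) (x ^ a.val)
      = (χ : G → ℂ) 1 + ∑ t : (ZMod p)ˣ, (χ : G → ℂ) (x ^ (t : ZMod p).val) := by
    rw [← Finset.add_sum_erase Finset.univ _ (Finset.mem_univ (0 : ZMod p)), ZMod.val_zero,
      pow_zero]
    congr 1
    symm
    apply Finset.sum_bij (fun (t : (ZMod p)ˣ) _ => (t : ZMod p))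
    · intro t _; simp
    · intro t _ t' _ h; exact Units.ext h
    · intro a ha
      rw [Finset.mem_erase] at ha
      exact ⟨Units.mk0 a ha.1, Finset.mem_univ _, rfl⟩
    · intro t _; rfl
  set d := charDegree (χ : G → ℂ) with hd
  have hd1 : (χ : G → ℂ) 1 = (d : ℂ) := Cfsg.Agent.Lib.helper81.irr_one_eq_charDegree χ
  have hdn : d = n := by
    have h1 : (χ : G → ℂ) 1 = (n : ℂ) := by
      rw [← hχe, Representation.char_one]
      simp
    have : (d : ℂ) = (n : ℂ) := by rw [← hd1, h1]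
    exact_mod_cast this
  have hfn : f ≤ n := by
    have h := Submodule.finrank_le (Representation.invariants ρZ)
    rwa [Module.finrank_fin_fun] at h
  refine ⟨f, hdn ▸ hfn, ?_, ?_⟩
  · have h1 : ∑ u : ↥Z, ρZ.character u = (p : ℂ) * (f : ℂ) := by
      rw [← havg, hZcard]
      have hp0 : (p : ℂ) ≠ 0 := by exact_mod_cast hp.pos.ne'
      field_simp
    simp_rw [hchar] at h1
    rw [hsum1, hsum2, hd1] at h1
    linear_combination h1
  · intro hfd
    have htop : Representation.invariants ρZ = ⊤ := by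
      apply Submodule.eq_top_of_finrank_eq
      rw [Module.finrank_fin_fun, ← hf, hfd, hdn]
    have hρx : ρ x = ρ 1 := by
      apply LinearMap.ext
      intro v
      have hv : v ∈ Representation.invariants ρZ := by rw [htop]; exact Submodule.mem_top
      have := (Representation.mem_invariants ρZ v).mp hv ⟨x, Subgroup.mem_zpowers x⟩
      rw [map_one]
      exact this
    rw [← hχe]
    show LinearMap.trace ℂ _ (ρ x) = LinearMap.trace ℂ _ (ρ 1)
    rw [hρx]

end Cfsg.Agent.Lib.helper27
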