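import Mathlib

/-!
# Flavell's Theorem A: arithmetic lemmas

Pure inequalities used in the final contradiction for cyclic Sylow `p`-subgroups.
-/

set_option autoImplicit false

namespace Cfsg.Agent.Lib.helper27

/-- Two distinct terms of a sum of nonnegative integers. -/
theorem flA_two_le_sum {X : Type*} [Fintype X] (f : X → ℤ) (hf : ∀ x, 0 ≤ f x) (a b : X)
    (hab : a ≠ b) : f a + f b ≤ ∑ x, f x := by
  classical
  calc f a + f b = ∑ x ∈ ({a, b} : Finset X), f x := (Finset.sum_pair hab).symm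
    _ ≤ ∑ x, f x :=
      Finset.sum_le_sum_of_subset_of_nonneg (Finset.subset_univ _) (fun x _ _ => hf x)

/-- The cubic sum is bounded through the square sum once `s / d ≤ ρ` off the base point. -/
theorem flA_ineq {X : Type*} [Fintype X] (B : Set X) [DecidablePred (· ∈ B)]
    (s : X → ℤ) (d : X → ℕ) (x₁ : X) (hx₁ : x₁ ∈ B) (hd : ∀ χ, 0 < d χ) (A W : ℤ) (ρ : ℝ)
    (hρ0 : 0 ≤ ρ) (hs1 : s x₁ = A) (hd1 : d x₁ = 1)
    (hsq : ∑ χ, (if χ ∈ B then s χ ^ 2 else 0) = W)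
    (hρ : ∀ χ ∈ B, χ ≠ x₁ → 0 < s χ → (s χ : ℝ) ≤ ρ * (d χ : ℝ)) :
    ∑ χ, (if χ ∈ B then (s χ : ℝ) ^ 3 / (d χ : ℝ) else 0)
      ≤ (A : ℝ) ^ 3 + ρ * ((W : ℝ) - (A : ℝ) ^ 2) := by
  classical
  have hW : (W : ℝ) = ∑ χ, (if χ ∈ B then (s χ : ℝ) ^ 2 else 0) := by
    rw [← hsq, Int.cast_sum]
    refine Finset.sum_congr rfl (fun χ _ => ?_)
    split_ifs <;> simp
  have hterm : ∀ χ, (if χ ∈ B then (s χ : ℝ) ^ 3 / (d χ : ℝ) else 0)
      ≤ (if χ = x₁ then (A : ℝ) ^ 3 - ρ * (A : ℝ) ^ 2 else 0)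
        + ρ * (if χ ∈ B then (s χ : ℝ) ^ 2 else 0) := by
    intro χ
    by_cases hχ : χ = x₁
    · rw [hχ, if_pos hx₁, if_pos rfl, if_pos hx₁, hd1, hs1]
      simp
    · rw [if_neg hχ, zero_add]
      by_cases hB : χ ∈ B
      · rw [if_pos hB, if_pos hB]
        have hdpos : (0 : ℝ) < (d χ : ℝ) := by exact_mod_cast hd χ
        rcases le_or_gt (s χ) 0 with h0 | h0
        · have h1 : (s χ : ℝ) ≤ 0 := by exact_mod_cast h0
          have h2 : (s χ : ℝ) ^ 3 ≤ 0 := by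
            have e1 : (s χ : ℝ) ^ 3 = (s χ : ℝ) ^ 2 * (s χ : ℝ) := by ring
            rw [e1]
            exact mul_nonpos_of_nonneg_of_nonpos (sq_nonneg _) h1
          have h3 : (s χ : ℝ) ^ 3 / (d χ : ℝ) ≤ 0 := div_nonpos_of_nonpos_of_nonneg h2 hdpos.le
          have h4 : 0 ≤ ρ * (s χ : ℝ) ^ 2 := mul_nonneg hρ0 (sq_nonneg _)
          linarith
        · have h1 := hρ χ hB hχ h0
          rw [div_le_iff₀ hdpos]
          have h2 : (0 : ℝ) ≤ (s χ : ℝ) ^ 2 := sq_nonneg _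
          have h3 : (s χ : ℝ) ^ 2 * (s χ : ℝ) ≤ (s χ : ℝ) ^ 2 * (ρ * (d χ : ℝ)) :=
            mul_le_mul_of_nonneg_left h1 h2
          calc (s χ : ℝ) ^ 3 = (s χ : ℝ) ^ 2 * (s χ : ℝ) := by ring
            _ ≤ (s χ : ℝ) ^ 2 * (ρ * (d χ : ℝ)) := h3
            _ = ρ * (s χ : ℝ) ^ 2 * (d χ : ℝ) := by ring
      · rw [if_neg hB, if_neg hB]
        simp
  have hone : ∑ χ, (if χ = x₁ then (A : ℝ) ^ 3 - ρ * (A : ℝ) ^ 2 else 0)
      = (A : ℝ) ^ 3 - ρ * (A : ℝ) ^ 2 := by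
    simp
  calc ∑ χ, (if χ ∈ B then (s χ : ℝ) ^ 3 / (d χ : ℝ) else 0)
      ≤ ∑ χ, ((if χ = x₁ then (A : ℝ) ^ 3 - ρ * (A : ℝ) ^ 2 else 0)
        + ρ * (if χ ∈ B then (s χ : ℝ) ^ 2 else 0)) := Finset.sum_le_sum (fun χ _ => hterm χ)
    _ = (A : ℝ) ^ 3 + ρ * ((W : ℝ) - (A : ℝ) ^ 2) := by
        rw [Finset.sum_add_distrib, hone, ← Finset.mul_sum, ← hW]
        ring

/-- The final numeric inequality when `|P| = p`. -/
theorem flA_num_p (P E : ℝ) (hE : 2 ≤ E) (hP : 2 * E + 1 ≤ P) :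
    (P - 1) ^ 3 + ((P - 1) * (E - 1) / E) * (P * (P - 1) * E - (P - 1) ^ 2)
      < P * E * ((P - 1) * (P - 2)) := by
  have hE0 : 0 < E := by linarith
  have h1 : 1 ≤ (E - 1) * (P - 3 - (E - 1)) := by
    nlinarith [mul_nonneg (show (0 : ℝ) ≤ E - 1 - 1 by linarith)
      (show (0 : ℝ) ≤ P - 3 - (E - 1) - 1 by linarith)]
  have h2 : P ≤ P * ((E - 1) * (P - 3 - (E - 1))) :=
    le_mul_of_one_le_right (by linarith) h1
  have h3 : 0 < (P - 1) * (P * ((E - 1) * (P - 3 - (E - 1))) - 1) :=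
    mul_pos (by linarith) (by linarith)
  have key : E * ((P - 1) ^ 3 + ((P - 1) * (E - 1) / E) * (P * (P - 1) * E - (P - 1) ^ 2))
      < E * (P * E * ((P - 1) * (P - 2))) := by
    have e1 : E * ((P - 1) ^ 3 + ((P - 1) * (E - 1) / E) * (P * (P - 1) * E - (P - 1) ^ 2))
        = E * (P - 1) ^ 3 + (P - 1) * (E - 1) * (P * (P - 1) * E - (P - 1) ^ 2) := by
      field_simp
    have e2 : E * (P * E * ((P - 1) * (P - 2)))
        - (E * (P - 1) ^ 3 + (P - 1) * (E - 1) * (P * (P - 1) * E - (P - 1) ^ 2))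
        = (P - 1) * (P * ((E - 1) * (P - 3 - (E - 1))) - 1) := by
      ring
    rw [e1]
    linarith
  exact lt_of_mul_lt_mul_left key hE0.le

/-- The final numeric inequality when `|P| ≥ p²`. -/
theorem flA_num_q (P E Q : ℝ) (hE : 2 ≤ E) (hEP : E ≤ P - 1) (hP : 3 ≤ P) (hQ : P ^ 2 ≤ Q) :
    (P - 1) ^ 3 + ((P - 1) * E / Q) * (Q * (P - 1) * E - (P - 1) ^ 2)
      < Q * E * ((P - 1) * (P - 2)) := by
  have hQ0 : 0 < Q := by nlinarith
  have e1 : ((P - 1) * E / Q) * (Q * (P - 1) * E - (P - 1) ^ 2)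
      = (P - 1) ^ 2 * E ^ 2 - (P - 1) ^ 3 * E / Q := by
    field_simp
  have h0 : 0 < (P - 1) ^ 3 * E / Q :=
    div_pos (mul_pos (pow_pos (by linarith) 3) (by linarith)) hQ0
  have ha : P ^ 2 * (E * (P - 2)) ≤ Q * (E * (P - 2)) :=
    mul_le_mul_of_nonneg_right hQ (mul_nonneg (by linarith) (by linarith))
  have hb : (P - 1) * E * E ≤ (P - 1) * E * (P - 1) :=
    mul_le_mul_of_nonneg_left hEP (mul_nonneg (by linarith) (by linarith))
  have c1 : 2 * P ^ 2 * (P - 2) - 3 * (P - 1) ^ 2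
      = 6 + 18 * (P - 3) + 11 * (P - 3) ^ 2 + 2 * (P - 3) ^ 3 := by ring
  have c2 : 0 ≤ 2 * P ^ 2 * (P - 2) - 3 * (P - 1) ^ 2 := by
    rw [c1]
    have := pow_nonneg (show (0 : ℝ) ≤ P - 3 by linarith) 3
    have := sq_nonneg (P - 3)
    linarith
  have c3 : 0 ≤ P ^ 2 * (P - 2) - (P - 1) ^ 2 := by
    nlinarith [mul_nonneg (sq_nonneg P) (show (0 : ℝ) ≤ P - 3 by linarith)]
  have c4 : 2 * (P ^ 2 * (P - 2) - (P - 1) ^ 2) ≤ E * (P ^ 2 * (P - 2) - (P - 1) ^ 2) :=
    mul_le_mul_of_nonneg_right hE c3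
  have main : (P - 1) ^ 2 + (P - 1) * E ^ 2 ≤ Q * E * (P - 2) := by
    linarith
  have fin := mul_le_mul_of_nonneg_left main (show (0 : ℝ) ≤ P - 1 by linarith)
  rw [e1]
  linarith

/-- The bound on `s / d` when `|P| = p`. -/
theorem flA_rho_p (p e : ℕ) (hp : 2 ≤ p) (he2 : 2 ≤ e) (s : ℤ) (d f : ℕ)
    (hs : s = (p : ℤ) * f - d) (hfd : f < d) (hs0 : 0 < s)
    (hsq : s ^ 2 + ((p : ℤ) - 1) ^ 2 ≤ (p : ℤ) * ((p : ℤ) - 1) * e) :
    (s : ℝ) ≤ (((p : ℝ) - 1) * ((e : ℝ) - 1) / (e : ℝ)) * (d : ℝ) := by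
  have hp' : (2 : ℤ) ≤ (p : ℤ) := by exact_mod_cast hp
  have he' : (2 : ℤ) ≤ (e : ℤ) := by exact_mod_cast he2
  have hfd' : (f : ℤ) + 1 ≤ (d : ℤ) := by exact_mod_cast hfd
  have h1 : s + p ≤ ((p : ℤ) - 1) * d := by
    rw [hs]
    nlinarith [mul_nonneg (show (0 : ℤ) ≤ p by linarith) (show (0 : ℤ) ≤ (d : ℤ) - f - 1 by linarith)]
  have h2 : s ≤ (p : ℤ) * ((e : ℤ) - 1) := by
    by_contra hcon
    push_neg at hcon
    obtain ⟨a, ha⟩ : ∃ a : ℤ, a = (p : ℤ) * ((e : ℤ) - 1) + 1 := ⟨_, rfl⟩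
    have h3 : a ≤ s := by rw [ha]; linarith
    have ha2 : (p : ℤ) ≤ a := by
      rw [ha]
      nlinarith [mul_nonneg (show (0 : ℤ) ≤ p by linarith) (show (0 : ℤ) ≤ (e : ℤ) - 2 by linarith)]
    have ha0 : 0 ≤ a := by linarith
    have h4 : a ^ 2 ≤ s ^ 2 := pow_le_pow_left₀ ha0 h3 2
    have h5 : (p : ℤ) * ((p : ℤ) - 1) * e - ((p : ℤ) - 1) ^ 2 = ((p : ℤ) - 1) * a := by
      rw [ha]; ring
    have h6 : (p : ℤ) * a ≤ a * a := mul_le_mul_of_nonneg_right ha2 ha0
    nlinarith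
  have h5 : (e : ℤ) * s ≤ ((p : ℤ) - 1) * ((e : ℤ) - 1) * d := by
    have := mul_le_mul_of_nonneg_left h1 (show (0 : ℤ) ≤ (e : ℤ) - 1 by linarith)
    nlinarith
  have hE0 : (0 : ℝ) < (e : ℝ) := by
    have : 0 < e := by omega
    exact_mod_cast this
  rw [div_mul_eq_mul_div, le_div_iff₀ hE0]
  have h7 : ((e : ℝ) * (s : ℝ)) ≤ ((p : ℝ) - 1) * ((e : ℝ) - 1) * (d : ℝ) := by
    exact_mod_cast h5
  linarith

/-- The sum of an indicator of a class. -/
theorem flA_sum_ind {ι : Type*} [Fintype ι] (r : ι → ι → Prop) (i₀ : ι) (a : ℤ)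
    [DecidablePred (fun i => r i i₀)] :
    ∑ i, (if r i i₀ then a else 0) = (Nat.card {j : ι // r j i₀} : ℤ) * a := by
  rw [Finset.sum_ite, Finset.sum_const, Finset.sum_const_zero, add_zero, nsmul_eq_mul,
    Nat.card_eq_fintype_card, Fintype.card_subtype]

/-- The bound on `s / d` when `|P| ≥ p²`, from the structure of the rows of the
generalized decomposition matrix. -/
theorem flA_rho_q {ι : Type*} [Fintype ι] (r : ι → ι → Prop) (hr : Equivalence r) (p e q : ℕ)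
    (hp3 : 3 ≤ p) (he2 : 2 ≤ e) (hep : e ≤ p - 1) (hq : p ^ 2 ≤ q)
    (hcard : Fintype.card ι + 1 = q)
    (hcls : ∀ i, Nat.card {j : ι // r i j} = e)
    (c : ι → ℤ) (hc : ∀ i, c i = (p : ℤ) - 1 ∨ c i = -1) (hcr : ∀ i j, r i j → c i = c j)
    (hcsum : ∑ i, c i = -((p : ℤ) - 1))
    (m : ι → ℤ) (k d : ℕ) (s : ℤ)
    (hk : ∀ i, 0 ≤ (k : ℤ) + m i)
    (hd : (d : ℤ) = q * k + ∑ i, m i)
    (hs : s = ∑ i, c i * m i) (hs0 : 0 < s)
    (hnorm : ∀ i, m i ^ 2 ≤ e)
    (hstruct : (∀ i j, m i = m j) ∨ ∃ (i₀ : ι) (ε : ℤ), (ε = 1 ∨ ε = -1) ∧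
      (∀ i, r i i₀ → m i = ε) ∧ (∀ i, ¬ r i i₀ → m i = 0))
    (hfaith : ¬ ∀ i, ((k : ℤ) + m i = 0 ∨ c i = (p : ℤ) - 1)) :
    (s : ℝ) ≤ (((p : ℝ) - 1) * (e : ℝ) / (q : ℝ)) * (d : ℝ) := by
  classical
  have hp3' : (3 : ℤ) ≤ p := by exact_mod_cast hp3
  have he2' : (2 : ℤ) ≤ e := by exact_mod_cast he2
  have hep' : (e : ℤ) ≤ (p : ℤ) - 1 := by
    have h1 : e + 1 ≤ p := by omega
    have h2 : ((e + 1 : ℕ) : ℤ) ≤ (p : ℤ) := by exact_mod_cast h1
    push_cast at h2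
    linarith
  have hq' : (p : ℤ) ^ 2 ≤ q := by exact_mod_cast hq
  have hcard' : (Fintype.card ι : ℤ) = (q : ℤ) - 1 := by
    have h1 : ((Fintype.card ι + 1 : ℕ) : ℤ) = (q : ℤ) := by exact_mod_cast hcard
    push_cast at h1
    linarith
  have hq0 : (0 : ℤ) < q := by
    nlinarith [mul_pos (show (0 : ℤ) < p by linarith) (show (0 : ℤ) < p by linarith)]
  have key : s * q ≤ ((p : ℤ) - 1) * e * d := by
    rcases hstruct with hN | ⟨i₀, ε, hε, hε1, hε0⟩
    · -- constant rows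
      have hne : Nonempty ι := by
        rw [← Fintype.card_pos_iff]
        have h9 : 9 ≤ p ^ 2 := by nlinarith
        omega
      obtain ⟨i₁⟩ := hne
      obtain ⟨m₀, hm₀⟩ : ∃ m₀ : ℤ, m₀ = m i₁ := ⟨_, rfl⟩
      have hm : ∀ i, m i = m₀ := fun i => by rw [hm₀]; exact hN i i₁
      have hs' : s = -(((p : ℤ) - 1) * m₀) := by
        rw [hs]
        simp_rw [hm]
        rw [← Finset.sum_mul, hcsum]
        ring
      have hd' : (d : ℤ) = q * k + ((q : ℤ) - 1) * m₀ := by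
        rw [hd]
        simp_rw [hm]
        rw [Finset.sum_const, Finset.card_univ, nsmul_eq_mul, hcard']
      have hm0neg : m₀ < 0 := by
        by_contra h
        push_neg at h
        have : 0 ≤ ((p : ℤ) - 1) * m₀ := mul_nonneg (by linarith) h
        linarith
      have hk1 : 1 ≤ (k : ℤ) + m₀ := by
        have h0 := hk i₁
        rw [hm i₁] at h0
        rcases h0.lt_or_eq with h | h
        · linarith
        · exfalso
          apply hfaith
          intro i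
          left
          rw [hm i]
          exact h.symm
      have hm2 : -m₀ ≤ e := by
        have h := hnorm i₁
        rw [hm i₁] at h
        nlinarith [mul_nonneg (show (0 : ℤ) ≤ -m₀ - 1 by linarith) (show (0 : ℤ) ≤ -m₀ by linarith)]
      have hdq : (q : ℤ) ≤ d := by
        rw [hd']
        nlinarith [mul_le_mul_of_nonneg_left hk1 hq0.le]
      have hse : s ≤ ((p : ℤ) - 1) * e := by
        rw [hs']
        nlinarith [mul_le_mul_of_nonneg_left hm2 (show (0 : ℤ) ≤ (p : ℤ) - 1 by linarith)]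
      calc s * q ≤ ((p : ℤ) - 1) * e * q := mul_le_mul_of_nonneg_right hse hq0.le
        _ ≤ ((p : ℤ) - 1) * e * d :=
          mul_le_mul_of_nonneg_left hdq (mul_nonneg (by linarith) (by linarith))
    · -- rows supported on one class
      have hrefl : r i₀ i₀ := hr.refl i₀
      have hcls0 : (Nat.card {j : ι // r j i₀} : ℤ) = e := by
        have h1 : Nat.card {j : ι // r j i₀} = Nat.card {j : ι // r i₀ j} :=
          Nat.card_congr (Equiv.subtypeEquivRight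
            (fun j => ⟨fun h => hr.symm h, fun h => hr.symm h⟩))
        rw [h1, hcls i₀]
      have hmform : ∀ i, m i = if r i i₀ then ε else 0 := by
        intro i
        split_ifs with h
        · exact hε1 i h
        · exact hε0 i h
      have hcm : ∀ i, c i * m i = if r i i₀ then c i₀ * ε else 0 := by
        intro i
        split_ifs with h
        · rw [hε1 i h, hcr i i₀ h]
        · rw [hε0 i h, mul_zero]
      have hsum_m : ∑ i, m i = e * ε := by
        simp_rw [hmform]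
        rw [flA_sum_ind, hcls0]
      have hs' : s = e * (c i₀ * ε) := by
        rw [hs]
        simp_rw [hcm]
        rw [flA_sum_ind, hcls0]
      have hd' : (d : ℤ) = q * k + e * ε := by rw [hd, hsum_m]
      rcases hc i₀ with hc0 | hc0
      · have hε' : ε = 1 := by
          rcases hε with h | h
          · exact h
          · exfalso
            rw [hs', hc0, h] at hs0
            nlinarith [mul_nonneg (show (0 : ℤ) ≤ e by linarith) (show (0 : ℤ) ≤ (p : ℤ) - 1 by linarith)]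
        have hk1 : 1 ≤ (k : ℤ) := by
          by_contra h
          push_neg at h
          have hk0 : (k : ℤ) = 0 := by omega
          apply hfaith
          intro i
          by_cases hi : r i i₀
          · right
            rw [hcr i i₀ hi, hc0]
          · left
            rw [hε0 i hi, hk0]
            norm_num
        have hdq : (q : ℤ) ≤ d := by
          rw [hd', hε']
          nlinarith [mul_le_mul_of_nonneg_left hk1 hq0.le]
        have hse : s = ((p : ℤ) - 1) * e := by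
          rw [hs', hc0, hε']
          ring
        rw [hse]
        exact mul_le_mul_of_nonneg_left hdq (mul_nonneg (by linarith) (by linarith))
      · have hε' : ε = -1 := by
          rcases hε with h | h
          · exfalso
            rw [hs', hc0, h] at hs0
            linarith
          · exact h
        have hk1 : 1 ≤ (k : ℤ) := by
          have h := hk i₀
          rw [hε1 i₀ hrefl, hε'] at h
          linarith
        have hse : s = e := by
          rw [hs', hc0, hε']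
          ring
        have hdq : (q : ℤ) - e ≤ d := by
          rw [hd', hε']
          nlinarith [mul_le_mul_of_nonneg_left hk1 hq0.le]
        rw [hse]
        have h1 : (q : ℤ) ≤ ((p : ℤ) - 1) * ((q : ℤ) - e) := by
          nlinarith [mul_le_mul_of_nonneg_left hep' (show (0 : ℤ) ≤ (p : ℤ) - 1 by linarith),
            mul_le_mul_of_nonneg_right (show (1 : ℤ) ≤ (p : ℤ) - 2 by linarith) hq0.le]
        calc (e : ℤ) * q ≤ e * (((p : ℤ) - 1) * ((q : ℤ) - e)) :=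
              mul_le_mul_of_nonneg_left h1 (by linarith)
          _ = ((p : ℤ) - 1) * e * ((q : ℤ) - e) := by ring
          _ ≤ ((p : ℤ) - 1) * e * d :=
              mul_le_mul_of_nonneg_left hdq (mul_nonneg (by linarith) (by linarith))
  have hQ0 : (0 : ℝ) < (q : ℝ) := by exact_mod_cast hq0
  rw [div_mul_eq_mul_div, le_div_iff₀ hQ0]
  have h7 : ((s : ℝ) * (q : ℝ)) ≤ ((p : ℝ) - 1) * (e : ℝ) * (d : ℝ) := by
    exact_mod_cast key
  linarith

end Cfsg.Agent.Lib.helper27
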