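import Mathlib
import Cfsg.Agent.S4145
import Cfsg.Agent.Lib.helper27.FlavellE
import Cfsg.Agent.Lib.helper27.FlavellF
import Cfsg.Agent.Lib.helper27.FlavellG
import Cfsg.Agent.Lib.helper56.FlavLocA
import Cfsg.Agent.Lib.helper56.FlavLocB
import Cfsg.Agent.Lib.helper56.FlavLocC
import Cfsg.Agent.Lib.helper57.FlavellStar
import Cfsg.Agent.Lib.helper76.KazCore
import Cfsg.Agent.Lib.helper83.FlPLevel

/-!
# Flavell's Theorem A: the simple case

A finite nonabelian simple group with a cyclic Sylow `p`-subgroup contains two elements of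
order `p` generating a subgroup that is not `p`-solvable.
-/

set_option autoImplicit false
open Cfsg
open scoped ComplexConjugate

namespace Cfsg.Agent.Lib.helper27

universe u

/-- A cyclic Sylow subgroup is commutative. -/
theorem flA_comm {G : Type u} [Group G] {p : ℕ} (P : Sylow p G)
    (hP : IsCyclic ↥(P : Subgroup G)) :
    ∀ a ∈ (P : Subgroup G), ∀ b ∈ (P : Subgroup G), a * b = b * a := by
  intro a ha b hb
  have h := (IsCyclic.commGroup (α := ↥(P : Subgroup G))).mul_comm ⟨a, ha⟩ ⟨b, hb⟩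
  exact congrArg Subtype.val h

open Classical in
/-- The block-orthogonality input for the nontrivial elements of a cyclic Sylow subgroup. -/
theorem flA_theta_P {G : Type u} [Group G] [Fintype G] {p : ℕ} [Fact p.Prime] {M : Ideal AlgInt}
    (hM : IsPModular p M) (P : Sylow p G) (hP : IsCyclic ↥(P : Subgroup G))
    (w : G) (hw : w ∈ (P : Subgroup G)) (hw1 : w ≠ 1) (g y : G) (hy : IsPPart p g y) :
    ∑ χ : IrrCharacter G,
      (if χ ∈ principalBlock M G then (χ : G → ℂ) w * (χ : G → ℂ) g⁻¹ else 0)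
      = if IsConj w y then (Nat.card ↥(P : Subgroup G) : ℂ) else 0 := by
  have hp : p.Prime := Fact.out
  have hPc := flA_comm P hP
  obtain ⟨hidx, hreg⟩ := fl_centralizer_facts w
    (Cfsg.Agent.Lib.helper56.flA_centralizer_npc P hP w hw hw1)
  have hwpow : ∃ k : ℕ, orderOf w = p ^ k := by
    obtain ⟨k, hk⟩ := (IsPGroup.iff_orderOf.mp P.2) ⟨w, hw⟩
    exact ⟨k, by rw [← hk, Subgroup.orderOf_mk]⟩
  have hσ := flA_sigma hM w hwpow hidx
  have hPC : (P : Subgroup G) ≤ Subgroup.centralizer ({w} : Set G) := by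
    intro u hu
    rw [Subgroup.mem_centralizer_iff]
    intro h hh
    rw [Set.mem_singleton_iff] at hh
    rw [hh]
    exact hPc w hw u hu
  have hqeq : p ^ (Nat.card ↥(Subgroup.centralizer ({w} : Set G))).factorization p
      = Nat.card (P : Subgroup G) := by
    rw [Sylow.card_eq_multiplicity P]
    congr 1
    apply le_antisymm
    · exact (Nat.factorization_le_iff_dvd Nat.card_pos.ne' Nat.card_pos.ne').mpr
        (Subgroup.card_subgroup_dvd_card _) p
    · have h1 : Nat.card (P : Subgroup G) ∣ Nat.card ↥(Subgroup.centralizer ({w} : Set G)) :=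
        Subgroup.card_dvd_of_le hPC
      rw [Sylow.card_eq_multiplicity P] at h1
      exact (hp.pow_dvd_iff_le_factorization Nat.card_pos.ne').mp h1
  rw [hqeq] at hσ
  exact flA_theta hM w hwpow hreg _ hσ g y hy

open Classical in
/-- The bound on `s / d` for `|P| ≥ p²`, from the `P`-level decomposition data. -/
theorem flA_case_q {G : Type u} [Group G] [Fintype G] [IsSimpleGroup G] {p : ℕ} [Fact p.Prime]
    (x : G) (hx1 : x ≠ 1) (q e : ℕ) (B : Set (IrrCharacter G))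
    (htB : Cfsg.Agent.Lib.helper81.trivChar G ∈ B)
    (hp3 : 3 ≤ p) (he2 : 2 ≤ e) (hep : e ≤ p - 1) (hq : p ^ 2 ≤ q)
    (s : IrrCharacter G → ℤ)
    (hsC : ∀ χ : IrrCharacter G,
      ∑ t : (ZMod p)ˣ, (χ : G → ℂ) (x ^ (t : ZMod p).val) = ((s χ : ℤ) : ℂ))
    (hPL : ∃ (ι : Type u) (_ : Fintype ι) (r : ι → ι → Prop) (Mx : ι → IrrCharacter G → ℤ)
      (k : IrrCharacter G → ℕ) (c : ι → ℤ) (z : ι → ℂ),
      Equivalence r ∧
      Fintype.card ι + 1 = q ∧
      (∀ i, Nat.card {j // r i j} = e) ∧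
      (∀ i j, r i j →
        ∑ χ : IrrCharacter G, (if χ ∈ B then Mx i χ * Mx j χ else 0) = (e : ℤ) + 1) ∧
      (∀ i j, ¬ r i j →
        ∑ χ : IrrCharacter G, (if χ ∈ B then Mx i χ * Mx j χ else 0) = (e : ℤ)) ∧
      (∀ (χ : IrrCharacter G) (i : ι), 0 ≤ (k χ : ℤ) + Mx i χ) ∧
      (∀ χ : IrrCharacter G, (charDegree (χ : G → ℂ) : ℤ) = q * k χ + ∑ i, Mx i χ) ∧
      (∀ χ : IrrCharacter G,
        (χ : G → ℂ) x = (k χ : ℂ) + ∑ i, (((k χ : ℤ) + Mx i χ : ℤ) : ℂ) * z i) ∧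
      (∀ χ : IrrCharacter G, ∑ t : (ZMod p)ˣ, (χ : G → ℂ) (x ^ (t : ZMod p).val)
        = ((∑ i, c i * Mx i χ : ℤ) : ℂ)) ∧
      (∀ i, (c i = (p : ℤ) - 1 ∧ z i = 1) ∨ c i = -1) ∧
      (∀ i j, r i j → c i = c j) ∧
      (∑ i, c i = -((p : ℤ) - 1)) ∧
      (∀ i, Mx i (Cfsg.Agent.Lib.helper81.trivChar G) = -1)) :
    ∀ χ ∈ B, χ ≠ Cfsg.Agent.Lib.helper81.trivChar G → 0 < s χ →
      (s χ : ℝ) ≤ (((p : ℝ) - 1) * (e : ℝ) / (q : ℝ)) * (charDegree (χ : G → ℂ) : ℝ) := by
  obtain ⟨ι, hι, r, Mx, k, c, z, hr, hcard, hcls, hG1, hG0, hk, hdeg, hval, hsum, hcz, hcr,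
    hcsum, htriv⟩ := hPL
  have hp : p.Prime := Fact.out
  have hcardZ : (Fintype.card ι : ℤ) = (q : ℤ) - 1 := by
    have h1 : ((Fintype.card ι + 1 : ℕ) : ℤ) = (q : ℤ) := by exact_mod_cast hcard
    push_cast at h1
    linarith
  have hG1' : ∀ i j, r i j → ∑ χ : IrrCharacter G,
      (if χ ∈ B then Mx i χ else 0) * (if χ ∈ B then Mx j χ else 0) = (e : ℤ) + 1 := by
    intro i j hij
    rw [← hG1 i j hij]
    refine Finset.sum_congr rfl (fun χ _ => ?_)
    split_ifs <;> simp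
  have hG0' : ∀ i j, ¬ r i j → ∑ χ : IrrCharacter G,
      (if χ ∈ B then Mx i χ else 0) * (if χ ∈ B then Mx j χ else 0) = (e : ℤ) := by
    intro i j hij
    rw [← hG0 i j hij]
    refine Finset.sum_congr rfl (fun χ _ => ?_)
    split_ifs <;> simp
  have hbig : e * (e + 1) < Nat.card ι := by
    rw [Nat.card_eq_fintype_card]
    obtain ⟨pm, hpm⟩ : ∃ pm, p = pm + 1 := ⟨p - 1, by omega⟩
    have h1 : e ≤ pm := by omega
    have h2 : e * (e + 1) ≤ pm * (pm + 1) := Nat.mul_le_mul h1 (by omega)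
    have h3 : (pm + 1) ^ 2 ≤ q := by rw [← hpm]; exact hq
    have h4 : 2 ≤ pm := by omega
    nlinarith
  have hSL := Cfsg.Agent.Lib.helper57.star_structure r hr
    (fun i χ => if χ ∈ B then Mx i χ else 0) e e hG1' hG0'
    (Cfsg.Agent.Lib.helper81.trivChar G) (fun i => by rw [if_pos htB]; exact htriv i)
    (fun i => (hcls i).le) hbig
  intro χ hχB hχ hs0
  have hstruct := hSL χ
  simp only [if_pos hχB] at hstruct
  have hsχ : s χ = ∑ i, c i * Mx i χ := by
    have h1 := hsum χ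
    rw [hsC χ] at h1
    exact Int.cast_injective h1
  have hnorm : ∀ i, Mx i χ ^ 2 ≤ e := by
    intro i
    have h1 := hG1 i i (hr.refl i)
    have h2 := flA_two_le_sum
      (fun χ' : IrrCharacter G => if χ' ∈ B then Mx i χ' * Mx i χ' else 0)
      (fun χ' => by
        split_ifs
        · exact mul_self_nonneg _
        · exact le_refl _) χ (Cfsg.Agent.Lib.helper81.trivChar G) hχ
    beta_reduce at h2
    rw [h1] at h2
    simp only [if_pos hχB, if_pos htB, htriv i] at h2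
    nlinarith
  have hfaith : ¬ ∀ i, ((k χ : ℤ) + Mx i χ = 0 ∨ c i = (p : ℤ) - 1) := by
    intro hall
    apply flA_faithful χ hχ x hx1
    rw [hval χ, Cfsg.Agent.Lib.helper81.irr_one_eq_charDegree χ]
    have h1 : ∀ i, (((k χ : ℤ) + Mx i χ : ℤ) : ℂ) * z i = (((k χ : ℤ) + Mx i χ : ℤ) : ℂ) := by
      intro i
      rcases hall i with h | h
      · rw [h]
        simp
      · rcases hcz i with ⟨-, hz⟩ | h'
        · rw [hz, mul_one]
        · exfalso
          rw [h] at h'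
          have : (3 : ℤ) ≤ p := by exact_mod_cast hp3
          linarith
    rw [Finset.sum_congr rfl (fun i _ => h1 i)]
    have h2 : (charDegree (χ : G → ℂ) : ℤ) = (k χ : ℤ) + ∑ i, ((k χ : ℤ) + Mx i χ) := by
      rw [hdeg χ, Finset.sum_add_distrib, Finset.sum_const, Finset.card_univ, nsmul_eq_mul,
        hcardZ]
      ring
    have h3 : ((charDegree (χ : G → ℂ) : ℕ) : ℂ) = (((charDegree (χ : G → ℂ) : ℕ) : ℤ) : ℂ) :=
      (Int.cast_natCast _).symm
    rw [h3, h2]
    push_cast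
    try ring
  exact flA_rho_q r hr p e q hp3 he2 hep hq hcard hcls c (fun i => (hcz i).imp And.left id) hcr
    hcsum (fun i => Mx i χ) (k χ) (charDegree (χ : G → ℂ)) (s χ) (hk χ) (hdeg χ) hsχ hs0 hnorm
    hstruct hfaith

/-- **Flavell's Theorem A, simple case.** -/
theorem flA_main {p : ℕ} [Fact p.Prime] (G : Type u) [Group G] [Finite G] [IsSimpleGroup G]
    (hG : ¬ IsMulCommutative G) (P : Sylow p G) (hP : IsCyclic ↥(P : Subgroup G))
    (hpG : p ∣ Nat.card G)
    (hc : ∀ x y : G, orderOf x = p → orderOf y = p →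
      IsPSolvable p ↥(Subgroup.closure ({x, y} : Set G))) : False := by
  classical
  have hp : p.Prime := Fact.out
  have hfin : Fintype G := Fintype.ofFinite G
  have hPc := flA_comm P hP
  -- an element of order `p`
  have hpP : p ∣ Nat.card ↥(P : Subgroup G) := by
    rw [Sylow.card_eq_multiplicity P]
    have h0 := hp.factorization_pos_of_dvd Nat.card_pos.ne' hpG
    exact dvd_pow_self p (by omega)
  obtain ⟨x', hx'⟩ := exists_prime_orderOf_dvd_card' p hpP
  obtain ⟨x, hxdef⟩ : ∃ x : G, x = (x' : G) := ⟨_, rfl⟩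
  have hxP : x ∈ (P : Subgroup G) := by rw [hxdef]; exact x'.2
  have hx : orderOf x = p := by rw [hxdef, Subgroup.orderOf_coe]; exact hx'
  have hx1 : x ≠ 1 := by
    rintro rfl
    rw [orderOf_one] at hx
    exact hp.one_lt.ne' hx.symm
  obtain ⟨e, he⟩ : ∃ e : ℕ,
      e = Nat.card {t : (ZMod p)ˣ // IsConj (x ^ (t : ZMod p).val) x} := ⟨_, rfl⟩
  have he2 : 2 ≤ e := by
    rw [he]
    exact Cfsg.Agent.Lib.helper56.flA_two_le hG P hP x hxP hx
  have hedvd : e ∣ p - 1 := by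
    rw [he]
    exact Cfsg.Agent.Lib.helper56.flA_dvd x hx
  have hp2 := hp.two_le
  have hep : e ≤ p - 1 := Nat.le_of_dvd (by omega) hedvd
  have hp3 : 3 ≤ p := by omega
  obtain ⟨M, hM⟩ := Cfsg.Agent.Lib.helper76.exists_isPModular p hp
  have hMp : M.IsPrime := hM.2.1.isPrime
  have htB : Cfsg.Agent.Lib.helper81.trivChar G ∈ principalBlock M G :=
    Cfsg.Agent.Lib.helper81.trivChar_mem_principalBlock hMp
  obtain ⟨q, hq⟩ : ∃ q : ℕ, q = Nat.card ↥(P : Subgroup G) := ⟨_, rfl⟩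
  have hΘw : ∀ w ∈ (P : Subgroup G), w ≠ 1 → ∀ g y : G, IsPPart p g y →
      ∑ χ : IrrCharacter G,
        (if χ ∈ principalBlock M G then (χ : G → ℂ) w * (χ : G → ℂ) g⁻¹ else 0)
        = if IsConj w y then (q : ℂ) else 0 := by
    intro w hw hw1 g y hy
    rw [hq]
    exact flA_theta_P hM P hP w hw hw1 g y hy
  have hΘ : ∀ (t : (ZMod p)ˣ) (g y : G), IsPPart p g y →
      ∑ χ : IrrCharacter G, (if χ ∈ principalBlock M G then
          (χ : G → ℂ) (x ^ (t : ZMod p).val) * (χ : G → ℂ) g⁻¹ else 0)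
        = if IsConj (x ^ (t : ZMod p).val) y then (q : ℂ) else 0 :=
    fun t g y hy => hΘw _ (Subgroup.pow_mem _ hxP _) (flA_pow_ne_one hx t) g y hy
  have hT : ∀ y : G, orderOf y = p →
      ∃ (g : G) (t : (ZMod p)ˣ), g * y * g⁻¹ = x ^ (t : ZMod p).val :=
    fun y hy => Cfsg.Agent.Lib.helper56.flA_conj_pow P hP x hxP hx y hy
  have hsq := flA_sq_sum x hx q (principalBlock M G) hΘ
  obtain ⟨N', hN', hcube⟩ := flA_cube_sum x hx q (principalBlock M G) hΘ hT
    (fun g h l t t' htt h1 h2 => flA_hcount P hPc hc x hx g h l t t' htt h1 h2)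
    (fun g h l t hs => flA_hpp P hPc hc x hx g h l t hs)
  rw [← he] at hsq hcube
  -- the integers `s χ`
  obtain ⟨s, hsC, hsd⟩ : ∃ s : IrrCharacter G → ℤ,
      (∀ χ : IrrCharacter G,
        ∑ t : (ZMod p)ˣ, (χ : G → ℂ) (x ^ (t : ZMod p).val) = ((s χ : ℤ) : ℂ)) ∧
      (∀ χ : IrrCharacter G, ∃ f : ℕ, s χ = (p : ℤ) * f - charDegree (χ : G → ℂ) ∧
        f ≤ charDegree (χ : G → ℂ) ∧
        (f = charDegree (χ : G → ℂ) → (χ : G → ℂ) x = (χ : G → ℂ) 1)) := by
    choose f hf1 hf2 hf3 using fun χ : IrrCharacter G => flA_zlevel x hx χ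
    refine ⟨fun χ => (p : ℤ) * f χ - charDegree (χ : G → ℂ), fun χ => ?_,
      fun χ => ⟨f χ, rfl, hf1 χ, hf3 χ⟩⟩
    rw [hf2 χ]
    push_cast
    try ring
  have hA1 : ∑ χ : IrrCharacter G, (if χ ∈ principalBlock M G then s χ ^ 2 else 0)
      = (q : ℤ) * ((p : ℤ) - 1) * e := by
    have h1 : ((∑ χ : IrrCharacter G, (if χ ∈ principalBlock M G then s χ ^ 2 else 0) : ℤ) : ℂ)
        = ∑ χ : IrrCharacter G, (if χ ∈ principalBlock M G then
        (∑ t : (ZMod p)ˣ, (χ : G → ℂ) (x ^ (t : ZMod p).val)) *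
          conj (∑ t : (ZMod p)ˣ, (χ : G → ℂ) (x ^ (t : ZMod p).val)) else 0) := by
      rw [Int.cast_sum]
      refine Finset.sum_congr rfl (fun χ _ => ?_)
      rw [hsC χ, map_intCast]
      split_ifs
      · push_cast
        ring
      · simp
    rw [hsq] at h1
    exact_mod_cast h1
  have hA2 : (q : ℝ) * (e : ℝ) * (((p : ℝ) - 1) * ((p : ℝ) - 2))
      ≤ ∑ χ : IrrCharacter G, (if χ ∈ principalBlock M G then
          (s χ : ℝ) ^ 3 / (charDegree (χ : G → ℂ) : ℝ) else 0) := by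
    obtain ⟨T, hT'⟩ : ∃ T : ℝ, T = ∑ χ : IrrCharacter G, (if χ ∈ principalBlock M G then
          (s χ : ℝ) ^ 3 / (charDegree (χ : G → ℂ) : ℝ) else 0) := ⟨_, rfl⟩
    rw [← hT']
    have h1 : ((T : ℝ) : ℂ) = ∑ χ : IrrCharacter G, (if χ ∈ principalBlock M G then
            (∑ t : (ZMod p)ˣ, (χ : G → ℂ) (x ^ (t : ZMod p).val)) ^ 3 / (χ : G → ℂ) 1
            else 0) := by
      rw [hT', Complex.ofReal_sum]
      refine Finset.sum_congr rfl (fun χ _ => ?_)
      rw [hsC χ, Cfsg.Agent.Lib.helper81.irr_one_eq_charDegree χ]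
      split_ifs
      · push_cast
        try ring
      · simp
    rw [← h1] at hcube
    have h2 : (q : ℝ) * (e : ℝ) * (N' : ℝ) = (Nat.card G : ℝ) ^ 2 * T := by
      exact_mod_cast hcube
    have hG0 : (0 : ℝ) < (Nat.card G : ℝ) ^ 2 := by
      have : (0 : ℝ) < (Nat.card G : ℝ) := by exact_mod_cast Nat.card_pos
      positivity
    have h3 : ((p : ℝ) - 1) * ((p : ℝ) - 2) * (Nat.card G : ℝ) ^ 2 ≤ (N' : ℝ) := by
      have h4 : (((p - 1) * (p - 2) * Nat.card G ^ 2 : ℕ) : ℝ) ≤ (N' : ℝ) := by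
        exact_mod_cast hN'
      rw [Nat.cast_mul, Nat.cast_mul, Nat.cast_sub (by omega), Nat.cast_sub (by omega)] at h4
      push_cast at h4
      exact h4
    have h4 : (q : ℝ) * (e : ℝ) * (((p : ℝ) - 1) * ((p : ℝ) - 2)) * (Nat.card G : ℝ) ^ 2
        ≤ T * (Nat.card G : ℝ) ^ 2 := by
      have h5 := mul_le_mul_of_nonneg_left h3 (show (0 : ℝ) ≤ (q : ℝ) * (e : ℝ) by positivity)
      linarith
    exact le_of_mul_le_mul_right h4 hG0
  have hs1 : s (Cfsg.Agent.Lib.helper81.trivChar G) = (p : ℤ) - 1 := by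
    have h := hsC (Cfsg.Agent.Lib.helper81.trivChar G)
    simp only [Cfsg.Agent.Lib.helper81.trivChar_apply, Finset.sum_const, Finset.card_univ,
      ZMod.card_units, nsmul_eq_mul, mul_one] at h
    have h2 : ((p - 1 : ℕ) : ℤ) = s (Cfsg.Agent.Lib.helper81.trivChar G) := by
      exact_mod_cast h
    rw [← h2, Nat.cast_sub hp.one_lt.le, Nat.cast_one]
  have hd1 : charDegree ((Cfsg.Agent.Lib.helper81.trivChar G : IrrCharacter G) : G → ℂ) = 1 := by
    have h := Cfsg.Agent.Lib.helper81.irr_one_eq_charDegree (Cfsg.Agent.Lib.helper81.trivChar G)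
    rw [Cfsg.Agent.Lib.helper81.trivChar_apply] at h
    exact_mod_cast h.symm
  have hdpos : ∀ χ : IrrCharacter G, 0 < charDegree (χ : G → ℂ) :=
    fun χ => Cfsg.Agent.Lib.helper81.irr_charDegree_pos χ
  have hfinal : ∀ ρ : ℝ, 0 ≤ ρ →
      (∀ χ ∈ principalBlock M G, χ ≠ Cfsg.Agent.Lib.helper81.trivChar G → 0 < s χ →
        (s χ : ℝ) ≤ ρ * (charDegree (χ : G → ℂ) : ℝ)) →
      (q : ℝ) * (e : ℝ) * (((p : ℝ) - 1) * ((p : ℝ) - 2))
        ≤ ((p : ℝ) - 1) ^ 3 + ρ * ((q : ℝ) * ((p : ℝ) - 1) * (e : ℝ) - ((p : ℝ) - 1) ^ 2) := by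
    intro ρ hρ0 hρ
    have h := flA_ineq (principalBlock M G) s (fun χ => charDegree (χ : G → ℂ))
      (Cfsg.Agent.Lib.helper81.trivChar G) htB hdpos ((p : ℤ) - 1)
      ((q : ℤ) * ((p : ℤ) - 1) * e) ρ hρ0 hs1 hd1 hA1 hρ
    push_cast at h
    exact hA2.trans h
  have hE2 : (2 : ℝ) ≤ (e : ℝ) := by exact_mod_cast he2
  have hP3 : (3 : ℝ) ≤ (p : ℝ) := by exact_mod_cast hp3
  by_cases hqp : q = p
  · by_cases hep1 : e = p - 1
    · -- all powers of `x` are conjugate
      have hall : ∀ t : (ZMod p)ˣ, IsConj (x ^ (t : ZMod p).val) x := by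
        intro t
        by_contra hnt
        have h1 := Fintype.card_subtype_lt
          (p := fun t : (ZMod p)ˣ => IsConj (x ^ (t : ZMod p).val) x) hnt
        rw [ZMod.card_units, ← Nat.card_eq_fintype_card, ← he, hep1] at h1
        exact lt_irrefl _ h1
      exact Cfsg.Agent.Lib.helper56.flA_all_conj hG P (by rw [← hq, hqp]) x hxP hx hall hc
    · obtain ⟨m, hm⟩ := hedvd
      have hm2 : 2 ≤ m := by
        rcases m with _ | _ | m
        · omega
        · omega
        · omega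
      have h2e : 2 * e + 1 ≤ p := by
        have := Nat.mul_le_mul_left e hm2
        omega
      have hρ : ∀ χ ∈ principalBlock M G, χ ≠ Cfsg.Agent.Lib.helper81.trivChar G → 0 < s χ →
          (s χ : ℝ) ≤ (((p : ℝ) - 1) * ((e : ℝ) - 1) / (e : ℝ))
            * (charDegree (χ : G → ℂ) : ℝ) := by
        intro χ hχB hχ hs0
        obtain ⟨f, hsf, hfle, hfeq⟩ := hsd χ
        have hfd : f < charDegree (χ : G → ℂ) :=
          lt_of_le_of_ne hfle (fun h => flA_faithful χ hχ x hx1 (hfeq h))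
        have h2 := flA_two_le_sum
          (fun χ' : IrrCharacter G => if χ' ∈ principalBlock M G then s χ' ^ 2 else 0)
          (fun χ' => by
            split_ifs
            · exact sq_nonneg _
            · exact le_refl _) χ (Cfsg.Agent.Lib.helper81.trivChar G) hχ
        beta_reduce at h2
        rw [hA1, if_pos hχB, if_pos htB, hs1, hqp] at h2
        exact flA_rho_p p e hp2 he2 (s χ) _ f hsf hfd hs0 h2
      have hρ0 : (0 : ℝ) ≤ ((p : ℝ) - 1) * ((e : ℝ) - 1) / (e : ℝ) :=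
        div_nonneg (mul_nonneg (by linarith) (by linarith)) (by linarith)
      have h1 := hfinal _ hρ0 hρ
      rw [hqp] at h1
      have h2 := flA_num_p (p : ℝ) (e : ℝ) hE2 (by exact_mod_cast h2e)
      linarith
  · -- `|P| ≥ p²`
    have hq2 : p ^ 2 ≤ q := by
      obtain ⟨n, hn⟩ := IsPGroup.iff_card.mp P.2
      rw [← hq] at hn
      have hn2 : 2 ≤ n := by
        rcases n with _ | _ | n
        · exfalso
          rw [pow_zero] at hn
          rw [← hq, hn] at hpP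
          exact hp.one_lt.ne' (Nat.dvd_one.mp hpP)
        · exfalso
          exact hqp (by rw [hn]; simp)
        · omega
      rw [hn]
      exact Nat.pow_le_pow_right hp.pos hn2
    have horth : ∀ w ∈ (P : Subgroup G), ∀ w' ∈ (P : Subgroup G), w ≠ 1 → w' ≠ 1 →
        ∑ χ : IrrCharacter G, (if χ ∈ principalBlock M G then
            (χ : G → ℂ) w * conj ((χ : G → ℂ) w') else 0)
          = if IsConj w w' then (q : ℂ) else 0 := by
      intro w hw w' hw' hw1 hw'1
      have hpp : IsPPart p w' w' := by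
        obtain ⟨k, hk⟩ := (IsPGroup.iff_orderOf.mp P.2) ⟨w', hw'⟩
        refine ⟨1, mul_one _, Commute.one_right _, ⟨k, by rw [← hk, Subgroup.orderOf_mk]⟩, ?_⟩
        rw [orderOf_one, Nat.dvd_one]
        exact hp.one_lt.ne'
      rw [← hΘw w hw hw1 w' w' hpp]
      refine Finset.sum_congr rfl (fun χ _ => ?_)
      rw [Cfsg.Agent.Lib.helper81.irr_inv]
    have hPL := Cfsg.Agent.Lib.helper83.flA_plevel (P : Subgroup G) hP q hq.symm x hxP hx
      (principalBlock M G) horth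
      (fun w hw w' hw' h => Cfsg.Agent.Lib.helper56.flA_fusion P hP w hw w' hw' h)
      (fun n hn h => Cfsg.Agent.S4145.key_aut P hP n hn h) e
      (by rw [he]; exact Cfsg.Agent.Lib.helper56.flA_card_normalizer P hP x hxP hx)
    have hρ := flA_case_q x hx1 q e (principalBlock M G) htB hp3 he2 hep hq2 s hsC hPL
    have hQ0 : (0 : ℝ) < (q : ℝ) := by
      have h9 : 0 < p ^ 2 := pow_pos hp.pos 2
      have : 0 < q := lt_of_lt_of_le h9 hq2
      exact_mod_cast this
    have hρ0 : (0 : ℝ) ≤ ((p : ℝ) - 1) * (e : ℝ) / (q : ℝ) :=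
      div_nonneg (mul_nonneg (by linarith) (by linarith)) hQ0.le
    have h1 := hfinal _ hρ0 hρ
    have hEP : (e : ℝ) ≤ (p : ℝ) - 1 := by
      have h5 : e + 1 ≤ p := by omega
      have h6 : ((e + 1 : ℕ) : ℝ) ≤ (p : ℝ) := by exact_mod_cast h5
      push_cast at h6
      linarith
    have h2 := flA_num_q (p : ℝ) (e : ℝ) (q : ℝ) hE2 hEP hP3 (by exact_mod_cast hq2)
    linarith

end Cfsg.Agent.Lib.helper27
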