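import Mathlib

/-!
# S4395, EXB sub-split, piece HFC (racing copy by helper27): trace facts in a field with `m²` elements
-/

set_option autoImplicit false

namespace Cfsg.Agent.Lib.helper3.Gf

universe u

open Polynomial in
/-- The equation `z ^ m + a * z = w` has at most `m` solutions (`m ≥ 2`). -/
theorem h27_card_fib_le {L : Type*} [Field L] [Fintype L] [DecidableEq L] (m : ℕ) (hm : 2 ≤ m)
    (a w : L) : (Finset.univ.filter (fun z : L => z ^ m + a * z = w)).card ≤ m := by
  classical
  have hcoeff : (X ^ m + C a * X - C w : L[X]).coeff m = 1 := by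
    have h1 : 1 ≠ m := by omega
    have h0 : m ≠ 0 := by omega
    simp [Polynomial.coeff_X_pow, Polynomial.coeff_C, Polynomial.coeff_X, h1, h0]
  have hp : (X ^ m + C a * X - C w : L[X]) ≠ 0 := by
    intro h
    rw [h] at hcoeff
    simp at hcoeff
  have hdeg : (X ^ m + C a * X - C w : L[X]).natDegree ≤ m := by
    refine (Polynomial.natDegree_sub_le _ _).trans (max_le ?_ ?_)
    · refine (Polynomial.natDegree_add_le _ _).trans (max_le (Polynomial.natDegree_X_pow_le m) ?_)
      exact (Polynomial.natDegree_C_mul_le _ _).trans (Polynomial.natDegree_X_le.trans (by omega))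
    · simp
  calc (Finset.univ.filter (fun z : L => z ^ m + a * z = w)).card
      ≤ (X ^ m + C a * X - C w : L[X]).roots.toFinset.card := by
        refine Finset.card_le_card (fun z hz => ?_)
        rw [Finset.mem_filter] at hz
        rw [Multiset.mem_toFinset, Polynomial.mem_roots hp, Polynomial.IsRoot.def]
        simp [hz.2]
    _ ≤ Multiset.card (X ^ m + C a * X - C w : L[X]).roots := Multiset.toFinset_card_le _
    _ ≤ (X ^ m + C a * X - C w : L[X]).natDegree := Polynomial.card_roots' _
    _ ≤ m := hdeg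

/-- Squeeze: a map from a set with `m * m` elements into a set with at most `m` elements, all of
whose fibres have at most `m` elements, has all fibres over the target of size exactly `m`. -/
theorem h27_squeeze {α β : Type*} [Fintype α] [DecidableEq β] (f : α → β) (T : Finset β) (m : ℕ)
    (hT : ∀ a, f a ∈ T) (hTcard : T.card ≤ m)
    (hfib : ∀ b, (Finset.univ.filter (fun a => f a = b)).card ≤ m)
    (hα : Fintype.card α = m * m) :
    ∀ b ∈ T, (Finset.univ.filter (fun a => f a = b)).card = m := by
  intro c hc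
  have hsum := Finset.card_eq_sum_card_fiberwise (s := Finset.univ) (t := T) (f := f)
    (fun a _ => hT a)
  rw [Finset.card_univ, hα] at hsum
  by_contra hne
  have hlt : (Finset.univ.filter (fun a => f a = c)).card < m := lt_of_le_of_ne (hfib c) hne
  have hlt2 : ∑ b ∈ T, (Finset.univ.filter (fun a => f a = b)).card < ∑ _b ∈ T, m :=
    Finset.sum_lt_sum (fun b _ => hfib b) ⟨c, hc, hlt⟩
  rw [Finset.sum_const, smul_eq_mul, ← hsum] at hlt2
  have h3 := Nat.mul_le_mul_right m hTcard
  omega

/-- HFC (racing copy) -/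
theorem h27_hfc (L : Type u) [Field L] [Finite L] (m : ℕ) (hm : Nat.card L = m * m) (σ : L →+* L)
    (hσ : ∀ x, σ x = x ^ m) :
    (∀ x : L, ∃ z, z + σ z = x * σ x) ∧ (∀ z : L, z + σ z = 0 → ∃ x, x - σ x = z) ∧
    Nat.card {z : L // z + σ z = 0} = m := by
  classical
  have := Fintype.ofFinite L
  have hcard : Fintype.card L = m * m := by rw [← Nat.card_eq_fintype_card]; exact hm
  have hm2 : 2 ≤ m := by
    have h1 := Fintype.one_lt_card (α := L)
    rw [hcard] at h1
    by_contra h
    have h2 : m ≤ 1 := by omega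
    have h3 : m * m ≤ 1 * 1 := Nat.mul_le_mul h2 h2
    omega
  have hσσ : ∀ x, σ (σ x) = x := fun x => by
    rw [hσ, hσ, ← pow_mul, ← hcard]
    exact FiniteField.pow_card x
  have hT : ∀ z : L, z ^ m + 1 * z ∈ Finset.univ.filter (fun w : L => w ^ m + (-1) * w = 0) := by
    intro z
    rw [Finset.mem_filter]
    refine ⟨Finset.mem_univ _, ?_⟩
    rw [← hσ z, ← hσ (σ z + 1 * z), map_add, map_mul, map_one, hσσ]
    ring
  have sqT := h27_squeeze (fun z : L => z ^ m + 1 * z)
    (Finset.univ.filter (fun w : L => w ^ m + (-1) * w = 0)) m hT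
    (h27_card_fib_le m hm2 (-1) 0) (fun b => h27_card_fib_le m hm2 1 b) hcard
  have hD : ∀ z : L, z ^ m + (-1) * z ∈ Finset.univ.filter (fun w : L => w ^ m + 1 * w = 0) := by
    intro z
    rw [Finset.mem_filter]
    refine ⟨Finset.mem_univ _, ?_⟩
    rw [← hσ z, ← hσ (σ z + (-1) * z), map_add, map_mul, map_neg, map_one, hσσ]
    ring
  have h0mem : (0 : L) ∈ Finset.univ.filter (fun w : L => w ^ m + (-1) * w = 0) := by
    rw [Finset.mem_filter]
    refine ⟨Finset.mem_univ _, ?_⟩
    rw [zero_pow (by omega)]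
    ring
  have hKr : (Finset.univ.filter (fun w : L => w ^ m + 1 * w = 0)).card = m := sqT 0 h0mem
  have sqD := h27_squeeze (fun z : L => z ^ m + (-1) * z)
    (Finset.univ.filter (fun w : L => w ^ m + 1 * w = 0)) m hD
    hKr.le (fun b => h27_card_fib_le m hm2 (-1) b) hcard
  refine ⟨fun x => ?_, fun z hz => ?_, ?_⟩
  · have hmem : x * σ x ∈ Finset.univ.filter (fun w : L => w ^ m + (-1) * w = 0) := by
      rw [Finset.mem_filter]
      refine ⟨Finset.mem_univ _, ?_⟩
      rw [← hσ (x * σ x), map_mul, hσσ]
      ring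
    have hc := sqT _ hmem
    have hpos : 0 < (Finset.univ.filter (fun z : L => z ^ m + 1 * z = x * σ x)).card := by
      rw [hc]; omega
    obtain ⟨z, hz⟩ := Finset.card_pos.1 hpos
    rw [Finset.mem_filter] at hz
    refine ⟨z, ?_⟩
    rw [hσ z, ← hz.2]
    ring
  · have hmem : -z ∈ Finset.univ.filter (fun w : L => w ^ m + 1 * w = 0) := by
      rw [Finset.mem_filter]
      refine ⟨Finset.mem_univ _, ?_⟩
      rw [← hσ (-z), map_neg]
      have : -σ z + 1 * -z = -(z + σ z) := by ring
      rw [this, hz, neg_zero]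
    have hc := sqD _ hmem
    have hpos : 0 < (Finset.univ.filter (fun x : L => x ^ m + (-1) * x = -z)).card := by
      rw [hc]; omega
    obtain ⟨x, hx⟩ := Finset.card_pos.1 hpos
    rw [Finset.mem_filter] at hx
    refine ⟨x, ?_⟩
    rw [hσ x]
    have h2 := hx.2
    have h3 : x - x ^ m = -(x ^ m + (-1) * x) := by ring
    rw [h3, h2, neg_neg]
  · rw [Nat.card_eq_fintype_card, Fintype.card_subtype, ← hKr]
    congr 1
    ext z
    simp only [Finset.mem_filter, Finset.mem_univ, true_and]
    rw [hσ z]
    constructor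
    · intro h
      rw [← h]; ring
    · intro h
      rw [← h]; ring

end Cfsg.Agent.Lib.helper3.Gf
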