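import Mathlib
import Cfsg.Prelude.Def_Classical
import Cfsg.Prelude.Def_GeometricClasses
import Cfsg.Agent.Lib.helper24.SfoDefs

/-!
# S5977/S5978, leaf HCI, piece COORD (racing copy by helper27): coordinates
-/

set_option autoImplicit false

namespace Cfsg.Agent.Lib.helper99.HCI

open Matrix Cfsg.Geo Cfsg.Agent.Lib.helper24

/-- COORD (racing copy) -/
theorem h27_hci_coord {F : Type*} [Field F] {E : Type*} [Field E] [Algebra F E]
    {V : Type*} [AddCommGroup V] [Module F V] [Module E V] [IsScalarTower F E V]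
    [FiniteDimensional E V] (h2 : (2 : F) ≠ 0) (Q : V → F) (B : V →ₗ[F] V →ₗ[F] F)
    (hBQ : ∀ v, B v v = 2 * Q v) (lam : E →ₗ[F] F)
    (β : V →ₗ[E] V →ₗ[E] E) (hβs : ∀ u v, β u v = β v u) (hβn : ∀ u, (∀ v, β u v = 0) → u = 0)
    (hβ : ∀ u v, B u v = lam (β u v)) (d : ℕ) (hd : Module.finrank E V = d) :
    ∃ (QE : (Fin d → E) → E) (Ψ : (Fin d → E) ≃ₗ[E] V),
      IsNondegenerateQuadraticForm QE ∧ ∀ w, Q (Ψ w) = lam (QE w) := by
  classical
  let b : Module.Basis (Fin d) E V := Module.finBasisOfFinrankEq E V hd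
  let Ψ : (Fin d → E) ≃ₗ[E] V := b.equivFun.symm
  have ha : algebraMap F E 2⁻¹ * 2 = 1 := by
    have : (2 : E) = algebraMap F E 2 := (map_ofNat (algebraMap F E) 2).symm
    rw [this, ← map_mul, inv_mul_cancel₀ h2, map_one]
  have hpolar : ∀ u v : Fin d → E,
      QuadraticMap.polar (fun w => algebraMap F E 2⁻¹ * β (Ψ w) (Ψ w)) u v = β (Ψ u) (Ψ v) := by
    intro u v
    simp only [QuadraticMap.polar, map_add, LinearMap.add_apply]
    rw [hβs (Ψ v) (Ψ u)]
    linear_combination (β (Ψ u) (Ψ v)) * ha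
  refine ⟨fun w => algebraMap F E 2⁻¹ * β (Ψ w) (Ψ w), Ψ, ⟨?_, ⟨?_, ?_, ?_, ?_⟩, ?_⟩, ?_⟩
  · intro c w
    simp only [map_smul, LinearMap.smul_apply, smul_eq_mul]
    ring
  · intro x y v
    rw [hpolar, hpolar, hpolar, map_add, map_add, LinearMap.add_apply]
  · intro c x v
    rw [hpolar, hpolar, map_smul, map_smul, LinearMap.smul_apply, smul_eq_mul]
  · intro v x y
    rw [hpolar, hpolar, hpolar, map_add, map_add]
  · intro c v x
    rw [hpolar, hpolar, map_smul, map_smul, smul_eq_mul]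
  · intro v hv
    have hΨv : Ψ v ≠ 0 := by
      intro h
      exact hv (Ψ.map_eq_zero_iff.mp h)
    have : ∃ y, β (Ψ v) y ≠ 0 := by
      by_contra h
      exact hΨv (hβn (Ψ v) (fun y => by_contra fun hy => h ⟨y, hy⟩))
    obtain ⟨y, hy⟩ := this
    refine ⟨⟨Ψ.symm y, ?_⟩, ⟨Ψ.symm y, ?_⟩⟩
    · rw [hpolar, LinearEquiv.apply_symm_apply, hβs]; exact hy
    · rw [hpolar, LinearEquiv.apply_symm_apply]; exact hy
  · intro w
    have h1 := hBQ (Ψ w)
    rw [hβ] at h1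
    change Q (Ψ w) = lam (algebraMap F E 2⁻¹ * β (Ψ w) (Ψ w))
    rw [← Algebra.smul_def, map_smul, smul_eq_mul, h1, ← mul_assoc, inv_mul_cancel₀ h2, one_mul]

end Cfsg.Agent.Lib.helper99.HCI
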