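import Mathlib
import Cfsg.Prelude.Def_Classical
import Cfsg.Prelude.Def_GeometricClasses
import Cfsg.Agent.Lib.helper24.SfoDefs
import Cfsg.Agent.Lib.helper61.SfoCNTE

/-!
# S5977/S5978, leaf HCI, piece COUNT: counting the nonzero values of `lam ∘ QE`
-/

set_option autoImplicit false

namespace Cfsg.Agent.Lib.helper99.HCI

open Matrix Cfsg.Geo Cfsg.Agent.Lib.helper24

/-- the kernel of a nonzero functional on a quadratic extension has `q` elements -/
theorem h27_hci_ker_card {F : Type*} [Field F] [Fintype F] {E : Type*} [Field E] [Fintype E]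
    [Algebra F E] (hE : Module.finrank F E = 2) (lam : E →ₗ[F] F) (hlam : lam ≠ 0) :
    Fintype.card F * Nat.card {c : E // lam c = 0} = Fintype.card F ^ 2 := by
  classical
  obtain ⟨e, he⟩ : ∃ e, lam e ≠ 0 := by
    by_contra h
    push_neg at h
    exact hlam (LinearMap.ext h)
  have hcard : Fintype.card E = Fintype.card F ^ 2 := by
    rw [← hE]; exact Module.card_eq_pow_finrank (K := F) (V := E)
  let f : E ≃ F × {c : E // lam c = 0} :=
    { toFun := fun c => (lam c, ⟨c - (lam c / lam e) • e, by
        rw [map_sub, map_smul, smul_eq_mul, div_mul_cancel₀ _ he, sub_self]⟩)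
      invFun := fun p => p.2.1 + (p.1 / lam e) • e
      left_inv := fun c => by simp
      right_inv := fun p => by
        rcases p with ⟨a, c0, hc0⟩
        apply Prod.ext
        · simp [hc0, he]
        · apply Subtype.ext
          simp [hc0, he] }
  rw [← hcard, Nat.card_eq_fintype_card, ← Fintype.card_prod]
  exact (Fintype.card_congr f).symm

/-- COUNT -/
theorem hci_count {F : Type*} [Field F] [Fintype F] {ι : Type} [Fintype ι] [DecidableEq ι]
    {E : Type*} [Field E] [Fintype E] [Algebra F E] (hE : Module.finrank F E = 2) (h2 : (2 : E) ≠ 0)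
    (Q : (ι → F) → F) (lam : E →ₗ[F] F) (hlam : lam ≠ 0) (d k : ℕ) (hdk : d = 2 * k)
    (QE : (Fin d → E) → E) (hQE : IsNondegenerateQuadraticForm QE)
    (Ψ : (Fin d → E) ≃ (ι → F)) (hQ : ∀ w, Q (Ψ w) = lam (QE w)) :
    Fintype.card F * (Fintype.card F - 1) * sfoCount QE 1 + Nat.card {v : ι → F // Q v = 0} =
      Fintype.card F ^ (2 * d) := by
  classical
  have hker := h27_hci_ker_card hE lam hlam
  have hcardE : Fintype.card E = Fintype.card F ^ 2 := by
    rw [← hE]; exact Module.card_eq_pow_finrank (K := F) (V := E)
  have hqpos : 0 < Fintype.card F := Fintype.card_pos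
  -- all nonzero level sets have the same size
  obtain ⟨ε, -, hε⟩ := sfo_count_even (F := E) h2 d k hdk QE hQE
  have hN : ∀ c : E, c ≠ 0 → sfoCount QE c = sfoCount QE 1 := by
    intro c hc
    have h1 := hε c hc
    have h2' := hε 1 one_ne_zero
    exact_mod_cast h1.trans h2'.symm
  have hNc : ∀ c : E, (Finset.univ.filter (fun w : Fin d → E => QE w = c)).card = sfoCount QE c := by
    intro c
    rw [sfoCount, Nat.card_eq_fintype_card, Fintype.card_subtype]
  -- the zero set of `Q`
  have hQ0 : Nat.card {v : ι → F // Q v = 0} =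
      (Finset.univ.filter (fun w : Fin d → E => lam (QE w) = 0)).card := by
    rw [← Fintype.card_subtype, ← Nat.card_eq_fintype_card]
    apply Nat.card_congr
    exact (Ψ.subtypeEquiv (fun w => by rw [hQ])).symm
  -- total
  have htot : Fintype.card (Fin d → E) = Fintype.card F ^ (2 * d) := by
    rw [Fintype.card_fun, Fintype.card_fin, hcardE, ← pow_mul]
  have hsplit := Finset.card_filter_add_card_filter_not (s := (Finset.univ : Finset (Fin d → E)))
    (fun w : Fin d → E => lam (QE w) = 0)
  rw [Finset.card_univ, htot] at hsplit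
  -- the nonzero part
  have hB : (Finset.univ.filter (fun w : Fin d → E => ¬ lam (QE w) = 0)).card =
      (Finset.univ.filter (fun c : E => ¬ lam c = 0)).card * sfoCount QE 1 := by
    rw [Finset.card_eq_sum_card_fiberwise (f := QE)
      (t := Finset.univ.filter (fun c : E => ¬ lam c = 0))
      (fun w hw => by
        simp only [Finset.coe_filter, Finset.mem_univ, true_and, Set.mem_setOf_eq] at hw ⊢
        exact hw)]
    rw [Finset.sum_congr rfl (g := fun _ => sfoCount QE 1), Finset.sum_const, smul_eq_mul]
    intro c hc
    simp only [Finset.mem_filter, Finset.mem_univ, true_and] at hc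
    have hc0 : c ≠ 0 := by
      rintro rfl
      exact hc (map_zero lam)
    rw [← hN c hc0, ← hNc c]
    congr 1
    ext w
    simp only [Finset.mem_filter, Finset.mem_univ, true_and]
    constructor
    · rintro ⟨_, h⟩; exact h
    · intro h; exact ⟨by rw [h]; exact hc, h⟩
  have hT := Finset.card_filter_add_card_filter_not (s := (Finset.univ : Finset E))
    (fun c : E => lam c = 0)
  rw [Finset.card_univ, hcardE] at hT
  have hK : Nat.card {c : E // lam c = 0} = (Finset.univ.filter (fun c : E => lam c = 0)).card := by
    rw [Nat.card_eq_fintype_card, Fintype.card_subtype]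
  rw [hK] at hker
  have hKq : (Finset.univ.filter (fun c : E => lam c = 0)).card = Fintype.card F := by
    have : Fintype.card F * (Finset.univ.filter (fun c : E => lam c = 0)).card =
        Fintype.card F * Fintype.card F := by rw [hker, pow_two]
    exact Nat.eq_of_mul_eq_mul_left hqpos this
  rw [hKq] at hT
  have hTq : (Finset.univ.filter (fun c : E => ¬ lam c = 0)).card =
      Fintype.card F * (Fintype.card F - 1) := by
    have h1 : Fintype.card F * (Fintype.card F - 1) + Fintype.card F = Fintype.card F ^ 2 := by
      rw [pow_two, Nat.mul_sub_one, Nat.sub_add_cancel (Nat.le_mul_self _)]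
    omega
  rw [hQ0, ← hTq, ← hB, add_comm]
  exact hsplit

end Cfsg.Agent.Lib.helper99.HCI
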