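import Mathlib

set_option autoImplicit false

namespace Cfsg.Agent.Lib.helper27

theorem index_fifty_of_data {E : Type*} [Group E] [Finite E] (hE : Nat.card E = 378000)
    (hmin : ∀ H : Subgroup (E ⧸ Subgroup.center E), H ≠ ⊤ → 50 ≤ H.index)
    (K N : Subgroup E) (h27 : 27 ∣ Nat.card K) (h8 : 8 ∣ Nat.card K) (h5 : 5 ∣ Nat.card K)
    (h7 : 7 ∣ Nat.card K) (hKN : K ≤ N) (hZN : Subgroup.center E ≤ N) (hN : N ≠ ⊤) :
    ∃ H : Subgroup (E ⧸ Subgroup.center E), H.index = 50 := by
  classical
  refine ⟨K.map (QuotientGroup.mk' (Subgroup.center E)), ?_⟩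
  have hidx : (K.map (QuotientGroup.mk' (Subgroup.center E))).index
      = (K ⊔ Subgroup.center E).index := by
    rw [Subgroup.index_map, QuotientGroup.ker_mk',
      MonoidHom.range_eq_top.mpr (QuotientGroup.mk'_surjective _), Subgroup.index_top, mul_one]
  have hd1 : (K ⊔ Subgroup.center E).index ∣ K.index := Subgroup.index_dvd_of_le le_sup_left
  have hcard : Nat.card K * K.index = 378000 := by
    rw [Subgroup.card_mul_index, hE]
  have h7560 : 7560 ∣ Nat.card K := by
    have h1 : (27 * 8) ∣ Nat.card K :=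
      Nat.Coprime.mul_dvd_of_dvd_of_dvd (by norm_num) h27 h8
    have h2 : (27 * 8 * 5) ∣ Nat.card K :=
      Nat.Coprime.mul_dvd_of_dvd_of_dvd (by norm_num) h1 h5
    have h3 : (27 * 8 * 5 * 7) ∣ Nat.card K :=
      Nat.Coprime.mul_dvd_of_dvd_of_dvd (by norm_num) h2 h7
    simpa using h3
  have hd2 : K.index ∣ 50 := by
    obtain ⟨c, hc⟩ := h7560
    rw [hc] at hcard
    have : 7560 * (c * K.index) = 7560 * 50 := by rw [← mul_assoc, hcard]
    have h50 : c * K.index = 50 := Nat.eq_of_mul_eq_mul_left (by norm_num) this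
    exact Dvd.intro_left c h50
  have hd : (K.map (QuotientGroup.mk' (Subgroup.center E))).index ∣ 50 := by
    rw [hidx]; exact hd1.trans hd2
  have hne : K.map (QuotientGroup.mk' (Subgroup.center E)) ≠ ⊤ := by
    intro htop
    have h1 : (K ⊔ Subgroup.center E).index = 1 := by
      rw [← hidx, htop, Subgroup.index_top]
    have h2 : K ⊔ Subgroup.center E = ⊤ := Subgroup.index_eq_one.mp h1
    exact hN (top_le_iff.mp (h2 ▸ sup_le hKN hZN))
  have hge := hmin _ hne
  exact le_antisymm (Nat.le_of_dvd (by norm_num) hd) hge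

end Cfsg.Agent.Lib.helper27
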