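import Mathlib
import Cfsg.Prelude.Def_Local
import Cfsg.Prelude.Def_Balance
import Cfsg.Agent.Lib.helper27.Signalizer
import Cfsg.Agent.Lib.helper27.PComp

set_option autoImplicit false

namespace Cfsg.Agent.Lib.helper27

open Subgroup
open scoped commutatorElement
open scoped Pointwise

variable {G : Type*} [Group G]

/-! ### Basic facts on the family of a signalizer functor -/

section Family

variable {p : ℕ} {A : Subgroup G} {θ : G → Subgroup G}

theorem signalizerFamily_of_le {U V : Subgroup G} [Finite G]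
    (hU : U ∈ Cfsg.signalizerFamily p A θ) (hVU : V ≤ U)
    (hVA : ∀ b ∈ A, ∀ v ∈ V, b * v * b⁻¹ ∈ V) : V ∈ Cfsg.signalizerFamily p A θ := by
  obtain ⟨hs, hp, _, hc⟩ := hU
  refine ⟨?_, fun h => hp (h.trans (Subgroup.card_dvd_of_le hVU)), hVA,
    fun a ha ha1 => (inf_le_inf_right _ hVU).trans (hc a ha ha1)⟩
  exact Group.isSolvable_of_isSolvable_injective (f := Subgroup.inclusion hVU)
    (Subgroup.inclusion_injective hVU)

theorem signalizerFamily_theta (hθ : Cfsg.IsSolvableSignalizerFunctor p A θ) {a : G} (ha : a ∈ A)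
    (ha1 : a ≠ 1) : θ a ∈ Cfsg.signalizerFamily p A θ :=
  ⟨hθ.2 a ha ha1, hθ.1.2.1 a ha ha1, hθ.1.2.2.1 a ha ha1,
    fun b hb hb1 => hθ.1.2.2.2 a ha ha1 b hb hb1⟩

theorem le_normalizer_of_signalizerFamily {U : Subgroup G}
    (hU : U ∈ Cfsg.signalizerFamily p A θ) : A ≤ normalizer (U : Set G) :=
  Subgroup.le_normalizer_iff.mpr hU.2.2.1

theorem signalizerInf_le_theta {a : G} (ha : a ∈ A) (ha1 : a ≠ 1) :
    Cfsg.signalizerInf A θ ≤ θ a :=
  iInf_le (fun a : {a : G // a ∈ A ∧ a ≠ 1} => θ (a : G)) ⟨a, ha, ha1⟩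

theorem mem_signalizerInf_iff {c : G} :
    c ∈ Cfsg.signalizerInf A θ ↔ ∀ a ∈ A, a ≠ 1 → c ∈ θ a := by
  unfold Cfsg.signalizerInf
  rw [Subgroup.mem_iInf]
  constructor
  · intro h a ha ha1
    exact h ⟨a, ha, ha1⟩
  · intro h a
    exact h a a.2.1 a.2.2

theorem signalizerInf_commute (hθ : Cfsg.IsSignalizerFunctor p A θ) {c : G}
    (hc : c ∈ Cfsg.signalizerInf A θ) {a : G} (ha : a ∈ A) : c * a = a * c := by
  by_cases ha1 : a = 1
  · rw [ha1, mul_one, one_mul]
  · have h1 := hθ.1 a ha ha1 (mem_signalizerInf_iff.mp hc a ha ha1)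
    exact Subgroup.mem_centralizer_singleton_iff.mp h1

/-- members of the family fixed by `A` lie in the intersection of the `θ a`. -/
theorem mem_signalizerInf_of_mem_family {H : Subgroup G} (hH : H ∈ Cfsg.signalizerFamily p A θ)
    {h : G} (hh : h ∈ H) (hc : h ∈ centralizer (A : Set G)) : h ∈ Cfsg.signalizerInf A θ := by
  rw [mem_signalizerInf_iff]
  intro a ha ha1
  apply hH.2.2.2 a ha ha1
  refine Subgroup.mem_inf.mpr ⟨hh, ?_⟩
  rw [Subgroup.mem_centralizer_singleton_iff]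
  exact (Subgroup.mem_centralizer_iff.mp hc a ha).symm

/-- the family is invariant under conjugation by elements of the intersection of the `θ a`. -/
theorem signalizerFamily_map_conj (hθ : Cfsg.IsSignalizerFunctor p A θ) {U : Subgroup G}
    (hU : U ∈ Cfsg.signalizerFamily p A θ) {c : G} (hc : c ∈ Cfsg.signalizerInf A θ) :
    U.map (MulAut.conj c).toMonoidHom ∈ Cfsg.signalizerFamily p A θ := by
  obtain ⟨hs, hp, hA, hcen⟩ := hU
  refine ⟨?_, ?_, ?_, ?_⟩
  · exact Group.isSolvable_of_surjective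
      (f := (MulAut.conj c).toMonoidHom.subgroupMap U) (MonoidHom.subgroupMap_surjective _ _)
  · rw [Subgroup.card_map_of_injective (MulAut.conj c).injective]
    exact hp
  · rintro b hb _ ⟨u, hu, rfl⟩
    refine ⟨b * u * b⁻¹, hA b hb u hu, ?_⟩
    simp only [MulEquiv.coe_toMonoidHom, MulAut.conj_apply]
    have h1 := signalizerInf_commute hθ hc hb
    have h2 : c⁻¹ * b⁻¹ = b⁻¹ * c⁻¹ := by
      rw [← mul_inv_rev, ← mul_inv_rev, h1]
    calc c * (b * u * b⁻¹) * c⁻¹ = (c * b) * u * (b⁻¹ * c⁻¹) := by group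
      _ = (b * c) * u * (c⁻¹ * b⁻¹) := by rw [h1, h2]
      _ = b * (c * u * c⁻¹) * b⁻¹ := by group
  · intro a ha ha1
    intro x hx
    obtain ⟨hx1, hx2⟩ := Subgroup.mem_inf.mp hx
    obtain ⟨u, hu, rfl⟩ := hx1
    rw [Subgroup.mem_centralizer_singleton_iff] at hx2
    simp only [MulEquiv.coe_toMonoidHom, MulAut.conj_apply] at hx2 ⊢
    have h1 := signalizerInf_commute hθ hc ha
    have hca : c ∈ θ a := mem_signalizerInf_iff.mp hc a ha ha1
    have hu2 : u ∈ U ⊓ centralizer {a} := by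
      refine Subgroup.mem_inf.mpr ⟨hu, ?_⟩
      rw [Subgroup.mem_centralizer_singleton_iff]
      have h3 : c⁻¹ * a = a * c⁻¹ := by
        rw [eq_mul_inv_iff_mul_eq, mul_assoc, ← h1, ← mul_assoc, inv_mul_cancel, one_mul]
      calc u * a = c⁻¹ * ((c * u * c⁻¹) * a) * c := by rw [show c⁻¹ * ((c * u * c⁻¹) * a) * c = u * (c⁻¹ * a * c) by group, h3]; group
        _ = c⁻¹ * (a * (c * u * c⁻¹)) * c := by rw [hx2]
        _ = a * u := by rw [show c⁻¹ * (a * (c * u * c⁻¹)) * c = (c⁻¹ * a * c) * u by group, h3]; group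
    exact mul_mem (mul_mem hca (hcen a ha ha1 hu2)) (inv_mem hca)

end Family

end Cfsg.Agent.Lib.helper27
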