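import Mathlib
import Cfsg.Prelude.Def_Local
import Cfsg.Prelude.Def_Balance
import Cfsg.Agent.Lib.helper27.Transitivity

set_option autoImplicit false

namespace Cfsg.Agent.Lib.helper27

open Subgroup
open scoped commutatorElement
open scoped Pointwise

variable {G : Type*} [Group G]

section MaxQ

variable (p : ℕ) (A : Subgroup G) (θ : G → Subgroup G) (q : ℕ)

/-- `Q` is maximal among the `q`-subgroups in the family of `θ`. -/
def IsMaxQ (Q : Subgroup G) : Prop :=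
  Q ∈ Cfsg.signalizerFamily p A θ ∧ IsPGroup q ↥Q ∧
    ∀ R ∈ Cfsg.signalizerFamily p A θ, IsPGroup q ↥R → Q ≤ R → R = Q

/-- The transitivity property: any two maximal `q`-members of the family are conjugate under the
intersection of the `θ a`. -/
def TransitiveQ : Prop :=
  ∀ Q₁ Q₂ : Subgroup G, IsMaxQ p A θ q Q₁ → IsMaxQ p A θ q Q₂ →
    ∃ c ∈ Cfsg.signalizerInf A θ, Q₁.map (MulAut.conj c).toMonoidHom = Q₂

variable {p A θ q}

theorem exists_isMaxQ_ge [Finite G] {R : Subgroup G} (hR : R ∈ Cfsg.signalizerFamily p A θ)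
    (hRq : IsPGroup q ↥R) : ∃ Q : Subgroup G, IsMaxQ p A θ q Q ∧ R ≤ Q := by
  obtain ⟨Q, hRQ, hQ⟩ := Finite.exists_le_maximal
    (p := fun V : Subgroup G => V ∈ Cfsg.signalizerFamily p A θ ∧ IsPGroup q ↥V) (a := R) ⟨hR, hRq⟩
  refine ⟨Q, ⟨hQ.1.1, hQ.1.2, ?_⟩, hRQ⟩
  intro R' hR' hR'q hQR'
  exact le_antisymm (hQ.2 ⟨hR', hR'q⟩ hQR') hQR'

theorem bot_mem_signalizerFamily [Finite G] [hp : Fact p.Prime] :
    (⊥ : Subgroup G) ∈ Cfsg.signalizerFamily p A θ := by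
  refine ⟨Group.isSolvable_of_comm (fun a b => Subsingleton.elim _ _), ?_, ?_, ?_⟩
  · rw [Subgroup.card_bot]
    intro h
    exact hp.out.one_lt.ne' (Nat.dvd_one.mp h)
  · intro b _ u hu
    rw [Subgroup.mem_bot] at hu ⊢
    rw [hu]; group
  · intro a _ _
    exact inf_le_left.trans bot_le

theorem isPGroup_of_isElementaryAbelian (hA : Cfsg.IsElementaryAbelian p A) : IsPGroup p ↥A := by
  rintro ⟨a, ha⟩
  exact ⟨1, Subtype.ext (by simpa using hA.2 a ha)⟩

theorem coprime_card_of_isElementaryAbelian [Finite G] [hp : Fact p.Prime]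
    (hA : Cfsg.IsElementaryAbelian p A) {H : Subgroup G} (hH : ¬ p ∣ Nat.card ↥H) :
    (Nat.card ↥A).Coprime (Nat.card ↥H) := by
  obtain ⟨n, hn⟩ := IsPGroup.iff_card.mp (isPGroup_of_isElementaryAbelian hA)
  rw [hn]
  exact Nat.Coprime.pow_left n ((Nat.Prime.coprime_iff_not_dvd hp.out).mpr hH)

/-- `S1284` (a). -/
theorem exists_sylow_eq_conj_inf [Finite G] [hp : Fact p.Prime] [hq : Fact q.Prime]
    (hA : Cfsg.IsElementaryAbelian p A) (htrans : TransitiveQ p A θ q) {Q : Subgroup G}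
    (hQ : IsMaxQ p A θ q Q) {H : Subgroup G} (hH : H ∈ Cfsg.signalizerFamily p A θ) :
    ∃ c ∈ Cfsg.signalizerInf A θ, ∃ S : Sylow q ↥H,
      (S : Subgroup ↥H).map H.subtype = Q.map (MulAut.conj c).toMonoidHom ⊓ H := by
  obtain ⟨S, hS⟩ := Cfsg.Agent.Lib.helper1.exists_invariant_sylow (p := q) A H
    (le_normalizer_of_signalizerFamily hH) (coprime_card_of_isElementaryAbelian hA hH.2.1)
    (Or.inr hH.1)
  have hS'mem : (S : Subgroup ↥H).map H.subtype ∈ Cfsg.signalizerFamily p A θ :=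
    signalizerFamily_of_le hH (Subgroup.map_subtype_le _) (Subgroup.le_normalizer_iff.mp hS)
  have hS'q : IsPGroup q ↥((S : Subgroup ↥H).map H.subtype) := S.isPGroup'.map _
  obtain ⟨Q', hQ', hS'Q'⟩ := exists_isMaxQ_ge hS'mem hS'q
  obtain ⟨c, hc, hcQ⟩ := htrans Q Q' hQ hQ'
  refine ⟨c, hc, S, ?_⟩
  rw [hcQ]
  apply le_antisymm (le_inf hS'Q' (Subgroup.map_subtype_le _))
  have h1 : IsPGroup q ↥((Q' ⊓ H).subgroupOf H) := (hQ'.2.1.to_le inf_le_left).comap_subtype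
  have h2 : (S : Subgroup ↥H) ≤ (Q' ⊓ H).subgroupOf H := by
    intro s hs
    rw [Subgroup.mem_subgroupOf]
    exact Subgroup.mem_inf.mpr ⟨hS'Q' (Subgroup.mem_map_of_mem _ hs), s.2⟩
  have h3 := S.is_maximal' h1 h2
  intro x hx
  have hxH : x ∈ H := (Subgroup.mem_inf.mp hx).2
  refine ⟨⟨x, hxH⟩, ?_, rfl⟩
  rw [SetLike.mem_coe, ← h3, Subgroup.mem_subgroupOf]
  exact hx

theorem signalizerInf_mem_signalizerFamily [Finite G] (hθ : Cfsg.IsSolvableSignalizerFunctor p A θ)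
    {B : Subgroup G} (hBA : B ≤ A) (hB : B ≠ ⊥) :
    Cfsg.signalizerInf B θ ∈ Cfsg.signalizerFamily p A θ := by
  obtain ⟨b₀, hb₀, hb₀1⟩ : ∃ b ∈ B, b ≠ 1 := by
    by_contra hcon
    apply hB
    rw [Subgroup.eq_bot_iff_forall]
    intro x hx
    by_contra hx1
    exact hcon ⟨x, hx, hx1⟩
  apply signalizerFamily_of_le (signalizerFamily_theta hθ (hBA hb₀) hb₀1)
    (signalizerInf_le_theta hb₀ hb₀1)
  intro b hb v hv
  rw [mem_signalizerInf_iff] at hv ⊢
  intro b' hb' hb'1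
  exact hθ.1.2.2.1 b' (hBA hb') hb'1 b hb v (hv b' hb' hb'1)

theorem inf_centralizer_eq_inf_signalizerInf (hθ : Cfsg.IsSignalizerFunctor p A θ)
    {Q : Subgroup G} (hQ : Q ∈ Cfsg.signalizerFamily p A θ) {B : Subgroup G} (hBA : B ≤ A) :
    Q ⊓ centralizer (B : Set G) = Q ⊓ Cfsg.signalizerInf B θ := by
  apply le_antisymm
  · intro x hx
    obtain ⟨hxQ, hxC⟩ := Subgroup.mem_inf.mp hx
    refine Subgroup.mem_inf.mpr ⟨hxQ, ?_⟩
    rw [mem_signalizerInf_iff]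
    intro b hb hb1
    apply hQ.2.2.2 b (hBA hb) hb1
    refine Subgroup.mem_inf.mpr ⟨hxQ, ?_⟩
    rw [Subgroup.mem_centralizer_singleton_iff]
    exact (Subgroup.mem_centralizer_iff.mp hxC b hb).symm
  · intro x hx
    obtain ⟨hxQ, hxH⟩ := Subgroup.mem_inf.mp hx
    refine Subgroup.mem_inf.mpr ⟨hxQ, ?_⟩
    rw [Subgroup.mem_centralizer_iff]
    intro b hb
    by_cases hb1 : b = 1
    · rw [hb1, mul_one, one_mul]
    · have h1 := hθ.1 b (hBA hb) hb1 (mem_signalizerInf_iff.mp hxH b hb hb1)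
      exact (Subgroup.mem_centralizer_singleton_iff.mp h1).symm

/-- `S1284` (b). -/
theorem exists_sylow_eq_inf_centralizer [Finite G] [hp : Fact p.Prime] [hq : Fact q.Prime]
    (hA : Cfsg.IsElementaryAbelian p A) (hθ : Cfsg.IsSolvableSignalizerFunctor p A θ)
    (htrans : TransitiveQ p A θ q) {Q : Subgroup G}
    (hQ : IsMaxQ p A θ q Q) {B : Subgroup G} (hBA : B ≤ A) (hB : B ≠ ⊥) :
    ∃ S : Sylow q ↥(Cfsg.signalizerInf B θ),
      (S : Subgroup ↥(Cfsg.signalizerInf B θ)).map (Cfsg.signalizerInf B θ).subtype =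
        Q ⊓ centralizer (B : Set G) := by
  have hH := signalizerInf_mem_signalizerFamily hθ hBA hB
  obtain ⟨c, hc, S, hS⟩ := exists_sylow_eq_conj_inf hA htrans hQ hH
  have hcH : c ∈ Cfsg.signalizerInf B θ := by
    rw [mem_signalizerInf_iff]
    intro b hb hb1
    exact mem_signalizerInf_iff.mp hc b (hBA hb) hb1
  have hmap : (Q ⊓ Cfsg.signalizerInf B θ).map (MulAut.conj c).toMonoidHom =
      Q.map (MulAut.conj c).toMonoidHom ⊓ Cfsg.signalizerInf B θ := by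
    rw [Subgroup.map_inf _ _ _ (MulAut.conj c).injective]
    congr 1
    exact Subgroup.mem_normalizer_iff_map_conj_eq.mp (Subgroup.le_normalizer hcH)
  have hcard : Nat.card ↥((Q ⊓ Cfsg.signalizerInf B θ).subgroupOf (Cfsg.signalizerInf B θ)) =
      q ^ (Nat.card ↥(Cfsg.signalizerInf B θ)).factorization q := by
    have e1 : Nat.card ↥(Q ⊓ Cfsg.signalizerInf B θ) =
        Nat.card ↥((Q ⊓ Cfsg.signalizerInf B θ).map (MulAut.conj c).toMonoidHom) :=
      (Subgroup.card_map_of_injective (f := (MulAut.conj c).toMonoidHom)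
        (MulAut.conj c).injective).symm
    rw [card_subgroupOf_of_le inf_le_right, e1, hmap, ← hS, card_map_subtype,
      S.card_eq_multiplicity]
  refine ⟨Sylow.ofCard _ hcard, ?_⟩
  rw [Sylow.coe_ofCard, Subgroup.map_subgroupOf_eq_of_le inf_le_right,
    inf_centralizer_eq_inf_signalizerInf hθ.1 hQ.1 hBA]

/-- `S1285`. -/
theorem isCompleteSignalizerFunctor_of_isPGroup [Finite G] [hp : Fact p.Prime] [hq : Fact q.Prime]
    (hθ : Cfsg.IsSolvableSignalizerFunctor p A θ)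
    (htrans : (∃ a ∈ A, a ≠ 1 ∧ q ∣ Nat.card ↥(θ a)) → TransitiveQ p A θ q)
    (hqθ : ∀ a ∈ A, a ≠ 1 → IsPGroup q ↥(θ a)) : Cfsg.IsCompleteSignalizerFunctor p A θ := by
  by_cases hex : ∃ a ∈ A, a ≠ 1 ∧ q ∣ Nat.card ↥(θ a)
  · have htr := htrans hex
    obtain ⟨Q, hQ, -⟩ := exists_isMaxQ_ge (bot_mem_signalizerFamily (p := p) (A := A) (θ := θ))
      (IsPGroup.of_bot : IsPGroup q ↥(⊥ : Subgroup G))
    refine ⟨hθ.1, Q, hQ.1.2.2.1, hQ.1.2.1, fun a ha ha1 =>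
      le_antisymm (hQ.1.2.2.2 a ha ha1) (le_inf ?_ (hθ.1.1 a ha ha1))⟩
    obtain ⟨Q', hQ', hθQ'⟩ := exists_isMaxQ_ge (signalizerFamily_theta hθ ha ha1) (hqθ a ha ha1)
    obtain ⟨c, hc, hcQ⟩ := htr Q' Q hQ' hQ
    have hca : c ∈ θ a := mem_signalizerInf_iff.mp hc a ha ha1
    intro x hx
    rw [← hcQ]
    refine ⟨c⁻¹ * x * c, hθQ' (mul_mem (mul_mem (inv_mem hca) hx) hca), ?_⟩
    simp only [MulEquiv.coe_toMonoidHom, MulAut.conj_apply]
    group
  · refine ⟨hθ.1, ⊥, ?_, ?_, ?_⟩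
    · intro b _ x hx
      rw [Subgroup.mem_bot] at hx ⊢
      rw [hx]; group
    · rw [Subgroup.card_bot]
      intro h
      exact hp.out.one_lt.ne' (Nat.dvd_one.mp h)
    · intro a ha ha1
      rw [bot_inf_eq]
      symm
      by_contra hne
      apply hex
      refine ⟨a, ha, ha1, ?_⟩
      obtain ⟨n, hn⟩ := IsPGroup.iff_card.mp (hqθ a ha ha1)
      rw [hn]
      have hn0 : n ≠ 0 := by
        intro h0
        rw [h0, pow_zero] at hn
        exact hne ((Subgroup.card_eq_one).mp hn)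
      exact dvd_pow_self q hn0

end MaxQ

end Cfsg.Agent.Lib.helper27
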