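import Mathlib
import Cfsg.Prelude.Def_Local
import Cfsg.Prelude.Def_Balance
import Cfsg.Agent.Lib.helper27.ClosedComplete
import Cfsg.Agent.Lib.helper27.PLocal3
import Cfsg.Agent.Lib.helper27.Transitivity2

set_option autoImplicit false

/-!
# The `k`-balanced signalizer functor (`S1299`)

For a `k`-balanced group `G` and an elementary abelian `p`-subgroup `A` of rank at least `k + 2`
whose elements have solvable `O_{p'}(C_G(a))`, the functor
`a ↦ ⟨Δ_G(D) ∩ C_G(a) : D ≤ A, |D| = p ^ k⟩` is an `A`-signalizer functor.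
-/

namespace Cfsg.Agent.Lib.helper27

open Subgroup

variable {G : Type*} [Group G]

section KBal

variable (p : ℕ)

theorem centralizerPPrimeCore_le_centralizer_sing (x : G) :
    Cfsg.centralizerPPrimeCore p x ≤ centralizer ({x} : Set G) :=
  Subgroup.map_subtype_le _

theorem conj_mem_centralizerPPrimeCore (x b y : G) (hb : b * x = x * b)
    (hy : y ∈ Cfsg.centralizerPPrimeCore p x) : b * y * b⁻¹ ∈ Cfsg.centralizerPPrimeCore p x := by
  obtain ⟨v, hv, rfl⟩ := hy
  have hbC : b ∈ centralizer ({x} : Set G) := Subgroup.mem_centralizer_singleton_iff.mpr hb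
  exact ⟨⟨b, hbC⟩ * v * ⟨b, hbC⟩⁻¹, Subgroup.Normal.conj_mem inferInstance v hv _, rfl⟩

theorem signalizerDelta_le_core (D : Subgroup G) {d : G} (hd : d ∈ D) (hd1 : d ≠ 1) :
    Cfsg.signalizerDelta p D ≤ Cfsg.centralizerPPrimeCore p d :=
  iInf_le (fun a : {a : G // a ∈ D ∧ a ≠ 1} => Cfsg.centralizerPPrimeCore p (a : G)) ⟨d, hd, hd1⟩

theorem signalizerDelta_antitone {D D' : Subgroup G} (h : D ≤ D') :
    Cfsg.signalizerDelta p D' ≤ Cfsg.signalizerDelta p D :=
  le_iInf fun d => signalizerDelta_le_core p D' (h d.2.1) d.2.2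

/-- `Δ(D)` centralizes `D`. -/
theorem le_centralizer_singleton_of_mem_signalizerDelta (D : Subgroup G) {u : G}
    (hu : u ∈ Cfsg.signalizerDelta p D) : D ≤ centralizer ({u} : Set G) := by
  intro d hd
  rw [Subgroup.mem_centralizer_singleton_iff]
  by_cases hd1 : d = 1
  · rw [hd1]; simp
  · have h1 := centralizerPPrimeCore_le_centralizer_sing p d (signalizerDelta_le_core p D hd hd1 hu)
    exact (Subgroup.mem_centralizer_singleton_iff.mp h1).symm

theorem le_normalizer_signalizerDelta (A D : Subgroup G)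
    (hAc : ∀ a ∈ A, ∀ b ∈ A, a * b = b * a) (hD : D ≤ A) :
    A ≤ normalizer ((Cfsg.signalizerDelta p D : Subgroup G) : Set G) := by
  apply le_normalizer_of_conj_mem
  intro b hb u hu
  unfold Cfsg.signalizerDelta at hu ⊢
  rw [Subgroup.mem_iInf] at hu ⊢
  intro d
  exact conj_mem_centralizerPPrimeCore p d.1 b u (hAc b hb d.1 (hD d.2.1)) (hu d)

theorem le_normalizer_centralizer_singleton (A : Subgroup G)
    (hAc : ∀ a ∈ A, ∀ b ∈ A, a * b = b * a) {a : G} (ha : a ∈ A) :
    A ≤ normalizer ((centralizer ({a} : Set G) : Subgroup G) : Set G) := by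
  apply le_normalizer_of_conj_mem
  intro b hb u hu
  rw [Subgroup.mem_centralizer_singleton_iff] at hu ⊢
  have hba : b * a = a * b := hAc b hb a ha
  have hba' : b⁻¹ * a = a * b⁻¹ := (Commute.inv_left (show Commute b a from hba)).eq
  calc b * u * b⁻¹ * a = b * u * (b⁻¹ * a) := by group
    _ = b * u * (a * b⁻¹) := by rw [hba']
    _ = b * (u * a) * b⁻¹ := by group
    _ = b * (a * u) * b⁻¹ := by rw [hu]
    _ = (b * a) * u * b⁻¹ := by group
    _ = (a * b) * u * b⁻¹ := by rw [hba]
    _ = a * (b * u * b⁻¹) := by group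

variable [Finite G] [hp : Fact p.Prime]

theorem not_dvd_card_signalizerDelta (D : Subgroup G) {d : G} (hd : d ∈ D) (hd1 : d ≠ 1) :
    ¬ p ∣ Nat.card ↥(Cfsg.signalizerDelta p D) := by
  intro h
  have h1 := h.trans (Subgroup.card_dvd_of_le (signalizerDelta_le_core p D hd hd1))
  exact (Nat.Prime.coprime_iff_not_dvd hp.out).mp (map_pPrimeCore_coprime p _).symm h1

/-- A subgroup of exponent `p` and order at least `p ^ k` contains a subgroup of order `p ^ k`. -/
theorem exists_le_card_eq_pow (F : Subgroup G) (hFp : ∀ a ∈ F, a ^ p = 1) (k : ℕ)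
    (h : p ^ k ≤ Nat.card F) : ∃ D : Subgroup G, D ≤ F ∧ Nat.card D = p ^ k := by
  have hP : IsPGroup p ↥F := by
    rintro ⟨a, ha⟩
    exact ⟨1, Subtype.ext (by simpa using hFp a ha)⟩
  obtain ⟨m, hm⟩ := IsPGroup.iff_card.mp hP
  have hkm : k ≤ m := by
    rw [hm] at h
    exact (Nat.pow_le_pow_iff_right hp.out.one_lt).mp h
  have hdvd : p ^ k ∣ Nat.card ↥F := by
    rw [hm]; exact pow_dvd_pow p hkm
  obtain ⟨K, hK⟩ := Sylow.exists_subgroup_card_pow_prime p hdvd
  refine ⟨K.map F.subtype, Subgroup.map_subtype_le K, ?_⟩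
  rw [Subgroup.card_map_of_injective F.subtype_injective, hK]

variable {p} in
/-- Extended `k`-balance: for `F ≤ A` of order at least `p ^ k`. -/
theorem kBalanced_ge {k : ℕ} (hbal : Cfsg.IsKBalanced p k G) (A : Subgroup G)
    (hAc : ∀ a ∈ A, ∀ b ∈ A, a * b = b * a) (hAp : ∀ a ∈ A, a ^ p = 1)
    (F : Subgroup G) (hFA : F ≤ A) (hF : p ^ k ≤ Nat.card F) {x : G} (hx : x ∈ A) (hx1 : x ≠ 1) :
    Cfsg.signalizerDelta p F ⊓ centralizer ({x} : Set G) ≤ Cfsg.centralizerPPrimeCore p x := by
  obtain ⟨D, hDF, hDcard⟩ := exists_le_card_eq_pow p F (fun a ha => hAp a (hFA ha)) k hF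
  have hDA : D ≤ A := hDF.trans hFA
  have hDel : Cfsg.IsElementaryAbelian p D :=
    ⟨⟨⟨fun a b => Subtype.ext (hAc _ (hDA a.2) _ (hDA b.2))⟩⟩, fun a ha => hAp a (hDA ha)⟩
  have h1 := hbal D hDel hDcard x (orderOf_eq_prime (hAp x hx) hx1)
    (fun a ha => hAc a (hDA ha) x hx)
  exact (inf_le_inf_right _ (signalizerDelta_antitone p hDF)).trans h1

variable {p} in
/-- `Δ(F) ∩ C(B) ≤ Δ(F ⊔ B)` for `F ≤ A` of order at least `p ^ k` and `B ≤ A`. -/
theorem signalizerDelta_inf_centralizer_le {k : ℕ} (hbal : Cfsg.IsKBalanced p k G)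
    (A : Subgroup G) (hAc : ∀ a ∈ A, ∀ b ∈ A, a * b = b * a) (hAp : ∀ a ∈ A, a ^ p = 1)
    (F B : Subgroup G) (hFA : F ≤ A) (hBA : B ≤ A) (hF : p ^ k ≤ Nat.card F) :
    Cfsg.signalizerDelta p F ⊓ centralizer (B : Set G) ≤ Cfsg.signalizerDelta p (F ⊔ B) := by
  intro u hu
  obtain ⟨hu1, hu2⟩ := Subgroup.mem_inf.mp hu
  have hFu : F ≤ centralizer ({u} : Set G) := le_centralizer_singleton_of_mem_signalizerDelta p F hu1
  have hBu : B ≤ centralizer ({u} : Set G) := by
    intro b hb
    rw [Subgroup.mem_centralizer_singleton_iff]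
    exact Subgroup.mem_centralizer_iff.mp hu2 b hb
  have hFBu : F ⊔ B ≤ centralizer ({u} : Set G) := sup_le hFu hBu
  unfold Cfsg.signalizerDelta
  rw [Subgroup.mem_iInf]
  rintro ⟨x, hx, hx1⟩
  have hxA : x ∈ A := (sup_le hFA hBA) hx
  have hxu : u ∈ centralizer ({x} : Set G) := by
    rw [Subgroup.mem_centralizer_singleton_iff]
    exact (Subgroup.mem_centralizer_singleton_iff.mp (hFBu hx)).symm
  exact kBalanced_ge hbal A hAc hAp F hFA hF hxA hx1 (Subgroup.mem_inf.mpr ⟨hu1, hxu⟩)

theorem relIndex_ne_zero_of_finite (H K : Subgroup G) : H.relIndex K ≠ 0 := by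
  unfold Subgroup.relIndex
  exact Subgroup.index_ne_zero_of_finite

/-- `Θ(F)`: the subgroup generated by the `Δ(E)` for `F ≤ E ≤ A` of index at most `p` in `A`. -/
def bigTheta (A F : Subgroup G) : Subgroup G :=
  ⨆ E : {E : Subgroup G // F ≤ E ∧ E ≤ A ∧ E.relIndex A ≤ p},
    Cfsg.signalizerDelta p (E : Subgroup G)

theorem bigTheta_antitone (A : Subgroup G) {F F' : Subgroup G} (h : F ≤ F') :
    bigTheta p A F' ≤ bigTheta p A F := by
  unfold bigTheta
  apply iSup_le
  rintro ⟨E, hFE, hEA, hEi⟩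
  exact le_iSup (fun E : {E : Subgroup G // F ≤ E ∧ E ≤ A ∧ E.relIndex A ≤ p} =>
    Cfsg.signalizerDelta p (E : Subgroup G)) ⟨E, h.trans hFE, hEA, hEi⟩

theorem bigTheta_le_delta (A F : Subgroup G) : bigTheta p A F ≤ Cfsg.signalizerDelta p F := by
  unfold bigTheta
  apply iSup_le
  rintro ⟨E, hFE, hEA, hEi⟩
  exact signalizerDelta_antitone p hFE

theorem le_normalizer_bigTheta (A F : Subgroup G) (hAc : ∀ a ∈ A, ∀ b ∈ A, a * b = b * a) :
    A ≤ normalizer ((bigTheta p A F : Subgroup G) : Set G) := by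
  unfold bigTheta
  apply Cfsg.Agent.Lib.helper37.le_normalizer_iSup
  rintro ⟨E, hFE, hEA, hEi⟩
  exact le_normalizer_signalizerDelta p A E hAc hEA

theorem exists_ne_one_of_pow_le_card {k : ℕ} (hk : 1 ≤ k) (F : Subgroup G)
    (hF : p ^ k ≤ Nat.card F) : ∃ f ∈ F, f ≠ 1 := by
  have h2 : 1 < Nat.card ↥F := lt_of_lt_of_le (Nat.one_lt_pow (by omega) hp.out.one_lt) hF
  have : Nontrivial ↥F := Finite.one_lt_card_iff_nontrivial.mp h2
  obtain ⟨b, hb⟩ := exists_ne (1 : ↥F)
  exact ⟨b.1, b.2, fun h => hb (Subtype.ext h)⟩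

variable {p} in
theorem bigTheta_eq_delta {k : ℕ} (hk : 1 ≤ k) (hbal : Cfsg.IsKBalanced p k G)
    (A : Subgroup G) (hAc : ∀ a ∈ A, ∀ b ∈ A, a * b = b * a) (hAp : ∀ a ∈ A, a ^ p = 1)
    (F : Subgroup G) (hFA : F ≤ A) (hF : p ^ k ≤ Nat.card F) :
    bigTheta p A F = Cfsg.signalizerDelta p F := by
  apply le_antisymm (bigTheta_le_delta p A F)
  obtain ⟨f, hf, hf1⟩ := exists_ne_one_of_pow_le_card p hk F hF
  have hgen := Cfsg.Agent.Lib.helper37.coprime_gen_hyperplane p A (Cfsg.signalizerDelta p F)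
    hAc hAp (not_dvd_card_signalizerDelta p F hf hf1) (le_normalizer_signalizerDelta p A F hAc hFA)
  rw [hgen]
  apply iSup_le
  rintro ⟨B, hBA, hBi⟩
  refine (signalizerDelta_inf_centralizer_le hbal A hAc hAp F B hFA hBA hF).trans ?_
  exact le_iSup (fun E : {E : Subgroup G // F ≤ E ∧ E ≤ A ∧ E.relIndex A ≤ p} =>
    Cfsg.signalizerDelta p (E : Subgroup G)) ⟨F ⊔ B, le_sup_left, sup_le hFA hBA,
      (Subgroup.relIndex_le_of_le_left le_sup_right (relIndex_ne_zero_of_finite B A)).trans hBi⟩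

variable {p} in
/-- The inductive step for the main claim. -/
theorem bigTheta_step {k : ℕ} (hk : 1 ≤ k) (hbal : Cfsg.IsKBalanced p k G)
    (A : Subgroup G) (hAc : ∀ a ∈ A, ∀ b ∈ A, a * b = b * a) (hAp : ∀ a ∈ A, a ^ p = 1)
    (hAk : p ^ (k + 2) ≤ Nat.card ↥A)
    (hsolv : ∀ a ∈ A, a ≠ 1 → Group.IsSolvable ↥(Cfsg.centralizerPPrimeCore p a))
    (F : Subgroup G) (hFA : F ≤ A) (hF1 : F ≠ ⊥)
    (hIH : ∀ F' : Subgroup G, F' ≤ A → F < F' → ∀ x ∈ A,
      bigTheta p A F' ⊓ centralizer ({x} : Set G) ≤ bigTheta p A (F' ⊔ zpowers x))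
    (x : G) (hx : x ∈ A) :
    bigTheta p A F ⊓ centralizer ({x} : Set G) ≤ bigTheta p A (F ⊔ zpowers x) := by
  have hxA : zpowers x ≤ A := Subgroup.zpowers_le.mpr hx
  by_cases hF : p ^ k ≤ Nat.card F
  · have hF' : p ^ k ≤ Nat.card ↥(F ⊔ zpowers x) :=
      hF.trans (Subgroup.card_le_of_le le_sup_left)
    rw [bigTheta_eq_delta hk hbal A hAc hAp F hFA hF,
      bigTheta_eq_delta hk hbal A hAc hAp (F ⊔ zpowers x) (sup_le hFA hxA) hF']
    have := signalizerDelta_inf_centralizer_le hbal A hAc hAp F (zpowers x) hFA hxA hF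
    rwa [← centralizer_singleton_eq_centralizer_zpowers] at this
  · by_cases hxF : x ∈ F
    · have : F ⊔ zpowers x = F := sup_eq_left.mpr (Subgroup.zpowers_le.mpr hxF)
      rw [this]
      exact inf_le_left
    · have hP : IsPGroup p ↥F := by
        rintro ⟨a, ha⟩
        exact ⟨1, Subtype.ext (by simpa using hAp a (hFA ha))⟩
      obtain ⟨m, hm⟩ := IsPGroup.iff_card.mp hP
      have hmk : m < k := by
        rw [hm] at hF
        by_contra h
        exact hF (Nat.pow_le_pow_right hp.out.pos (not_lt.mp h))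
      have hcard : p ^ 3 * Nat.card F ≤ Nat.card A := by
        rw [hm, ← pow_add]
        exact (Nat.pow_le_pow_right hp.out.pos (by omega)).trans hAk
      obtain ⟨f, hf, hf1⟩ : ∃ f ∈ F, f ≠ 1 := by
        by_contra hcon
        apply hF1
        rw [Subgroup.eq_bot_iff_forall]
        intro y hy
        by_contra hy1
        exact hcon ⟨y, hy, hy1⟩
      have hfA : f ∈ A := hFA hf
      have hle : bigTheta p A F ≤ Cfsg.centralizerPPrimeCore p f :=
        (bigTheta_le_delta p A F).trans (signalizerDelta_le_core p F hf hf1)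
      have hYs : Group.IsSolvable ↥(bigTheta p A F) := by
        have := hsolv f hfA hf1
        exact Group.isSolvable_of_isSolvable_injective (Subgroup.inclusion_injective hle)
      have hYp : ¬ p ∣ Nat.card ↥(bigTheta p A F) := fun h =>
        not_dvd_card_signalizerDelta p F hf hf1
          (h.trans (Subgroup.card_dvd_of_le (bigTheta_le_delta p A F)))
      have hne1 : ∀ a : G, a ∉ F → a ≠ 1 := fun a ha h => ha (h ▸ F.one_mem)
      have hcc := closed_complete p A F hAc hAp hcard (bigTheta p A F)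
        (fun a => bigTheta p A (F ⊔ zpowers a)) hYs hYp (le_normalizer_bigTheta p A F hAc)
        (fun a ha haF => (bigTheta_le_delta p A (F ⊔ zpowers a)).trans
          ((signalizerDelta_le_core p (F ⊔ zpowers a)
            ((le_sup_right : zpowers a ≤ F ⊔ zpowers a) (Subgroup.mem_zpowers a))
            (hne1 a haF)).trans (centralizerPPrimeCore_le_centralizer_sing p a)))
        (fun a ha haF => le_normalizer_bigTheta p A (F ⊔ zpowers a) hAc)
        (fun a ha haF b hb hbF =>
          (hIH (F ⊔ zpowers a) (sup_le hFA (Subgroup.zpowers_le.mpr ha))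
            (left_lt_sup.mpr (fun h => haF (h (Subgroup.mem_zpowers a)))) b hb).trans
            (bigTheta_antitone p A (sup_le (le_sup_left.trans le_sup_left) le_sup_right)))
        (by
          apply le_antisymm
          · unfold bigTheta
            apply iSup_le
            rintro ⟨E, hFE, hEA, hEi⟩
            obtain ⟨y, hyE, hyF⟩ : ∃ y ∈ E, y ∉ F := by
              by_contra hcon
              have hEF : E ≤ F := by
                intro y hy
                by_contra hyF
                exact hcon ⟨y, hy, hyF⟩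
              have h1 := Subgroup.card_le_of_le hEF
              have h2 := card_mul_relIndex_eq hEA
              have h3 : Nat.card A ≤ Nat.card F * p := by
                rw [← h2]
                exact Nat.mul_le_mul h1 hEi
              have hF0 : 0 < Nat.card F := Nat.card_pos
              have h4 : Nat.card F * p < p ^ 3 * Nat.card F := by
                have h7 := hp.out.two_le
                have h8 : p ^ 3 * Nat.card F = Nat.card F * p * (p * p) := by ring
                rw [h8]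
                have h9 : 0 < Nat.card F * p := Nat.mul_pos hF0 (by omega)
                have h10 : 1 < p * p := by nlinarith
                nlinarith
              omega
            refine le_trans ?_ (le_iSup (fun a : {a : G // a ∈ A ∧ a ∉ F} =>
              ⨆ E : {E : Subgroup G // F ⊔ zpowers (a : G) ≤ E ∧ E ≤ A ∧ E.relIndex A ≤ p},
                Cfsg.signalizerDelta p (E : Subgroup G)) ⟨y, hEA hyE, hyF⟩)
            exact le_iSup (fun E' : {E : Subgroup G // F ⊔ zpowers y ≤ E ∧ E ≤ A ∧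
              E.relIndex A ≤ p} => Cfsg.signalizerDelta p (E' : Subgroup G))
              ⟨E, sup_le hFE (Subgroup.zpowers_le.mpr hyE), hEA, hEi⟩
          · exact iSup_le fun a => bigTheta_antitone p A le_sup_left)
        x hx hxF
      exact hcc.le

variable {p} in
/-- The main claim: `Θ(F) ∩ C(x) ≤ Θ(F ⊔ ⟨x⟩)` for every nontrivial `F ≤ A` and `x ∈ A`. -/
theorem bigTheta_inf_centralizer_le {k : ℕ} (hk : 1 ≤ k) (hbal : Cfsg.IsKBalanced p k G)
    (A : Subgroup G) (hAc : ∀ a ∈ A, ∀ b ∈ A, a * b = b * a) (hAp : ∀ a ∈ A, a ^ p = 1)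
    (hAk : p ^ (k + 2) ≤ Nat.card ↥A)
    (hsolv : ∀ a ∈ A, a ≠ 1 → Group.IsSolvable ↥(Cfsg.centralizerPPrimeCore p a))
    (F : Subgroup G) : F ≤ A → F ≠ ⊥ → ∀ x ∈ A,
      bigTheta p A F ⊓ centralizer ({x} : Set G) ≤ bigTheta p A (F ⊔ zpowers x) := by
  induction F using WellFoundedGT.induction with
  | ind F ih =>
    intro hFA hF1 x hx
    exact bigTheta_step hk hbal A hAc hAp hAk hsolv F hFA hF1
      (fun F' hF'A hlt => ih F' hlt hF'A (ne_bot_of_gt hlt)) x hx

variable {p} in
/-- **`S1299`**: the `k`-balanced functor is a signalizer functor. -/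
theorem isSignalizerFunctor_kBalanced {k : ℕ} (hk : 1 ≤ k) (hbal : Cfsg.IsKBalanced p k G)
    (A : Subgroup G) (hA : Cfsg.IsElementaryAbelian p A) (hAk : p ^ (k + 2) ≤ Nat.card ↥A)
    (hsolv : ∀ a ∈ A, a ≠ 1 → Group.IsSolvable ↥(Cfsg.centralizerPPrimeCore p a)) :
    Cfsg.IsSignalizerFunctor p A (fun a => ⨆ D : {D : Subgroup G // D ≤ A ∧ Nat.card ↥D = p ^ k},
      Cfsg.signalizerDelta p (D : Subgroup G) ⊓ Subgroup.centralizer {a}) := by
  have hAc : ∀ a ∈ A, ∀ b ∈ A, a * b = b * a := by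
    intro a ha b hb
    have := hA.1
    exact congrArg Subtype.val (mul_comm' (⟨a, ha⟩ : A) ⟨b, hb⟩)
  have hAp : ∀ a ∈ A, a ^ p = 1 := hA.2
  -- each value lies in `O_{p'}(C(a))`
  have hcore : ∀ a ∈ A, a ≠ 1 →
      (⨆ D : {D : Subgroup G // D ≤ A ∧ Nat.card ↥D = p ^ k},
        Cfsg.signalizerDelta p (D : Subgroup G) ⊓ Subgroup.centralizer {a}) ≤
        Cfsg.centralizerPPrimeCore p a := by
    intro a ha ha1
    apply iSup_le
    rintro ⟨D, hDA, hDc⟩
    exact kBalanced_ge hbal A hAc hAp D hDA (le_of_eq hDc.symm) ha ha1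
  have hAθ : ∀ a ∈ A, A ≤ normalizer (((⨆ D : {D : Subgroup G // D ≤ A ∧ Nat.card ↥D = p ^ k},
        Cfsg.signalizerDelta p (D : Subgroup G) ⊓ Subgroup.centralizer {a}) : Subgroup G) : Set G) := by
    intro a ha
    apply Cfsg.Agent.Lib.helper37.le_normalizer_iSup
    rintro ⟨D, hDA, hDc⟩
    exact le_normalizer_inf_of_le (le_normalizer_signalizerDelta p A D hAc hDA)
      (le_normalizer_centralizer_singleton A hAc ha)
  refine ⟨?_, ?_, ?_, ?_⟩
  · intro a _ _
    exact iSup_le fun D => inf_le_right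
  · intro a ha ha1 hd
    have h1 := hd.trans (Subgroup.card_dvd_of_le (hcore a ha ha1))
    exact (Nat.Prime.coprime_iff_not_dvd hp.out).mp (map_pPrimeCore_coprime p _).symm h1
  · intro a ha _ b hb x hx
    exact conj_mem_of_le_normalizer (hAθ a ha) hb hx
  · intro a ha ha1 b hb hb1
    -- step 1: `θ a ≤ Θ(⟨a⟩)`
    have h1 : (⨆ D : {D : Subgroup G // D ≤ A ∧ Nat.card ↥D = p ^ k},
        Cfsg.signalizerDelta p (D : Subgroup G) ⊓ Subgroup.centralizer {a}) ≤
        bigTheta p A (zpowers a) := by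
      apply iSup_le
      rintro ⟨D, hDA, hDc⟩
      have hUle : Cfsg.signalizerDelta p D ⊓ Subgroup.centralizer {a} ≤
          Cfsg.centralizerPPrimeCore p a :=
        kBalanced_ge hbal A hAc hAp D hDA (le_of_eq hDc.symm) ha ha1
      have hUp : ¬ p ∣ Nat.card ↥(Cfsg.signalizerDelta p D ⊓ Subgroup.centralizer {a}) := by
        intro hd
        have h1 := hd.trans (Subgroup.card_dvd_of_le hUle)
        exact (Nat.Prime.coprime_iff_not_dvd hp.out).mp (map_pPrimeCore_coprime p _).symm h1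
      have hAU := le_normalizer_inf_of_le (le_normalizer_signalizerDelta p A D hAc hDA)
        (le_normalizer_centralizer_singleton A hAc ha)
      have hgen := Cfsg.Agent.Lib.helper37.coprime_gen_hyperplane p A
        (Cfsg.signalizerDelta p D ⊓ Subgroup.centralizer {a}) hAc hAp hUp hAU
      rw [hgen]
      apply iSup_le
      rintro ⟨B, hBA, hBi⟩
      intro u hu
      obtain ⟨hu1, huB⟩ := Subgroup.mem_inf.mp hu
      obtain ⟨huD, hua⟩ := Subgroup.mem_inf.mp hu1
      have hau : zpowers a ≤ centralizer ({u} : Set G) := by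
        rw [Subgroup.zpowers_le, Subgroup.mem_centralizer_singleton_iff]
        exact (Subgroup.mem_centralizer_singleton_iff.mp hua).symm
      have hBu : B ≤ centralizer ({u} : Set G) := by
        intro b hb
        rw [Subgroup.mem_centralizer_singleton_iff]
        exact Subgroup.mem_centralizer_iff.mp huB b hb
      have hmem : u ∈ Cfsg.signalizerDelta p (zpowers a ⊔ B) := by
        unfold Cfsg.signalizerDelta
        rw [Subgroup.mem_iInf]
        rintro ⟨x, hx, hx1⟩
        have hxA : x ∈ A := (sup_le (Subgroup.zpowers_le.mpr ha) hBA) hx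
        have hxu : u ∈ centralizer ({x} : Set G) := by
          rw [Subgroup.mem_centralizer_singleton_iff]
          exact (Subgroup.mem_centralizer_singleton_iff.mp ((sup_le hau hBu) hx)).symm
        exact kBalanced_ge hbal A hAc hAp D hDA (le_of_eq hDc.symm) hxA hx1
          (Subgroup.mem_inf.mpr ⟨huD, hxu⟩)
      exact (le_iSup (fun E : {E : Subgroup G // zpowers a ≤ E ∧ E ≤ A ∧ E.relIndex A ≤ p} =>
        Cfsg.signalizerDelta p (E : Subgroup G)) ⟨zpowers a ⊔ B, le_sup_left,
          sup_le (Subgroup.zpowers_le.mpr ha) hBA,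
          (Subgroup.relIndex_le_of_le_left le_sup_right (relIndex_ne_zero_of_finite B A)).trans
            hBi⟩) hmem
    -- step 2
    have h2 := bigTheta_inf_centralizer_le hk hbal A hAc hAp hAk hsolv (zpowers a)
      (Subgroup.zpowers_le.mpr ha) (Subgroup.zpowers_ne_bot.mpr ha1) b hb
    -- step 3
    have h3 : bigTheta p A (zpowers a ⊔ zpowers b) ≤
        ⨆ D : {D : Subgroup G // D ≤ A ∧ Nat.card ↥D = p ^ k},
          Cfsg.signalizerDelta p (D : Subgroup G) ⊓ Subgroup.centralizer {b} := by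
      unfold bigTheta
      apply iSup_le
      rintro ⟨E, hFE, hEA, hEi⟩
      have hbE : b ∈ E := hFE ((le_sup_right : zpowers b ≤ zpowers a ⊔ zpowers b)
        (Subgroup.mem_zpowers b))
      have hEcard : p ^ k ≤ Nat.card E := by
        have h4 := card_mul_relIndex_eq hEA
        have h5 : p ^ (k + 2) ≤ Nat.card E * p := by
          calc p ^ (k + 2) ≤ Nat.card A := hAk
            _ = Nat.card E * E.relIndex A := h4.symm
            _ ≤ Nat.card E * p := Nat.mul_le_mul_left _ hEi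
        have h6 : p ^ (k + 2) = p ^ (k + 1) * p := by ring
        rw [h6] at h5
        have h7 := Nat.le_of_mul_le_mul_right h5 hp.out.pos
        exact (Nat.pow_le_pow_right hp.out.pos (by omega)).trans h7
      obtain ⟨D, hDE, hDc⟩ := exists_le_card_eq_pow p E (fun a ha => hAp a (hEA ha)) k hEcard
      refine le_trans ?_ (le_iSup (fun D : {D : Subgroup G // D ≤ A ∧ Nat.card ↥D = p ^ k} =>
        Cfsg.signalizerDelta p (D : Subgroup G) ⊓ Subgroup.centralizer {b}) ⟨D, hDE.trans hEA, hDc⟩)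
      exact le_inf (signalizerDelta_antitone p hDE)
        ((signalizerDelta_le_core p E hbE hb1).trans (centralizerPPrimeCore_le_centralizer_sing p b))
    exact (inf_le_inf_right _ h1).trans (h2.trans h3)

end KBal

end Cfsg.Agent.Lib.helper27
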