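import Mathlib
import Cfsg.Agent.Lib.helper85.McLDefs

set_option autoImplicit false

/-!
# S5075 piece NEG (architect helper85): splitting via an element acting as `-1`
-/

open Cfsg.Agent.Lib.helper85.McL

namespace Cfsg.Agent.Lib.helper27.McL

universe u

variable {p : ℕ} [Fact p.Prime] {V : Type u} [AddCommGroup V] [Module (ZMod p) V]

theorem h27_two_ne_zero (hp : p ≠ 2) : (2 : ZMod p) ≠ 0 := by
  intro h
  have h2 : ((2 : ℕ) : ZMod p) = 0 := by exact_mod_cast h
  rw [ZMod.natCast_eq_zero_iff] at h2
  have hp' : p.Prime := Fact.out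
  have h3 := Nat.le_of_dvd (by norm_num) h2
  have h4 := hp'.two_le
  omega

theorem h27_mul_inv_apply (g : V ≃ₗ[ZMod p] V) (w : V) : g (g⁻¹ w) = w := by
  have h : (g * g⁻¹) w = w := by rw [mul_inv_cancel]; rfl
  exact h

theorem h27_inv_mul_apply (g : V ≃ₗ[ZMod p] V) (w : V) : g⁻¹ (g w) = w := by
  have h : (g⁻¹ * g) w = w := by rw [inv_mul_cancel]; rfl
  exact h

/-- PIECE NEG. -/
theorem split_of_neg (hp : p ≠ 2) [Finite V] (C : Set (V ≃ₗ[ZMod p] V)) (hCtv : ∀ t ∈ C, IsTv t)
    (hf : Faithful (Subgroup.closure C)) (hz : HasNeg (Subgroup.closure C)) :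
    commSub (Subgroup.closure C) ⊓ fixSub (Subgroup.closure C) = ⊥ ∧
    commSub (Subgroup.closure C) ⊔ fixSub (Subgroup.closure C) = ⊤ := by
  obtain ⟨z, hzK, hzW⟩ := hz
  have h2 := h27_two_ne_zero hp
  have hgen : ∀ k ∈ Subgroup.closure C, ∀ v : V, k v - v ∈ commSub (Subgroup.closure C) :=
    fun k hk v => Submodule.subset_span ⟨k, hk, v, rfl⟩
  have hKW : ∀ k ∈ Subgroup.closure C, ∀ w ∈ commSub (Subgroup.closure C),
      k w ∈ commSub (Subgroup.closure C) := by
    intro k hk w hw
    have h : k w = (k w - w) + w := by abel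
    rw [h]
    exact Submodule.add_mem _ (hgen k hk w) hw
  have hfix0 : ∀ k ∈ Subgroup.closure C, ∀ u ∈ radSub (Subgroup.closure C), k u = u :=
    fun k hk u hu => hu.2 k hk
  -- `z` is central
  have hcomm : ∀ k ∈ Subgroup.closure C, z * k = k * z := by
    intro k hk
    have hg : z * k * (k * z)⁻¹ ∈ Subgroup.closure C :=
      Subgroup.mul_mem _ (Subgroup.mul_mem _ hzK hk)
        (Subgroup.inv_mem _ (Subgroup.mul_mem _ hk hzK))
    have haux : ∀ w' ∈ commSub (Subgroup.closure C),
        z (k w') - k (z w') ∈ radSub (Subgroup.closure C) := by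
      intro w' hw'
      have hzk : z (k w') + k w' ∈ radSub (Subgroup.closure C) := hzW _ (hKW k hk w' hw')
      have hzw : z w' + w' ∈ radSub (Subgroup.closure C) := hzW _ hw'
      have hkz : k (z w' + w') = z w' + w' := hfix0 k hk _ hzw
      rw [map_add] at hkz
      have e : z (k w') - k (z w') = (z (k w') + k w') - (z w' + w') := by
        have h : k (z w') = z w' + w' - k w' := by rw [← hkz]; abel
        rw [h]; abel
      rw [e]
      exact Submodule.sub_mem _ hzk hzw
    have h1 := hf _ hg (fun w hw => by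
      have hw' := hKW _ (Subgroup.inv_mem _ (Subgroup.mul_mem _ hk hzK)) w hw
      have e2 : k (z ((k * z)⁻¹ w)) = w := h27_mul_inv_apply (k * z) w
      have e : (z * k * (k * z)⁻¹) w - w
          = z (k ((k * z)⁻¹ w)) - k (z ((k * z)⁻¹ w)) := by
        rw [e2]; rfl
      rw [e]
      exact haux _ hw')
    exact mul_inv_eq_one.mp h1
  -- `z` negates the centres
  have hzc : ∀ t ∈ C, ∀ (c : V) (φ : Module.Dual (ZMod p) V), c ≠ 0 → φ ≠ 0 →
      (∀ x, t x = x + φ x • c) → z c = -c := by
    intro t htC c φ hc hφ ht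
    have htK : t ∈ Subgroup.closure C := Subgroup.subset_closure htC
    obtain ⟨x₀, hx₀⟩ : ∃ x, φ x ≠ 0 := by
      by_contra h
      apply hφ
      apply LinearMap.ext
      intro x
      by_contra hx
      exact h ⟨x, hx⟩
    have hcW : c ∈ commSub (Subgroup.closure C) := by
      have h1 : t x₀ - x₀ = φ x₀ • c := by rw [ht, add_sub_cancel_left]
      have h3 : c = (φ x₀)⁻¹ • (t x₀ - x₀) := by
        rw [h1, smul_smul, inv_mul_cancel₀ hx₀, one_smul]
      rw [h3]
      exact Submodule.smul_mem _ _ (hgen t htK x₀)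
    have hct := hcomm t htK
    have e1 : z (t x₀) = t (z x₀) := congrArg (fun g : V ≃ₗ[ZMod p] V => g x₀) hct
    rw [ht, ht, map_add, map_smul] at e1
    have e2 : φ x₀ • z c = φ (z x₀) • c := add_left_cancel e1
    have e3 : z c = ((φ x₀)⁻¹ * φ (z x₀)) • c := by
      rw [mul_smul, ← e2, smul_smul, inv_mul_cancel₀ hx₀, one_smul]
    have e4 : ((φ x₀)⁻¹ * φ (z x₀) + 1) • c ∈ radSub (Subgroup.closure C) := by
      have h := hzW c hcW
      rw [e3] at h
      rwa [add_smul, one_smul]
    by_cases ha : (φ x₀)⁻¹ * φ (z x₀) + 1 = 0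
    · rw [e3]
      have h : (φ x₀)⁻¹ * φ (z x₀) = -1 := eq_neg_of_add_eq_zero_left ha
      rw [h, neg_smul, one_smul]
    · exfalso
      have hc0 : c ∈ radSub (Subgroup.closure C) := by
        have h := Submodule.smul_mem (radSub (Subgroup.closure C))
          ((φ x₀)⁻¹ * φ (z x₀) + 1)⁻¹ e4
        rwa [smul_smul, inv_mul_cancel₀ ha, one_smul] at h
      have ht1 : t = 1 := hf t htK (fun w hw => by
        rw [ht, add_sub_cancel_left]
        exact Submodule.smul_mem _ _ hc0)
      have h5 : x₀ = x₀ + φ x₀ • c := by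
        have h := ht x₀
        rw [ht1] at h
        exact h
      have h0 : φ x₀ • c = 0 := left_eq_add.mp h5
      rcases smul_eq_zero.mp h0 with h | h
      · exact hx₀ h
      · exact hc h
  -- `z` acts as `-1` on `[V, K]`
  have hWm : ∀ w ∈ commSub (Subgroup.closure C), z w = -w := by
    have hk : ∀ k ∈ Subgroup.closure C, ∀ v : V, z (k v - v) = -(k v - v) := by
      intro k hk
      refine Subgroup.closure_induction
        (p := fun k _ => ∀ v : V, z (k v - v) = -(k v - v)) ?_ ?_ ?_ ?_ hk
      · intro t htC v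
        obtain ⟨c, φ, hc, hφ, -, ht⟩ := hCtv t htC
        rw [ht, add_sub_cancel_left, map_smul, hzc t htC c φ hc hφ ht, smul_neg]
      · intro v
        have h : (1 : V ≃ₗ[ZMod p] V) v - v = 0 := sub_self v
        rw [h, map_zero, neg_zero]
      · intro a b _ _ ha hb v
        have h : (a * b) v - v = (a (b v) - b v) + (b v - v) := by
          show a (b v) - v = _
          abel
        rw [h, map_add, ha (b v), hb v, neg_add]
      · intro a _ ha v
        have h : a⁻¹ v - v = -(a (a⁻¹ v) - a⁻¹ v) := by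
          rw [h27_mul_inv_apply]; abel
        rw [h, map_neg, ha (a⁻¹ v)]
    intro w hw
    refine Submodule.span_induction (p := fun w _ => z w = -w) ?_ ?_ ?_ ?_ hw
    · rintro _ ⟨k, hkK, v, rfl⟩
      exact hk k hkK v
    · rw [map_zero, neg_zero]
    · intro a b _ _ ha hb
      rw [map_add, ha, hb, neg_add]
    · intro r a _ ha
      rw [map_smul, ha, smul_neg]
  refine ⟨?_, ?_⟩
  · rw [eq_bot_iff]
    intro u hu
    have h1 : z u = -u := hWm u hu.1
    have h2' : z u = u := hu.2 z hzK
    have h3 : (2 : ZMod p) • u = 0 := by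
      rw [two_smul]
      have h4 : u = -u := h2'.symm.trans h1
      exact eq_neg_iff_add_eq_zero.mp h4
    rcases smul_eq_zero.mp h3 with h | h
    · exact absurd h h2
    · exact (Submodule.mem_bot _).mpr h
  · rw [eq_top_iff]
    intro v _
    have hzz : z * z = 1 := hf _ (Subgroup.mul_mem _ hzK hzK) (fun w hw => by
      have h : (z * z) w = z (z w) := rfl
      rw [h, hWm w hw, map_neg, hWm w hw, neg_neg, sub_self]
      exact Submodule.zero_mem _)
    have hzzv : ∀ x, z (z x) = x := fun x =>
      congrArg (fun g : V ≃ₗ[ZMod p] V => g x) hzz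
    have hzy : z (v + z v) = v + z v := by rw [map_add, hzzv]; abel
    have hy : v + z v ∈ fixSub (Subgroup.closure C) := by
      intro k hk
      refine Subgroup.closure_induction
        (p := fun k _ => k (v + z v) = v + z v) ?_ ?_ ?_ ?_ hk
      · intro t htC
        obtain ⟨c, φ, hc, hφ, -, ht⟩ := hCtv t htC
        have hct := hcomm t (Subgroup.subset_closure htC)
        have e1 : z (t (v + z v)) = t (z (v + z v)) :=
          congrArg (fun g : V ≃ₗ[ZMod p] V => g (v + z v)) hct
        rw [hzy, ht, map_add, map_smul, hzy, hzc t htC c φ hc hφ ht] at e1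
        have e2 : φ (v + z v) • (-c) = φ (v + z v) • c := add_left_cancel e1
        have e3 : (2 * φ (v + z v)) • c = 0 := by
          rw [mul_smul, two_smul]
          rw [smul_neg] at e2
          exact neg_eq_iff_add_eq_zero.mp e2
        rcases smul_eq_zero.mp e3 with h | h
        · rcases mul_eq_zero.mp h with h' | h'
          · exact absurd h' h2
          · rw [ht, h', zero_smul, add_zero]
        · exact absurd h hc
      · rfl
      · intro a b _ _ ha hb
        show a (b (v + z v)) = v + z v
        rw [hb, ha]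
      · intro a _ ha
        have h := h27_inv_mul_apply a (v + z v)
        rw [ha] at h
        exact h
    have hdec : v = (2 : ZMod p)⁻¹ • (v - z v) + (2 : ZMod p)⁻¹ • (v + z v) := by
      rw [← smul_add]
      have h : v - z v + (v + z v) = (2 : ZMod p) • v := by rw [two_smul]; abel
      rw [h, smul_smul, inv_mul_cancel₀ h2, one_smul]
    rw [hdec]
    refine Submodule.add_mem_sup (Submodule.smul_mem _ _ ?_) (Submodule.smul_mem _ _ hy)
    have h : v - z v = -(z v - v) := by abel
    rw [h]
    exact Submodule.neg_mem _ (hgen z hzK v)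

end Cfsg.Agent.Lib.helper27.McL
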