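import Mathlib
import Cfsg.Agent.Lib.helper85.McLDefs

set_option autoImplicit false

/-!
# S5075 piece TORD (architect helper85): an element of order `p` fixing a hyperplane pointwise is
a transvection
-/

open Cfsg.Agent.Lib.helper85.McL

namespace Cfsg.Agent.Lib.helper27.McL

universe u

variable {p : ℕ} [Fact p.Prime] {V : Type u} [AddCommGroup V] [Module (ZMod p) V]

/-- PIECE TORD. -/
theorem tv_of_order [Finite V] (t : V ≃ₗ[ZMod p] V) (h1 : orderOf t = p)
    (h2 : Module.finrank (ZMod p) ↥(LinearMap.ker ((t : V →ₗ[ZMod p] V) - LinearMap.id)) + 1 =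
        Module.finrank (ZMod p) V) : IsTv t := by
  obtain ⟨N, hNdef⟩ : ∃ N : V →ₗ[ZMod p] V, N = (t : V →ₗ[ZMod p] V) - LinearMap.id := ⟨_, rfl⟩
  have hNx : ∀ x : V, N x = t x - x := by
    intro x
    rw [hNdef]
    simp
  rw [← hNdef] at h2
  have hrk := LinearMap.finrank_range_add_finrank_ker N
  have hr1 : Module.finrank (ZMod p) ↥(LinearMap.range N) = 1 := by omega
  obtain ⟨v, hv0, hv⟩ := finrank_eq_one_iff'.mp hr1
  have hc : (v : V) ≠ 0 := fun h => hv0 (Subtype.ext h)
  have hN : ∀ x : V, N x ∈ Submodule.span (ZMod p) {(v : V)} := by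
    intro x
    obtain ⟨a, ha⟩ := hv ⟨N x, LinearMap.mem_range_self _ x⟩
    rw [Submodule.mem_span_singleton]
    refine ⟨a, ?_⟩
    have h := congrArg Subtype.val ha
    exact h
  let φ : Module.Dual (ZMod p) V :=
    (LinearEquiv.coord (ZMod p) V (v : V) hc).comp
      (LinearMap.codRestrict (Submodule.span (ZMod p) {(v : V)}) N hN)
  have hφ : ∀ x : V, φ x • (v : V) = t x - x := by
    intro x
    rw [← hNx x]
    exact LinearEquiv.coord_apply_smul (ZMod p) V (v : V) hc
      (LinearMap.codRestrict (Submodule.span (ZMod p) {(v : V)}) N hN x)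
  have ht : ∀ x : V, t x = x + φ x • (v : V) := by
    intro x
    rw [hφ x]
    abel
  refine ⟨(v : V), φ, hc, ?_, ?_, ht⟩
  · obtain ⟨x₁, hx₁⟩ := LinearMap.mem_range.mp v.2
    intro h0
    have h := hφ x₁
    rw [h0] at h
    have h3 : t x₁ - x₁ = (v : V) := by rw [← hNx x₁]; exact hx₁
    rw [h3] at h
    simp at h
    exact hc h.symm
  · -- `φ v = 0`
    have hpow : ∀ n : ℕ, (t ^ n) (v : V) = (1 + φ (v : V)) ^ n • (v : V) := by
      intro n
      induction n with
      | zero => simp
      | succ n ih =>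
        have h : (t ^ (n + 1)) (v : V) = (t ^ n) (t (v : V)) := by
          rw [pow_succ]; rfl
        rw [h, ht (v : V)]
        have h4 : (v : V) + φ (v : V) • (v : V) = (1 + φ (v : V)) • (v : V) := by
          rw [add_smul, one_smul]
        rw [h4, map_smul, ih, smul_smul, pow_succ, mul_comm]
    have h5 := hpow p
    have h6 : t ^ p = 1 := by
      have h := pow_orderOf_eq_one t
      rwa [h1] at h
    rw [h6, ZMod.pow_card, add_smul, one_smul] at h5
    have h7 : (v : V) = (v : V) + φ (v : V) • (v : V) := h5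
    have h8 : φ (v : V) • (v : V) = 0 := left_eq_add.mp h7
    rcases smul_eq_zero.mp h8 with h | h
    · exact h
    · exact absurd h hc

end Cfsg.Agent.Lib.helper27.McL
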