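import Mathlib
import Cfsg.Agent.Lib.helper44.PresDefs
import Cfsg.Agent.Lib.helper44.Circle
import Cfsg.Agent.Lib.helper92.PresPW
import Cfsg.Agent.Lib.helper79.PresHC
import Cfsg.Agent.Lib.helper77.PresMATa
import Cfsg.Agent.Lib.helper69.PresMAT2v
import Cfsg.Agent.Lib.helper27.PresMATc
import Cfsg.Agent.Lib.helper6.PresPARA
import Cfsg.Agent.Lib.helper28.PresPG
import Cfsg.Agent.Lib.helper43.PresX1Core
import Cfsg.Agent.Lib.helper56.PresASEcore

/-! # S2286, piece EV: the presentation of `SL₂(q)`, `q` even, with at most five relations -/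

set_option autoImplicit false

namespace Cfsg.Agent.Lib.helper44.Pres

open Polynomial

/-- In a presented group, evaluating a word at the generators is the quotient map. -/
theorem h27_lift_of_eq_mk (rels : Set (FreeGroup (Fin 3))) :
    FreeGroup.lift ![(PresentedGroup.of (0 : Fin 3) : PresentedGroup rels),
      PresentedGroup.of (1 : Fin 3), PresentedGroup.of (2 : Fin 3)] = PresentedGroup.mk rels := by
  ext i
  fin_cases i <;> simp [PresentedGroup.of]

/-- Relations hold at the generators of the presented group. -/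
theorem h27_lift_rel (rels : Set (FreeGroup (Fin 3))) (r : FreeGroup (Fin 3)) (hr : r ∈ rels) :
    FreeGroup.lift ![(PresentedGroup.of (0 : Fin 3) : PresentedGroup rels),
      PresentedGroup.of (1 : Fin 3), PresentedGroup.of (2 : Fin 3)] r = 1 := by
  rw [h27_lift_of_eq_mk]
  exact PresentedGroup.one_of_mem hr

theorem h27_lift_gu {S : Type*} [Group S] (a b c : S) : FreeGroup.lift ![a, b, c] gu = a := by
  simp [gu]

theorem h27_lift_gt {S : Type*} [Group S] (a b c : S) : FreeGroup.lift ![a, b, c] gt = b := by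
  simp [gt]

theorem h27_lift_gh {S : Type*} [Group S] (a b c : S) : FreeGroup.lift ![a, b, c] gh = c := by
  simp [gh]

/-- The base relations of the even presentation of `SL₂`. -/
def h27_evBase (a : ℕ) (m : (ZMod 2)[X]) (r5 : FreeGroup (Fin 3)) : List (FreeGroup (Fin 3)) :=
  [gu ^ 2,
   gu * gt * gu * (gt * gu * gt)⁻¹,
   gt * gh ^ a * gt⁻¹ * (gh ^ (a - 1))⁻¹,
   polyWord gh gu m,
   r5]

/-- What the base relations say about a triple `x, y, z` of group elements. -/
theorem h27_evBase_iff {S : Type*} [Group S] (a : ℕ) (m : (ZMod 2)[X]) (r5 : FreeGroup (Fin 3))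
    (x y z : S) :
    (∀ r ∈ h27_evBase a m r5, FreeGroup.lift ![x, y, z] r = 1) ↔
      (x ^ 2 = 1 ∧ x * y * x = y * x * y ∧ y * z ^ a * y⁻¹ = z ^ (a - 1) ∧ polyWord z x m = 1 ∧
        FreeGroup.lift ![x, y, z] r5 = 1) := by
  simp only [h27_evBase, List.mem_cons, List.mem_nil_iff, or_false, forall_eq_or_imp, forall_eq,
    map_mul, map_inv, map_pow, polyWord_map, h27_lift_gu, h27_lift_gt, h27_lift_gh]
  constructor
  · rintro ⟨h1, h2, h3, h4, h5⟩
    exact ⟨h1, mul_inv_eq_one.mp h2, mul_inv_eq_one.mp h3, h4, h5⟩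
  · rintro ⟨h1, h2, h3, h4, h5⟩
    exact ⟨h1, mul_inv_eq_one.mpr h2, mul_inv_eq_one.mpr h3, h4, h5⟩

/-- `mH 1 = 1`. -/
theorem h27_mH_one {F : Type*} [Field F] : mH (1 : Fˣ) = 1 := by
  ext i j
  fin_cases i <;> fin_cases j <;> simp [mH]

/-- The fifth relator: it holds in `SL₂(F)` and forces the commutation of the conjugates of `u`. -/
theorem h27_ev_r5 {F : Type*} [Field F] [CharP F 2] (ζ : Fˣ)
    (hlam : ∀ a : F, a ≠ 0 → ∃ k : ℕ, a = ((ζ : F) ^ 2) ^ k) :
    ∃ r5 : FreeGroup (Fin 3), FreeGroup.lift ![mU F 1, mT F, mH ζ] r5 = 1 ∧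
      ∀ (G : Type) [Group G] (u t h : G), u ^ 2 = 1 → FreeGroup.lift ![u, t, h] r5 = 1 →
        ∀ n : ℕ, Commute u (h ^ n * u * (h ^ n)⁻¹) := by
  by_cases h1 : (ζ : F) ^ 2 = 1
  · -- `ζ = 1`: the relator is `h`
    have hz : (ζ : F) = 1 := by
      have h2 : ((ζ : F) + 1) ^ 2 = 0 := by
        rw [CharTwo.add_sq, h1, one_pow, CharTwo.add_self_eq_zero]
      have h3 : (ζ : F) + 1 = 0 := by simpa using h2
      have h4 : (ζ : F) = -1 := eq_neg_of_add_eq_zero_left h3
      rw [h4, CharTwo.neg_eq]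
    have hz1 : ζ = 1 := Units.ext (by rw [hz]; rfl)
    refine ⟨gh, ?_, ?_⟩
    · rw [h27_lift_gh, hz1, h27_mH_one]
    · intro G _ u t h _ hh n
      rw [h27_lift_gh] at hh
      rw [hh, one_pow, one_mul, inv_one, mul_one]
  · -- `ζ² ≠ 1`: the relator is `h^k u h^-k = u · h u h⁻¹` with `lam^k = 1 + lam`
    have h2 : (1 : F) + (ζ : F) ^ 2 ≠ 0 := by
      intro h3
      apply h1
      have h4 : (ζ : F) ^ 2 = -1 := eq_neg_of_add_eq_zero_right h3
      rw [h4, CharTwo.neg_eq]
    obtain ⟨k, hk⟩ := hlam _ h2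
    refine ⟨gh ^ k * gu * (gh ^ k)⁻¹ * (gu * (gh * gu * gh⁻¹))⁻¹, ?_, ?_⟩
    · simp only [map_mul, map_inv, map_pow, h27_lift_gu, h27_lift_gh]
      rw [mul_inv_eq_one]
      have e1 := mH_pow_conj ζ k (1 : F)
      have e2 := mH_pow_conj ζ 1 (1 : F)
      rw [pow_one, pow_one, mul_one] at e2
      rw [mul_one] at e1
      rw [e1, e2, mU_mul, hk]
    · intro G _ u t h hu hh n
      simp only [map_mul, map_inv, map_pow, h27_lift_gu, h27_lift_gh] at hh
      have hF : h ^ k * u * (h ^ k)⁻¹ = u * (h * u * h⁻¹) := mul_inv_eq_one.mp hh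
      have hE : Commute u (h * u * h⁻¹) := comm_of_sq u h (h ^ k) hu hF
      exact comm_trick u h (h ^ k) (Commute.pow_right (Commute.refl h) k) hE hF n

/-- The abstract side in characteristic 2 (piece ASE), from the landed cores of X1 and ASE. -/
theorem h27_conf_even {G : Type*} [Group G] {F : Type*} [Field F] [Fintype F]
    [Algebra (ZMod 2) F] (u t h : G) (lam : F)
    (hlam : ∀ a : F, a ≠ 0 → ∃ k : ℕ, a = lam ^ k)
    (hμ : Algebra.adjoin (ZMod 2) {lam} = ⊤) (hu : u ^ 2 = 1) (h2 : u * t * u = t * u * t)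
    (h3 : t * h ^ (Fintype.card F / 2) * t⁻¹ = h ^ (Fintype.card F / 2 - 1))
    (hcomm : ∀ n : ℕ, Commute u (h ^ n * u * (h ^ n)⁻¹))
    (hG : polyWord h u (minpoly (ZMod 2) lam) = 1) :
    ∃ x : F → G, IsBConf x u t h lam (Fintype.card F - 1) 0 := by
  haveI : Fact (Nat.Prime 2) := ⟨Nat.prime_two⟩
  obtain ⟨x, hx1, hxa, hxh, -⟩ := Cfsg.Agent.Lib.helper43.Pres.exists_param_core u h lam
    (polyWord h u) (polyWord_one h u) (polyWord_X_mul h u) (polyWord_add h u hu hcomm) hμ hG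
  exact ⟨x, h56_conf_even_core u t h lam hlam hu h2 h3 x hx1 hxa hxh⟩

-- EV
theorem sl_even {F : Type*} [Field F] [Fintype F] [CharP F 2] :
    ∃ rels : Finset (FreeGroup (Fin 3)), rels.card ≤ 5 ∧
      Nonempty (PresentedGroup (↑rels : Set (FreeGroup (Fin 3))) ≃*
        Matrix.SpecialLinearGroup (Fin 2) F) := by
  classical
  haveI : Fact (Nat.Prime 2) := ⟨Nat.prime_two⟩
  letI : Algebra (ZMod 2) F := ZMod.algebra F 2
  obtain ⟨ζ, hζ⟩ := IsCyclic.exists_generator (α := Fˣ)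
  -- arithmetic of `q`
  obtain ⟨e, hpp, hq⟩ := FiniteField.card F 2
  have hqeven : 2 * (Fintype.card F / 2) = Fintype.card F := by
    have h2 : 2 ∣ Fintype.card F := by
      rw [hq]
      exact dvd_pow_self 2 e.ne_zero
    exact Nat.mul_div_cancel' h2
  have hq2 : 2 ≤ Fintype.card F := Fintype.one_lt_card
  have hζq : (ζ : F) ^ Fintype.card F = (ζ : F) := FiniteField.pow_card _
  have hζlam : (ζ : F) = ((ζ : F) ^ 2) ^ (Fintype.card F / 2) := by
    rw [← pow_mul, hqeven, hζq]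
  have hlam : ∀ a : F, a ≠ 0 → ∃ k : ℕ, a = ((ζ : F) ^ 2) ^ k := by
    intro a ha
    obtain ⟨j, hj⟩ := mem_powers_iff_mem_zpowers.mpr (hζ (Units.mk0 a ha))
    refine ⟨Fintype.card F / 2 * j, ?_⟩
    rw [pow_mul, ← hζlam]
    have h1 := congrArg Units.val hj
    simpa using h1.symm
  have hμ : Algebra.adjoin (ZMod 2) {(ζ : F) ^ 2} = ⊤ := adjoin_sq_gen ζ hζ
  obtain ⟨r5, hr5m, hr5g⟩ := h27_ev_r5 ζ hlam
  set a := Fintype.card F / 2 with ha
  set m := minpoly (ZMod 2) ((ζ : F) ^ 2) with hm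
  refine ⟨(h27_evBase a m r5).toFinset, ?_, ?_⟩
  · exact (List.toFinset_card_le _).trans (le_of_eq rfl)
  · set rels : Set (FreeGroup (Fin 3)) := ↑(h27_evBase a m r5).toFinset with hrels
    have hmem : ∀ r, r ∈ h27_evBase a m r5 → r ∈ rels := by
      intro r hr
      rw [hrels]
      exact Finset.mem_coe.mpr (List.mem_toFinset.mpr hr)
    have hmem' : ∀ r, r ∈ rels → r ∈ h27_evBase a m r5 := by
      intro r hr
      rw [hrels] at hr
      exact List.mem_toFinset.mp (Finset.mem_coe.mp hr)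
    -- the target side
    have hf : ∀ r ∈ rels, FreeGroup.lift ![mU F 1, mT F, mH ζ] r = 1 := by
      intro r hr
      refine (h27_evBase_iff a m r5 (mU F 1) (mT F) (mH ζ)).mpr ?_ r (hmem' r hr)
      refine ⟨mat_char_two.1, mat_char_two.2, mat_char_two_torus ζ, ?_, hr5m⟩
      have h1 := polyWord_mU ζ 1 m
      rw [pow_one, pow_one, hm, minpoly.aeval] at h1
      rw [h1]
      have h2 := mU_pow (F := F) 1 0
      simpa using h2.symm
    have hgen : Subgroup.closure (Set.range ![mU F 1, mT F, mH ζ]) = ⊤ := by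
      refine mat_closure (p := 2) ζ 1 ?_
      rw [pow_one]
      exact hμ
    -- the abstract side
    obtain ⟨h1, h2, h3, h4, h5⟩ :=
      (h27_evBase_iff a m r5 (PresentedGroup.of (0 : Fin 3) : PresentedGroup rels)
        (PresentedGroup.of (1 : Fin 3)) (PresentedGroup.of (2 : Fin 3))).mp
        (fun r hr => h27_lift_rel rels r (hmem r hr))
    have hcomm := hr5g (PresentedGroup rels) (PresentedGroup.of (0 : Fin 3))
      (PresentedGroup.of (1 : Fin 3)) (PresentedGroup.of (2 : Fin 3)) h1 h5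
    obtain ⟨x, hx⟩ := h27_conf_even (PresentedGroup.of (0 : Fin 3) : PresentedGroup rels)
      (PresentedGroup.of (1 : Fin 3)) (PresentedGroup.of (2 : Fin 3)) ((ζ : F) ^ 2) hlam hμ h1 h2
      h3 hcomm h4
    haveI : Finite (Matrix.SpecialLinearGroup (Fin 2) F) := inferInstance
    refine pres_of_conf rels ![mU F 1, mT F, mH ζ] hf hgen x ((ζ : F) ^ 2)
      (Fintype.card F - 1) 0 hx ?_
    rw [Cfsg.Agent.Lib.helper44.card_SL2]
    exact le_of_eq (by ring)

end Cfsg.Agent.Lib.helper44.Pres
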