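import Mathlib
import Cfsg.Prelude.Def_GeometricClasses
import Cfsg.Agent.Lib.helper24.SfoDefs

/-!
# S5977/S5978 block [A], leaf KUNIQ, pieces EVEN and FIB (racing copies by helper27)
-/

set_option autoImplicit false

namespace Cfsg.Agent.Lib.helper2

open Cfsg.Geo Matrix Cfsg.Agent.Lib.helper24

/-- EVEN (racing copy) -/
theorem h27_qfu_even_card {F : Type*} [Field F] {ι : Type} [Fintype ι] [DecidableEq ι]
    (δ : F) (hδ : ∀ r : F, r ^ 2 ≠ δ + 0 * r) (κ : Matrix ι ι F)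
    (hκ : κ * κ = δ • (1 : Matrix ι ι F)) : Even (Fintype.card ι) := by
  classical
  by_contra hodd
  rw [Nat.not_even_iff_odd] at hodd
  obtain ⟨m, hm⟩ := hodd
  have hδ0 : δ ≠ 0 := by
    intro h
    apply hδ 0
    rw [h]; ring
  have hdet : κ.det * κ.det = δ ^ (Fintype.card ι) := by
    rw [← Matrix.det_mul, hκ, Matrix.det_smul, Matrix.det_one, mul_one]
  rw [hm] at hdet
  apply hδ (κ.det / δ ^ m)
  rw [div_pow, zero_mul, add_zero, pow_two, hdet]
  field_simp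
  ring

/-- FIB (racing copy) -/
theorem h27_qfu_fib {F : Type*} [Field F] [Fintype F] {ι : Type} [Fintype ι] [DecidableEq ι]
    (Q : (ι → F) → F) (δ : F) [Fact (∀ r : F, r ^ 2 ≠ δ + 0 * r)]
    (d : ℕ) (Φ : (Fin d → QuadraticAlgebra F δ 0) ≃+ (ι → F))
    (qk : (ι → F) → QuadraticAlgebra F δ 0) (hre : ∀ v, (qk v).re = Q v) :
    Nat.card {v : ι → F // Q v = 1} =
      ∑ b : F, sfoCount (fun k => qk (Φ k)) (⟨1, b⟩ : QuadraticAlgebra F δ 0) := by
  classical
  have : Finite (Fin d → QuadraticAlgebra F δ 0) := Finite.of_equiv _ Φ.symm.toEquiv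
  have e1 : {k : Fin d → QuadraticAlgebra F δ 0 // (qk (Φ k)).re = 1} ≃ {v : ι → F // Q v = 1} :=
    Φ.toEquiv.subtypeEquiv (fun k => by rw [hre]; rfl)
  have e2 : {k : Fin d → QuadraticAlgebra F δ 0 // (qk (Φ k)).re = 1} ≃
      (Σ b : F, {k : Fin d → QuadraticAlgebra F δ 0 //
        qk (Φ k) = (⟨1, b⟩ : QuadraticAlgebra F δ 0)}) :=
    { toFun := fun k => ⟨(qk (Φ k.1)).im, ⟨k.1, QuadraticAlgebra.ext k.2 rfl⟩⟩
      invFun := fun p => ⟨p.2.1, by rw [p.2.2]⟩
      left_inv := fun k => rfl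
      right_inv := fun p => by
        rcases p with ⟨b, k, hk⟩
        have hb : (qk (Φ k)).im = b := by rw [hk]
        subst hb
        rfl }
  rw [Nat.card_congr (e1.symm.trans e2), Nat.card_sigma]
  rfl

end Cfsg.Agent.Lib.helper2
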