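import Mathlib
import Cfsg.Agent.Lib.helper45.RUDefs

/-!
# S2279 piece D (`Om_shift`), racing copy by helper27

`h27_wv F n k` is the vector `w` with `J^(k+1) w = e_l`:
`w i = (-1)^(n-1-i) * binom(n-1-i+k, k)`.
-/

set_option autoImplicit false

namespace Cfsg.Agent.Lib.helper45.RU

open Matrix Cfsg.Agent.Lib.helper44

variable {n : ℕ} {F : Type*} [Field F] {S : Set (Matrix (Fin n) (Fin n) F)}

/-- The vectors `w_k` with `J^(k+1) w_k = e_l`. -/
def h27_wv (F : Type*) [Field F] (n k : ℕ) : Fin n → F :=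
  fun i => (-1 : F) ^ (n - 1 - i.val) * ((n - 1 - i.val + k).choose k : F)

theorem h27_wv_apply (k : ℕ) (i : Fin n) :
    h27_wv F n k i = (-1 : F) ^ (n - 1 - i.val) * ((n - 1 - i.val + k).choose k : F) := rfl

theorem h27_jm_wv_succ (k : ℕ) : jm F n *ᵥ h27_wv F n (k + 1) = h27_wv F n k := by
  ext i
  rw [jm_mulVec]
  by_cases h : i.val + 1 < n
  · rw [dif_pos h, h27_wv_apply, h27_wv_apply, h27_wv_apply]
    obtain ⟨s, hs⟩ : ∃ s, n - 1 - i.val = s + 1 := ⟨n - 1 - i.val - 1, by omega⟩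
    have hs' : n - 1 - (i.val + 1) = s := by omega
    simp only [hs, hs']
    have e1 : (s + 1 + (k + 1)).choose (k + 1) =
        (s + 1 + k).choose k + (s + (k + 1)).choose (k + 1) := by
      have e2 : s + 1 + (k + 1) = (s + 1 + k) + 1 := by ring
      have e3 : s + 1 + k = s + (k + 1) := by ring
      rw [e2, Nat.choose_succ_succ, e3]
    rw [e1]; push_cast; ring
  · rw [dif_neg h, h27_wv_apply, h27_wv_apply]
    have hs : n - 1 - i.val = 0 := by omega
    simp [hs]

theorem h27_jm_wv_zero (l : Fin n) (hl : l.val + 1 = n) :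
    jm F n *ᵥ h27_wv F n 0 = Pi.single l 1 := by
  ext i
  rw [jm_mulVec]
  by_cases h : i.val + 1 < n
  · rw [dif_pos h, h27_wv_apply, h27_wv_apply]
    obtain ⟨s, hs⟩ : ∃ s, n - 1 - i.val = s + 1 := ⟨n - 1 - i.val - 1, by omega⟩
    have hs' : n - 1 - (i.val + 1) = s := by omega
    have hil : i ≠ l := by
      intro e; rw [e] at h; omega
    simp only [hs, hs', Nat.choose_zero_right, Nat.cast_one, mul_one, Pi.single_apply, if_neg hil]
    rw [pow_succ]; ring
  · rw [dif_neg h, h27_wv_apply]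
    have hs : n - 1 - i.val = 0 := by omega
    have hil : i = l := Fin.ext (by omega)
    rw [hs, hil, pow_zero, Nat.zero_add, Nat.choose_self, Nat.cast_one, mul_one, add_zero,
      Pi.single_apply, if_pos rfl]

theorem h27_jm_pow_wv (l : Fin n) (hl : l.val + 1 = n) (k : ℕ) :
    (jm F n) ^ (k + 1) *ᵥ h27_wv F n k = Pi.single l 1 := by
  induction k with
  | zero => rw [zero_add, pow_one]; exact h27_jm_wv_zero l hl
  | succ k ih => rw [pow_succ, ← Matrix.mulVec_mulVec, h27_jm_wv_succ, ih]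

theorem h27_jm_pow_mem (hS : MatGrp S) (hJ : jm F n ∈ S) (k : ℕ) : (jm F n) ^ (k + 1) ∈ S := by
  induction k with
  | zero => rw [zero_add, pow_one]; exact hJ
  | succ k ih => rw [pow_succ]; exact hS.mul ih hJ

/-- Formula (C): the commutator of two rank one perturbations. -/
theorem h27_formulaC (a b φ ψ : Fin n → F) (h1 : ψ ⬝ᵥ a = 0) (h2 : ψ ⬝ᵥ b = 0) :
    (1 + vecMulVec a φ) * (1 + vecMulVec b ψ) =
      (1 + vecMulVec a ((φ ⬝ᵥ b) • ψ)) * ((1 + vecMulVec b ψ) * (1 + vecMulVec a φ)) := by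
  have eAB : vecMulVec a φ * vecMulVec b ψ = vecMulVec a ((φ ⬝ᵥ b) • ψ) :=
    Matrix.vecMulVec_mul_vecMulVec _ _ _ _
  have eBA : vecMulVec b ψ * vecMulVec a φ = 0 := by
    rw [Matrix.vecMulVec_mul_vecMulVec, h1, zero_smul, Matrix.vecMulVec_zero]
  have eCA : vecMulVec a ((φ ⬝ᵥ b) • ψ) * vecMulVec a φ = 0 := by
    rw [Matrix.vecMulVec_mul_vecMulVec, smul_dotProduct, h1, smul_zero, zero_smul,
      Matrix.vecMulVec_zero]
  have eCB : vecMulVec a ((φ ⬝ᵥ b) • ψ) * vecMulVec b ψ = 0 := by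
    rw [Matrix.vecMulVec_mul_vecMulVec, smul_dotProduct, h2, smul_zero, zero_smul,
      Matrix.vecMulVec_zero]
  rw [← eAB] at eCA eCB ⊢
  generalize vecMulVec a φ = A at *
  generalize vecMulVec b ψ = B at *
  have hL : (1 + A) * (1 + B) = 1 + A + B + A * B := by
    simp only [mul_add, add_mul, mul_one, one_mul]; abel
  have hR : (1 + A * B) * ((1 + B) * (1 + A)) =
      1 + A + B + A * B + (B * A + A * B * A + A * B * B + A * B * (B * A)) := by
    simp only [mul_add, add_mul, mul_one, one_mul, mul_assoc]; abel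
  rw [hL, hR, eBA, eCA, eCB, mul_zero, add_zero, add_zero, add_zero, add_zero]

/-- D (racing copy) -/
theorem h27_Om_shift (hS : MatGrp S) (hJ : jm F n ∈ S) (z l : Fin n) (hz : z.val = 0)
    (hl : l.val + 1 = n) (j i' : ℕ) (hj : 1 ≤ j) (hij : i' + j + 2 ≤ n) {x y : F}
    (hx : x ∈ Om S l 0) (hy : y ∈ Om S l i') :
    ((n + j - 2).choose (j - 1) : F) * x * y ∈ Om S l (i' + j) := by
  obtain ⟨k, rfl⟩ : ∃ k, j = k + 1 := ⟨j - 1, by omega⟩
  have hJk : (jm F n) ^ (k + 1) ∈ S := h27_jm_pow_mem hS hJ k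
  have hJw : (jm F n) ^ (k + 1) *ᵥ h27_wv F n k = Pi.single l 1 := h27_jm_pow_wv l hl k
  have hM' : 1 + vecMulVec (h27_wv F n k) (y • rowv F n (i' + (k + 1))) ∈ S := by
    apply hS.conj' hJk hy
    have h0 := conj_rankOne ((jm F n) ^ (k + 1)) (h27_wv F n k) (y • rowv F n i')
    rw [hJw, Matrix.smul_vecMul, ← rowv_add] at h0
    exact h0
  have hX : 1 + vecMulVec (Pi.single l 1) (x • rowv F n 0) ∈ S := hx
  have h1 : (y • rowv F n (i' + (k + 1))) ⬝ᵥ (Pi.single l 1 : Fin n → F) = 0 := by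
    rw [smul_dotProduct, rowv_dot_last _ l hl (by omega), smul_zero]
  have h2 : (y • rowv F n (i' + (k + 1))) ⬝ᵥ h27_wv F n k = 0 := by
    rw [smul_dotProduct, rowv_add, ← Matrix.dotProduct_mulVec, hJw,
      rowv_dot_last _ l hl (by omega), smul_zero]
  have h3 : (x • rowv F n 0) ⬝ᵥ h27_wv F n k =
      x * ((-1) ^ (n - 1) * ((n - 1 + k).choose k : F)) := by
    rw [rowv_zero z hz, smul_dotProduct, single_dotProduct, one_mul, smul_eq_mul, h27_wv_apply,
      hz, Nat.sub_zero]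
  have hC := h27_formulaC (Pi.single l 1 : Fin n → F) (h27_wv F n k) (x • rowv F n 0)
    (y • rowv F n (i' + (k + 1))) h1 h2
  rw [h3, smul_smul] at hC
  have hmem : x * ((-1) ^ (n - 1) * ((n - 1 + k).choose k : F)) * y ∈ Om S l (i' + (k + 1)) :=
    MatGrp_comm_mem hS hX hM' hC
  have e1 : n + (k + 1) - 2 = n - 1 + k := by omega
  have e2 : k + 1 - 1 = k := by omega
  rw [e1, e2]
  rcases neg_one_pow_eq_or F (n - 1) with h | h
  · rw [h] at hmem
    have e : x * (1 * ((n - 1 + k).choose k : F)) * y = ((n - 1 + k).choose k : F) * x * y := by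
      ring
    rw [e] at hmem; exact hmem
  · rw [h] at hmem
    have e : x * (-1 * ((n - 1 + k).choose k : F)) * y =
        -(((n - 1 + k).choose k : F) * x * y) := by ring
    rw [e] at hmem
    exact (Om_neg_iff hS l hl _ (by omega)).mp hmem

end Cfsg.Agent.Lib.helper45.RU
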