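import Mathlib
import Cfsg.Agent.Lib.helper81.S0197Defs

/-!
# S0197 piece FIN: degrees, class equations and the Diophantine end game
-/

set_option autoImplicit false

namespace Cfsg.Agent.Lib.helper27.S0197

open Cfsg Cfsg.Agent.Lib.helper81.S0197

/-- the integer end game -/
theorem fin_int (n m g : ℤ) (E1 : (m + 1) * (n + m) - 9 * n = 0)
    (E2 : g * (2 * ((m - 2) * (m - 2))) = 9216 * (m * (m + 1))) (g32 : ¬ (32 : ℤ) ∣ g) :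
    g = 5616 ∨ g = 7920 := by
  have hd : (8 - m) ∣ 72 := ⟨n + m + 9, by linear_combination E1⟩
  have h1 : 8 - m ≤ 72 := Int.le_of_dvd (by norm_num) hd
  have h2 : m - 8 ≤ 72 := by
    apply Int.le_of_dvd (by norm_num)
    have h3 : m - 8 = -(8 - m) := by ring
    rw [h3]
    exact (neg_dvd).mpr hd
  have hlo : -64 ≤ m := by linarith
  have hhi : m ≤ 80 := by linarith
  clear hd h1 h2
  interval_cases m <;> omega

/-- the rational end game -/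
theorem fin_rat (n m g : ℤ) (hn0 : n ≠ 0) (hn1 : n ≠ 1) (hm0 : m ≠ 0) (hm1 : m + 1 ≠ 0)
    (hnm : n + m ≠ 0)
    (cz : (1 : ℚ) - 1 / (n : ℚ) - 9 / ((m : ℚ) + 1) + 9 / ((n : ℚ) + (m : ℚ)) = 0)
    (cy : (g : ℚ) * (1 + 1 / (n : ℚ) + 8 / (m : ℚ) - 9 / ((m : ℚ) + 1)
      - 9 / ((n : ℚ) + (m : ℚ))) = 9216)
    (g32 : ¬ (32 : ℤ) ∣ g) : g = 5616 ∨ g = 7920 := by
  have qn0 : (n : ℚ) ≠ 0 := by exact_mod_cast hn0
  have qn1 : (n : ℚ) - 1 ≠ 0 := by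
    intro h
    apply hn1
    have : (n : ℚ) = 1 := by linarith
    exact_mod_cast this
  have qm0 : (m : ℚ) ≠ 0 := by exact_mod_cast hm0
  have qm1 : (m : ℚ) + 1 ≠ 0 := by exact_mod_cast hm1
  have qnm : (n : ℚ) + (m : ℚ) ≠ 0 := by exact_mod_cast hnm
  have h1 : ((n : ℚ) - 1) * (((m : ℚ) + 1) * ((n : ℚ) + m) - 9 * n)
      = n * ((m : ℚ) + 1) * ((n : ℚ) + m)
        * ((1 : ℚ) - 1 / (n : ℚ) - 9 / ((m : ℚ) + 1) + 9 / ((n : ℚ) + (m : ℚ))) := by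
    field_simp
    ring
  rw [cz, mul_zero] at h1
  have E1q : ((m : ℚ) + 1) * ((n : ℚ) + m) - 9 * n = 0 :=
    (mul_eq_zero.mp h1).resolve_left qn1
  have E1 : (m + 1) * (n + m) - 9 * n = 0 := by exact_mod_cast E1q
  have hb : (1 + 1 / (n : ℚ) + 8 / (m : ℚ) - 9 / ((m : ℚ) + 1) - 9 / ((n : ℚ) + (m : ℚ)))
      = 2 + 8 / (m : ℚ) - 18 / ((m : ℚ) + 1) := by
    linear_combination (-1 : ℚ) * cz
  have hb2 : (2 : ℚ) + 8 / (m : ℚ) - 18 / ((m : ℚ) + 1)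
      = (2 * (((m : ℚ) - 2) * ((m : ℚ) - 2))) / ((m : ℚ) * ((m : ℚ) + 1)) := by
    field_simp
    ring
  rw [hb, hb2, ← mul_div_assoc, div_eq_iff (mul_ne_zero qm0 qm1)] at cy
  have E2 : g * (2 * ((m - 2) * (m - 2))) = 9216 * (m * (m + 1)) := by exact_mod_cast cy
  exact fin_int n m g E1 E2 g32

/-- PIECE FIN of S0197 -/
theorem card_of_pattern {ι : Type*} [Fintype ι] {χ0 : ι} {T Y W a b f : ι → ℤ} {g : ℤ}
    (h : Arith ι χ0 T Y W a b f g) (hp : Pattern ι χ0 T Y W a b) : g = 5616 ∨ g = 7920 := by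
  obtain ⟨x, δ, hx, hx0, hδ, hval, hzero⟩ := hp
  obtain ⟨F, hF⟩ : ∃ F : Fin 8 → ℤ, ∀ j, F j = δ j * f (x j) :=
    ⟨fun j => δ j * f (x j), fun _ => rfl⟩
  -- values of the table
  have uT : UT 0 = 1 ∧ UT 1 = 1 ∧ UT 2 = 2 ∧ UT 3 = 2 ∧ UT 4 = 2 ∧ UT 5 = 3 ∧ UT 6 = 3
      ∧ UT 7 = 4 := ⟨rfl, rfl, rfl, rfl, rfl, rfl, rfl, rfl⟩
  have uY : UY 0 = 1 ∧ UY 1 = 1 ∧ UY 2 = 2 ∧ UY 3 = 0 ∧ UY 4 = 0 ∧ UY 5 = -1 ∧ UY 6 = -1
      ∧ UY 7 = 0 := ⟨rfl, rfl, rfl, rfl, rfl, rfl, rfl, rfl⟩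
  have uW : UW 0 = 1 ∧ UW 1 = 1 ∧ UW 2 = -1 ∧ UW 3 = -1 ∧ UW 4 = -1 ∧ UW 5 = 0 ∧ UW 6 = 0
      ∧ UW 7 = 1 := ⟨rfl, rfl, rfl, rfl, rfl, rfl, rfl, rfl⟩
  have ua : Ua 0 = 1 ∧ Ua 1 = -1 ∧ Ua 2 = 0 ∧ Ua 3 = 0 ∧ Ua 4 = 0 ∧ Ua 5 = -1 ∧ Ua 6 = 1
      ∧ Ua 7 = 0 := ⟨rfl, rfl, rfl, rfl, rfl, rfl, rfl, rfl⟩
  have ub : Ub 0 = 0 ∧ Ub 1 = 0 ∧ Ub 2 = 0 ∧ Ub 3 = 1 ∧ Ub 4 = -1 ∧ Ub 5 = 0 ∧ Ub 6 = 0
      ∧ Ub 7 = 0 := ⟨rfl, rfl, rfl, rfl, rfl, rfl, rfl, rfl⟩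
  obtain ⟨uT0, uT1, uT2, uT3, uT4, uT5, uT6, uT7⟩ := uT
  obtain ⟨uY0, uY1, uY2, uY3, uY4, uY5, uY6, uY7⟩ := uY
  obtain ⟨uW0, uW1, uW2, uW3, uW4, uW5, uW6, uW7⟩ := uW
  obtain ⟨ua0, ua1, ua2, ua3, ua4, ua5, ua6, ua7⟩ := ua
  obtain ⟨ub0, ub1, ub2, ub3, ub4, ub5, ub6, ub7⟩ := ub
  -- the integer sums
  have key : ∀ (U : Fin 8 → ℤ) (P : ι → ℤ), (∀ j, P (x j) = δ j * U j) →
      (∀ k, k ∉ Set.range x → P k = 0) → ∑ i, f i * P i = ∑ j, F j * U j := by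
    intro U P hP hP0
    symm
    apply Fintype.sum_of_injective x hx
    · intro i hi
      rw [hP0 i hi, mul_zero]
    · intro j
      rw [hP j, hF j]
      ring
  have eT := key UT T (fun j => (hval j).1) (fun k hk => (hzero k hk).1)
  have eY := key UY Y (fun j => (hval j).2.1) (fun k hk => (hzero k hk).2.1)
  have eW := key UW W (fun j => (hval j).2.2.1) (fun k hk => (hzero k hk).2.2.1)
  have ea := key Ua a (fun j => (hval j).2.2.2.1) (fun k hk => (hzero k hk).2.2.2.1)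
  have eb := key Ub b (fun j => (hval j).2.2.2.2) (fun k hk => (hzero k hk).2.2.2.2)
  rw [h.sfT, Fin.sum_univ_eight, uT0, uT1, uT2, uT3, uT4, uT5, uT6, uT7] at eT
  rw [h.sfY, Fin.sum_univ_eight, uY0, uY1, uY2, uY3, uY4, uY5, uY6, uY7] at eY
  rw [h.sfW, Fin.sum_univ_eight, uW0, uW1, uW2, uW3, uW4, uW5, uW6, uW7] at eW
  rw [h.sfa, Fin.sum_univ_eight, ua0, ua1, ua2, ua3, ua4, ua5, ua6, ua7] at ea
  rw [h.sfb, Fin.sum_univ_eight, ub0, ub1, ub2, ub3, ub4, ub5, ub6, ub7] at eb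
  -- the rational sums
  have key2 : ∀ (U U' : Fin 8 → ℤ) (P P' : ι → ℤ), (∀ j, P (x j) = δ j * U j) →
      (∀ j, P' (x j) = δ j * U' j) → (∀ k, k ∉ Set.range x → P k = 0) →
      ∑ i, ((P i : ℚ) ^ 2 * (P' i : ℚ) / (f i : ℚ))
        = ∑ j, ((U j : ℚ) ^ 2 * (U' j : ℚ) / (F j : ℚ)) := by
    intro U U' P P' hP hP' hP0
    symm
    apply Fintype.sum_of_injective x hx
    · intro i hi
      rw [hP0 i hi]
      simp
    · intro j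
      rw [hP j, hP' j, hF j]
      rcases hδ j with h1 | h1
      · rw [h1]
        push_cast
        ring
      · rw [h1]
        push_cast
        ring
  have cz := key2 UT Ua T a (fun j => (hval j).1) (fun j => (hval j).2.2.2.1)
    (fun k hk => (hzero k hk).1)
  have cy := key2 UT UY T Y (fun j => (hval j).1) (fun j => (hval j).2.1)
    (fun k hk => (hzero k hk).1)
  rw [h.cz, Fin.sum_univ_eight, uT0, uT1, uT2, uT3, uT4, uT5, uT6, uT7,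
    ua0, ua1, ua2, ua3, ua4, ua5, ua6, ua7] at cz
  have cy' := h.cy
  rw [cy, Fin.sum_univ_eight, uT0, uT1, uT2, uT3, uT4, uT5, uT6, uT7,
    uY0, uY1, uY2, uY3, uY4, uY5, uY6, uY7] at cy'
  push_cast at cz cy'
  -- `F 0 = 1`
  have hδ0 : δ 0 = 1 := by
    have h1 := (hval 0).1
    rw [hx0, h.T0, uT0, mul_one] at h1
    exact h1.symm
  have hF0 : F 0 = 1 := by
    rw [hF 0, hδ0, hx0, h.f0, mul_one]
  -- nonvanishing
  have hFne : ∀ j, F j ≠ 0 := by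
    intro j
    rw [hF j]
    have h1 := h.f_pos (x j)
    rcases hδ j with h2 | h2
    · rw [h2]; omega
    · rw [h2]; omega
  have hF1 : F 1 ≠ 1 := by
    intro h1
    rw [hF 1] at h1
    have h2 := h.f_pos (x 1)
    have h3 : f (x 1) = 1 := by
      rcases hδ 1 with h4 | h4
      · rw [h4] at h1; omega
      · rw [h4] at h1; omega
    have h5 := h.f_one _ h3
    rw [← hx0] at h5
    have h6 := hx h5
    exact absurd h6 (by decide)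
  -- solve the linear system
  have h5 : F 5 = F 2 + 1 := by linarith
  have h6 : F 6 = F 1 + F 2 := by linarith
  have hm1 : F 2 + 1 ≠ 0 := by
    rw [← h5]; exact hFne 5
  have hnm : F 1 + F 2 ≠ 0 := by
    rw [← h6]; exact hFne 6
  rw [hF0, h5, h6] at cz cy'
  push_cast at cz cy'
  apply fin_rat (F 1) (F 2) g (hFne 1) hF1 (hFne 2) hm1 hnm
  · linear_combination -cz
  · linear_combination cy'
  · exact h.g32

end Cfsg.Agent.Lib.helper27.S0197
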