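import Mathlib
import Cfsg.Agent.Lib.helper81.S0197Defs

/-!
# S0197 piece PI: Case I of the pattern lemma (`a i4 ≠ 0`) is contradictory
-/

set_option autoImplicit false

namespace Cfsg.Agent.Lib.helper27.S0197

open Cfsg Cfsg.Agent.Lib.helper81.S0197

theorem pi_sign (A : ℤ) (hA : A * A = 1) : A = 1 ∨ A = -1 := by
  have h : (A - 1) * (A + 1) = 0 := by linear_combination hA
  rcases mul_eq_zero.mp h with h1 | h1
  · left; linarith
  · right; linarith

theorem pi_sign_two (A : ℤ) (hA : A * A = 4) : A = 2 ∨ A = -2 := by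
  have h : (A - 2) * (A + 2) = 0 := by linear_combination hA
  rcases mul_eq_zero.mp h with h1 | h1
  · left; linarith
  · right; linarith

/-- the integer core of Case I -/
theorem pi_int (A P y4 yp ye t4 tp te w4 wp we : ℤ)
    (hA : A * A = 1) (hP : P * P = 1) (hye : ye * ye = 4) (hy4 : y4 * A = -1)
    (hyp : yp * P = 1)
    (eTa : tp * P + 1 + 2 * (t4 * A) = 0)
    (eWa : wp * P + 1 + 2 * (w4 * A) = 0)
    (eTY : te * ye + (tp * yp + 1 + 2 * (t4 * y4)) = 0)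
    (sT : te * te + (tp * tp + 1 + 2 * (t4 * t4)) ≤ 48)
    (sW : we * we + (wp * wp + 1 + 2 * (w4 * w4)) ≤ 6)
    (c4 : (4 : ℤ) ∣ t4 - y4 - 2)
    (d4 : (3 : ℤ) ∣ w4 - t4) (dp : (3 : ℤ) ∣ wp - tp) (de : (3 : ℤ) ∣ we - te) : False := by
  obtain ⟨u, hu⟩ : ∃ u : ℤ, u = t4 * A := ⟨_, rfl⟩
  obtain ⟨v, hv⟩ : ∃ v : ℤ, v = tp * P := ⟨_, rfl⟩
  obtain ⟨q, hq⟩ : ∃ q : ℤ, q = te * ye := ⟨_, rfl⟩
  have h1 : t4 * y4 = -u := by
    rw [hu]; linear_combination (t4 * A) * hy4 - (t4 * y4) * hA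
  have h2 : tp * yp = v := by
    rw [hv]; linear_combination (tp * P) * hyp - (tp * yp) * hP
  have h3 : t4 * t4 = u * u := by
    rw [hu]; linear_combination (-(t4 * t4)) * hA
  have h4 : tp * tp = v * v := by
    rw [hv]; linear_combination (-(tp * tp)) * hP
  have h5 : 4 * (te * te) = q * q := by
    rw [hq]; linear_combination (-(te * te)) * hye
  rw [← hv, ← hu] at eTa
  rw [← hq, h2, h1] at eTY
  have hv' : v = -1 - 2 * u := by linarith
  have hq' : q = 4 * u := by linarith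
  rw [hv'] at h4
  rw [hq'] at h5
  have h6 : 5 * (u * u) + 2 * u + 1 ≤ 24 := by nlinarith
  have hu1 : u ≤ 1 := by nlinarith
  have hu2 : -2 ≤ u := by nlinarith
  have hu' : u = 1 := by
    rcases pi_sign A hA with h | h
    · subst h; omega
    · subst h; omega
  subst hu'
  have hw4 : -1 ≤ w4 ∧ w4 ≤ 1 := by
    constructor <;> nlinarith [mul_self_nonneg wp, mul_self_nonneg we]
  have hwp : -2 ≤ wp ∧ wp ≤ 2 := by
    constructor <;> nlinarith [mul_self_nonneg w4, mul_self_nonneg we]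
  have hwe : -2 ≤ we ∧ we ≤ 2 := by
    constructor <;> nlinarith [mul_self_nonneg w4, mul_self_nonneg wp]
  obtain ⟨hw4a, hw4b⟩ := hw4
  obtain ⟨hwpa, hwpb⟩ := hwp
  obtain ⟨hwea, hweb⟩ := hwe
  clear sT h3 h4 h5 h6 h1 h2 hy4 hyp c4 eTY
  rcases pi_sign A hA with h | h <;> rcases pi_sign P hP with h' | h' <;>
    rcases pi_sign_two ye hye with h'' | h'' <;> subst h <;> subst h' <;> subst h'' <;>
    clear hA hP hye <;>
    interval_cases w4 <;> interval_cases wp <;> interval_cases we <;> omega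

/-- PIECE PI of S0197 -/
theorem pat_caseI {ι : Type*} [Fintype ι] {χ0 : ι} {T Y W a b f : ι → ℤ} {g : ℤ}
    (h : Arith ι χ0 T Y W a b f g) (i4 i5 : ι) (h45 : i4 ≠ i5) (hb4 : b i4 = 1)
    (hb5 : b i5 = -1) (hb : ∀ k, k ≠ i4 → k ≠ i5 → b k = 0) (hT : T i4 = T i5)
    (hY : Y i4 = Y i5) (hW : W i4 = W i5) (ha : a i4 = a i5) (ha4 : a i4 ≠ 0) : False := by
  classical
  have hχ4 : χ0 ≠ i4 := by
    intro h1
    have h2 := h.b0
    rw [h1, hb4] at h2
    exact one_ne_zero h2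
  have hχ5 : χ0 ≠ i5 := by
    intro h1
    have h2 := h.b0
    rw [h1, hb5] at h2
    omega
  have split : ∀ (s : Finset ι) (F : ι → ℤ), ∑ i, F i = ∑ i ∈ s, F i + ∑ i ∈ sᶜ, F i :=
    fun s F => (Finset.sum_add_sum_compl s F).symm
  have hS3 : ∀ F : ι → ℤ, ∑ i ∈ ({χ0, i4, i5} : Finset ι), F i = F χ0 + F i4 + F i5 := by
    intro F
    rw [Finset.sum_insert (by simp [hχ4, hχ5]), Finset.sum_pair h45]
    ring
  have hnn : ∀ (F : ι → ℤ) (s : Finset ι), 0 ≤ ∑ i ∈ s, F i * F i :=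
    fun F s => Finset.sum_nonneg (fun i _ => mul_self_nonneg _)
  have hzero : ∀ (F : ι → ℤ) (s : Finset ι), ∑ i ∈ s, F i * F i = 0 → ∀ i ∈ s, F i = 0 := by
    intro F s hs i hi
    have h1 := (Finset.sum_eq_zero_iff_of_nonneg (fun i _ => mul_self_nonneg (F i))).mp hs i hi
    exact mul_self_eq_zero.mp h1
  have sq : ∀ F : ι → ℤ, ∑ i, F i ^ 2 = ∑ i, F i * F i := by
    intro F
    exact Finset.sum_congr rfl (fun i _ => pow_two _)
  -- the rows with `a ≠ 0`
  have saa := h.saa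
  rw [sq, split {χ0, i4, i5}, hS3, h.a0, ← ha] at saa
  have hpos : 0 < a i4 * a i4 := mul_self_pos.mpr ha4
  have hA : a i4 * a i4 = 1 := by
    have h1 := hnn a ({χ0, i4, i5} : Finset ι)ᶜ
    nlinarith
  have hrest : ∑ i ∈ ({χ0, i4, i5} : Finset ι)ᶜ, a i * a i ≠ 0 := by
    intro h1
    rw [h1, hA] at saa
    norm_num at saa
  obtain ⟨p, hp, hap⟩ := Finset.exists_ne_zero_of_sum_ne_zero hrest
  rw [Finset.mem_compl] at hp
  have hpχ : p ≠ χ0 := by
    intro h1; apply hp; rw [h1]; simp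
  have hp4 : p ≠ i4 := by
    intro h1; apply hp; rw [h1]; simp
  have hp5 : p ≠ i5 := by
    intro h1; apply hp; rw [h1]; simp
  have hS : ∀ F : ι → ℤ, ∑ i ∈ (insert p {χ0, i4, i5} : Finset ι), F i
      = F p + (F χ0 + F i4 + F i5) := by
    intro F
    rw [Finset.sum_insert hp, hS3]
  have saa2 := h.saa
  rw [sq, split (insert p {χ0, i4, i5}), hS, h.a0, ← ha, hA] at saa2
  have hP : a p * a p = 1 := by
    have h1 := hnn a (insert p {χ0, i4, i5} : Finset ι)ᶜ
    have h2 : 0 < a p * a p := lt_of_le_of_ne (mul_self_nonneg _) (Ne.symm hap)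
    nlinarith
  have haoff : ∀ i ∈ (insert p {χ0, i4, i5} : Finset ι)ᶜ, a i = 0 := by
    apply hzero
    rw [hP] at saa2
    linarith
  -- the sums against `a`
  have suma : ∀ F : ι → ℤ, ∑ i, F i * a i = F p * a p + (F χ0 + F i4 * a i4 + F i5 * a i4) := by
    intro F
    rw [split (insert p {χ0, i4, i5}), hS, h.a0, ← ha]
    rw [Finset.sum_eq_zero (fun i hi => by rw [haoff i hi, mul_zero])]
    ring
  have eYa := suma Y
  rw [h.sYa, h.Y0, ← hY] at eYa
  have eTa := suma T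
  rw [h.sTa, h.T0, ← hT] at eTa
  have eWa := suma W
  rw [h.sWa, h.W0, ← hW] at eWa
  -- the values of `Y`
  have sYY := h.sYY
  rw [sq, split (insert p {χ0, i4, i5}), hS, h.Y0, ← hY] at sYY
  have hYnn := hnn Y (insert p {χ0, i4, i5} : Finset ι)ᶜ
  have c4 := h.cYa i4
  have cp := h.cYa p
  have hY4b : -1 ≤ Y i4 ∧ Y i4 ≤ 1 := by
    constructor <;> nlinarith [mul_self_nonneg (Y p)]
  have hYpb : -2 ≤ Y p ∧ Y p ≤ 2 := by
    constructor <;> nlinarith [mul_self_nonneg (Y i4)]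
  have hYvals : Y i4 * a i4 = -1 ∧ Y p * a p = 1 ∧ Y i4 * Y i4 = 1 ∧ Y p * Y p = 1 := by
    obtain ⟨l1, l2⟩ := hY4b
    obtain ⟨l3, l4⟩ := hYpb
    generalize Y i4 = y4 at *
    generalize Y p = yp at *
    generalize a i4 = A at *
    generalize a p = P at *
    clear sYY hYnn saa saa2 eTa eWa hpos hap ha4
    rcases pi_sign A hA with h1 | h1 <;> rcases pi_sign P hP with h2 | h2 <;> subst h1 <;>
      subst h2 <;> interval_cases y4 <;> interval_cases yp <;> omega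
  obtain ⟨hy4, hyp, hy4sq, hypsq⟩ := hYvals
  rw [hy4sq, hypsq] at sYY
  have hrestY : ∑ i ∈ (insert p {χ0, i4, i5} : Finset ι)ᶜ, Y i * Y i ≠ 0 := by
    intro h1
    rw [h1] at sYY
    norm_num at sYY
  obtain ⟨e1, he1, hYe1⟩ := Finset.exists_ne_zero_of_sum_ne_zero hrestY
  have hae1 := haoff e1 he1
  have he1' : e1 ∉ (insert p {χ0, i4, i5} : Finset ι) := Finset.mem_compl.mp he1
  have hS' : ∀ F : ι → ℤ, ∑ i ∈ (insert e1 (insert p {χ0, i4, i5}) : Finset ι), F i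
      = F e1 + (F p + (F χ0 + F i4 + F i5)) := by
    intro F
    rw [Finset.sum_insert he1', hS]
  have sYY2 := h.sYY
  rw [sq, split (insert e1 (insert p {χ0, i4, i5})), hS', h.Y0, ← hY, hy4sq, hypsq] at sYY2
  have hye : Y e1 * Y e1 = 4 := by
    have h1 := hnn Y (insert e1 (insert p {χ0, i4, i5}) : Finset ι)ᶜ
    have h2 := h.cYa e1
    rw [hae1] at h2
    obtain ⟨c, hc⟩ := h2
    have h3 : Y e1 = 2 * c := by linarith
    have h4 : c ≠ 0 := by
      intro h5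
      apply hYe1
      rw [h3, h5]
      norm_num
    have h5 : 0 < c * c := mul_self_pos.mpr h4
    rw [h3] at sYY2 ⊢
    nlinarith
  have hYoff : ∀ i ∈ (insert e1 (insert p {χ0, i4, i5}) : Finset ι)ᶜ, Y i = 0 := by
    apply hzero
    rw [hye] at sYY2
    linarith
  -- the sum `T * Y`
  have eTY := h.sTY
  rw [split (insert e1 (insert p {χ0, i4, i5})), hS', h.Y0, h.T0, ← hY, ← hT,
    Finset.sum_eq_zero (fun i hi => by rw [hYoff i hi, mul_zero])] at eTY
  -- the bounds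
  have sT := h.sTT
  rw [sq, split (insert e1 (insert p {χ0, i4, i5})), hS', h.T0, ← hT] at sT
  have hTnn := hnn T (insert e1 (insert p {χ0, i4, i5}) : Finset ι)ᶜ
  have sW := h.sWW
  rw [sq, split (insert e1 (insert p {χ0, i4, i5})), hS', h.W0, ← hW] at sW
  have hWnn := hnn W (insert e1 (insert p {χ0, i4, i5}) : Finset ι)ᶜ
  have c4' := h.cTY i4
  rw [hb4] at c4'
  exact pi_int (a i4) (a p) (Y i4) (Y p) (Y e1) (T i4) (T p) (T e1) (W i4) (W p) (W e1)
    hA hP hye hy4 hyp (by linarith) (by linarith) (by linarith) (by linarith) (by linarith)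
    (by simpa using c4') (h.cWT i4) (h.cWT p) (h.cWT e1)

end Cfsg.Agent.Lib.helper27.S0197
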