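import Mathlib

/-!
# S2686 piece O-GEO, abstract part

For a nondegenerate symmetric bilinear form `B` on a space of dimension at least `3` over a
finite field of odd characteristic and two non-proportional anisotropic vectors `v`, `w`,
there is an anisotropic `u` with `B(u, ρ_w ρ_v u) = 0`; here the value `B(u, ρ_w ρ_v u)` is
written out as
`B(u,u) - 2 B(v,u)²/B(v,v) - 2 B(w,u)²/B(w,w) + 4 B(w,u) B(v,u) B(v,w) / (B(v,v) B(w,w))`.
-/

set_option autoImplicit false

namespace Cfsg.Agent.Lib.helper27.S2686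

section scalar

variable {F : Type*} [Field F]

/-- `a X² + c Y² = e` is solvable in a finite field of odd characteristic (`a, c ≠ 0`) -/
theorem ogeo_sum_sq [Fintype F] (h2 : (2 : F) ≠ 0) (a c e : F) (ha : a ≠ 0) (hc : c ≠ 0) :
    ∃ X Y : F, a * X ^ 2 + c * Y ^ 2 = e := by
  classical
  have hodd : Fintype.card F % 2 = 1 := by
    apply FiniteField.odd_card_of_char_ne_two
    intro h
    apply h2
    have h0 : ((2 : ℕ) : F) = 0 := (ringChar.spec F 2).2 (by rw [h])
    exact_mod_cast h0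
  have hf : (Polynomial.C a * Polynomial.X ^ 2 + Polynomial.C 0 * Polynomial.X
      + Polynomial.C (-e)).degree = 2 := Polynomial.degree_quadratic ha
  have hg : (Polynomial.C c * Polynomial.X ^ 2 + Polynomial.C 0 * Polynomial.X
      + Polynomial.C 0).degree = 2 := Polynomial.degree_quadratic hc
  obtain ⟨X, Y, h⟩ := FiniteField.exists_root_sum_quadratic hf hg hodd
  refine ⟨X, Y, ?_⟩
  simp only [Polynomial.eval_add, Polynomial.eval_mul, Polynomial.eval_C, Polynomial.eval_pow,
    Polynomial.eval_X] at h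
  linear_combination h

theorem ogeo_scalarA1 (Qv Qw b : F) (hQv : Qv ≠ 0) (hQw : Qw ≠ 0) (hT : 2 * b ^ 2 = Qv * Qw) :
    Qv - 2 * Qv ^ 2 / Qv - 2 * b ^ 2 / Qw + 4 * b * Qv * b / (Qv * Qw) = 0 := by
  have h : Qv - 2 * Qv ^ 2 / Qv - 2 * b ^ 2 / Qw + 4 * b * Qv * b / (Qv * Qw)
      = (2 * b ^ 2 - Qv * Qw) / Qw := by
    field_simp
    ring
  rw [h, hT, sub_self, zero_div]

theorem ogeo_scalarA2 (h2 : (2 : F) ≠ 0) (Qv Qw b x y Qc S : F) (hQv : Qv ≠ 0) (hQw : Qw ≠ 0)
    (hΔ : Qv * Qw ≠ b ^ 2) (hQc : Qc ≠ 0)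
    (hSdef : S = Qv * x ^ 2 + 2 * b * x * y + Qw * y ^ 2)
    (hS : S * (2 * b ^ 2 - Qv * Qw) = -Qc * (Qv * Qw)) :
    S + Qc ≠ 0 ∧ (S + Qc) - 2 * (x * Qv + y * b) ^ 2 / Qv - 2 * (x * b + y * Qw) ^ 2 / Qw
      + 4 * (x * b + y * Qw) * (x * Qv + y * b) * b / (Qv * Qw) = 0 := by
  constructor
  · intro h
    have h' : 2 * Qc * (Qv * Qw - b ^ 2) = 0 := by
      linear_combination hS - (2 * b ^ 2 - Qv * Qw) * h
    rcases mul_eq_zero.mp h' with h'' | h''
    · rcases mul_eq_zero.mp h'' with h3 | h3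
      · exact h2 h3
      · exact hQc h3
    · exact hΔ (sub_eq_zero.mp h'')
  · have key : (S + Qc) - 2 * (x * Qv + y * b) ^ 2 / Qv - 2 * (x * b + y * Qw) ^ 2 / Qw
        + 4 * (x * b + y * Qw) * (x * Qv + y * b) * b / (Qv * Qw)
        = ((2 * b ^ 2 - Qv * Qw) * S + Qc * (Qv * Qw)) / (Qv * Qw) := by
      rw [hSdef]
      field_simp
      ring
    rw [key, div_eq_zero_iff]
    left
    linear_combination hS

theorem ogeo_scalarB (Qv Qw b α : F) (hQv : Qv ≠ 0) (hb : b ≠ 0) (hΔ : Qv * Qw = b ^ 2) :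
    2 * Qv / b ^ 2 - 2 * α ^ 2 / Qv - 2 * (1 + b / Qv * α) ^ 2 / Qw
      + 4 * (1 + b / Qv * α) * α * b / (Qv * Qw) = 0 := by
  have hQw : Qw = b ^ 2 / Qv := by
    field_simp
    linear_combination hΔ
  rw [hQw]
  field_simp
  ring

end scalar

section abstract

variable {F : Type*} [Field F] {V : Type*} [AddCommGroup V] [Module F V]

theorem ogeo_abstract [Fintype F] (h2 : (2 : F) ≠ 0) (B : LinearMap.BilinForm F V)
    (hsymm : ∀ x y, B x y = B y x)
    (hnd : ∀ z : V, z ≠ 0 → ∃ z' : V, B z z' ≠ 0)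
    (hker : ∀ f g : V →ₗ[F] F, ∃ c : V, c ≠ 0 ∧ f c = 0 ∧ g c = 0)
    (v w : V) (hv : B v v ≠ 0) (hw : B w w ≠ 0) (hvw : ∀ t : F, w ≠ t • v) :
    ∃ u : V, B u u ≠ 0 ∧
      B u u - 2 * (B v u) ^ 2 / B v v - 2 * (B w u) ^ 2 / B w w
        + 4 * (B w u) * (B v u) * (B v w) / (B v v * B w w) = 0 := by
  by_cases hΔ : B v v * B w w = B v w ^ 2
  · -- the plane `⟨v, w⟩` is degenerate
    have hb : B v w ≠ 0 := by
      intro h
      rw [h] at hΔ
      exact mul_ne_zero hv hw (by simpa using hΔ)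
    obtain ⟨z, hz⟩ : ∃ z : V, z = w - (B v w / B v v) • v := ⟨_, rfl⟩
    have hz0 : z ≠ 0 := by
      intro h
      rw [h] at hz
      exact hvw (B v w / B v v) (sub_eq_zero.mp hz.symm)
    have hvz : B v z = 0 := by
      rw [hz]
      simp only [map_sub, map_smul, smul_eq_mul]
      field_simp
      ring
    have hwz : B w z = 0 := by
      rw [hz]
      simp only [map_sub, map_smul, smul_eq_mul]
      rw [hsymm w v]
      field_simp
      linear_combination hΔ
    have hzz : B z z = 0 := by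
      calc B z z = B (w - (B v w / B v v) • v) z := by rw [← hz]
        _ = B w z - (B v w / B v v) * B v z := by
          simp only [map_sub, map_smul, LinearMap.sub_apply, LinearMap.smul_apply, smul_eq_mul]
        _ = 0 := by rw [hwz, hvz]; ring
    obtain ⟨z'', hz''⟩ := hnd z hz0
    obtain ⟨z', hz'⟩ : ∃ z' : V, z' = (B z z'')⁻¹ • z'' := ⟨_, rfl⟩
    have hzz' : B z z' = 1 := by
      rw [hz']
      simp only [map_smul, smul_eq_mul]
      exact inv_mul_cancel₀ hz''
    obtain ⟨κ, hκ⟩ : ∃ κ : F, κ = 2 * B v v / B v w ^ 2 := ⟨_, rfl⟩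
    have hκ0 : κ ≠ 0 := by
      rw [hκ]
      exact div_ne_zero (mul_ne_zero h2 hv) (pow_ne_zero 2 hb)
    obtain ⟨s, hs⟩ : ∃ s : F, s = (κ - B z' z') / 2 := ⟨_, rfl⟩
    have hu1 : B (z' + s • z) (z' + s • z) = κ := by
      simp only [map_add, map_smul, LinearMap.add_apply, LinearMap.smul_apply, smul_eq_mul]
      rw [hzz, hsymm z' z, hzz', hs]
      field_simp
      ring
    have hu2 : B v (z' + s • z) = B v z' := by
      simp only [map_add, map_smul, smul_eq_mul, hvz, mul_zero, add_zero]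
    have hw' : w = z + (B v w / B v v) • v := by
      rw [hz]; abel
    have hwz' : B w z' = 1 + B v w / B v v * B v z' := by
      calc B w z' = B (z + (B v w / B v v) • v) z' := by rw [← hw']
        _ = 1 + B v w / B v v * B v z' := by
          simp only [map_add, map_smul, LinearMap.add_apply, LinearMap.smul_apply, smul_eq_mul,
            hzz']
    have hu3 : B w (z' + s • z) = 1 + B v w / B v v * B v z' := by
      simp only [map_add, map_smul, smul_eq_mul, hwz, mul_zero, add_zero, hwz']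
    refine ⟨z' + s • z, by rw [hu1]; exact hκ0, ?_⟩
    rw [hu1, hu2, hu3, hκ]
    exact ogeo_scalarB (B v v) (B w w) (B v w) (B v z') hv hb hΔ
  · -- the plane `⟨v, w⟩` is nondegenerate
    by_cases hT : 2 * B v w ^ 2 = B v v * B w w
    · refine ⟨v, hv, ?_⟩
      rw [hsymm w v]
      exact ogeo_scalarA1 (B v v) (B w w) (B v w) hv hw hT
    · have hc : ∃ c : V, B v c = 0 ∧ B w c = 0 ∧ B c c ≠ 0 := by
        by_contra hcon
        push Not at hcon
        obtain ⟨c₀, hc₀, hvc₀, hwc₀⟩ := hker (B v) (B w)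
        obtain ⟨z', hz'⟩ := hnd c₀ hc₀
        obtain ⟨D, hD⟩ : ∃ D : F, D = B v v * B w w - B v w ^ 2 := ⟨_, rfl⟩
        have hΔ0 : D ≠ 0 := by rw [hD]; exact sub_ne_zero.mpr hΔ
        obtain ⟨x, hx⟩ : ∃ x : F, x = (B w w * B v z' - B v w * B w z') / D := ⟨_, rfl⟩
        obtain ⟨y, hy⟩ : ∃ y : F, y = (B v v * B w z' - B v w * B v z') / D := ⟨_, rfl⟩
        obtain ⟨c', hc'⟩ : ∃ c' : V, c' = z' - x • v - y • w := ⟨_, rfl⟩
        have h1 : B v c' = 0 := by
          rw [hc']
          simp only [map_sub, map_smul, smul_eq_mul]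
          rw [hx, hy]
          field_simp
          rw [hD]
          ring
        have h2' : B w c' = 0 := by
          rw [hc']
          simp only [map_sub, map_smul, smul_eq_mul]
          rw [hsymm w v, hx, hy]
          field_simp
          rw [hD]
          ring
        have h3 : B c₀ z' = B c₀ c' := by
          have hz'' : z' = c' + x • v + y • w := by rw [hc']; abel
          calc B c₀ z' = B c₀ (c' + x • v + y • w) := by rw [← hz'']
            _ = B c₀ c' := by
              simp only [map_add, map_smul, smul_eq_mul]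
              rw [hsymm c₀ v, hsymm c₀ w, hvc₀, hwc₀]
              ring
        have h4 : B (c₀ + c') (c₀ + c') = 0 :=
          hcon _ (by simp only [map_add, hvc₀, h1, add_zero])
            (by simp only [map_add, hwc₀, h2', add_zero])
        have h5 : B c₀ c₀ = 0 := hcon _ hvc₀ hwc₀
        have h6 : B c' c' = 0 := hcon _ h1 h2'
        have h7 : B c₀ c' = 0 := by
          have h8 : B (c₀ + c') (c₀ + c') = B c₀ c₀ + 2 * B c₀ c' + B c' c' := by
            simp only [map_add, LinearMap.add_apply]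
            rw [hsymm c' c₀]
            ring
          rw [h4, h5, h6] at h8
          have h9 : 2 * B c₀ c' = 0 := by linear_combination -h8
          exact (mul_eq_zero.mp h9).resolve_left h2
        exact hz' (h3.trans h7)
      obtain ⟨c, hvc, hwc, hcc⟩ := hc
      have hT0 : 2 * B v w ^ 2 - B v v * B w w ≠ 0 := sub_ne_zero.mpr hT
      obtain ⟨X, Y, hXY⟩ := ogeo_sum_sq h2 (B v v) ((B v v * B w w - B v w ^ 2) / B v v)
        (-(B c c) * (B v v * B w w) / (2 * B v w ^ 2 - B v v * B w w)) hv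
        (div_ne_zero (sub_ne_zero.mpr hΔ) hv)
      obtain ⟨x, hx⟩ : ∃ x : F, x = X - (B v w / B v v) * Y := ⟨_, rfl⟩
      obtain ⟨S, hSdef⟩ : ∃ S : F, S = B v v * x ^ 2 + 2 * B v w * x * Y + B w w * Y ^ 2 :=
        ⟨_, rfl⟩
      have hS : S * (2 * B v w ^ 2 - B v v * B w w) = -(B c c) * (B v v * B w w) := by
        have h1 : S = B v v * X ^ 2 + (B v v * B w w - B v w ^ 2) / B v v * Y ^ 2 := by
          rw [hSdef, hx]
          field_simp
          ring
        rw [h1, hXY]
        field_simp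
      have e1 : B v (x • v + Y • w + c) = x * B v v + Y * B v w := by
        simp only [map_add, map_smul, smul_eq_mul, hvc, add_zero]
      have e2 : B w (x • v + Y • w + c) = x * B v w + Y * B w w := by
        simp only [map_add, map_smul, smul_eq_mul, hwc, add_zero, hsymm w v]
      have e3 : B (x • v + Y • w + c) (x • v + Y • w + c) = S + B c c := by
        simp only [map_add, map_smul, LinearMap.add_apply, LinearMap.smul_apply, smul_eq_mul]
        rw [hsymm c v, hsymm c w, hsymm w v, hvc, hwc, hSdef]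
        ring
      obtain ⟨r1, r2⟩ := ogeo_scalarA2 h2 (B v v) (B w w) (B v w) x Y (B c c) S hv hw hΔ hcc
        hSdef hS
      refine ⟨x • v + Y • w + c, by rw [e3]; exact r1, ?_⟩
      rw [e1, e2, e3]
      exact r2

end abstract

end Cfsg.Agent.Lib.helper27.S2686
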