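import Cfsg.Agent.Lib.helper48.LBRefl
import Cfsg.Agent.Lib.helper27.S2686OGEOa

/-!
# S2686 piece O-GEO: `exists_perp_image`

For a nondegenerate symmetric matrix `G` over a finite field of odd characteristic, of size at
least `3`, and two non-proportional anisotropic vectors `v`, `w`, there is an anisotropic `u`
orthogonal to its image under the product of the reflections in `w` and `v`.
-/

set_option autoImplicit false

namespace Cfsg.Agent.Lib.helper27.S2686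

open Matrix Cfsg
open Cfsg.Agent.Lib.helper48.LB

variable {n : ℕ} {F : Type*} [Field F] {ι : Type} [Fintype ι] [DecidableEq ι]

theorem exists_perp_image [Fintype F] (h2 : (2 : F) ≠ 0) (G : Matrix ι ι F) (hG : Gᵀ = G)
    (hdet : G.det ≠ 0) (h3 : 3 ≤ Fintype.card ι) (v w : ι → F) (hv : v ⬝ᵥ G *ᵥ v ≠ 0)
    (hw : w ⬝ᵥ G *ᵥ w ≠ 0) (hvw : ∀ t : F, w ≠ t • v) :
    ∃ u : ι → F, u ⬝ᵥ G *ᵥ u ≠ 0 ∧ u ⬝ᵥ G *ᵥ ((refl G w * refl G v) *ᵥ u) = 0 := by
  obtain ⟨B, hB⟩ : ∃ B : LinearMap.BilinForm F (ι → F), B = Matrix.toBilin' G := ⟨_, rfl⟩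
  have hBapp : ∀ x y : ι → F, B x y = x ⬝ᵥ G *ᵥ y := by
    intro x y
    rw [hB]
    exact Matrix.toBilin'_apply' G x y
  have hsymm : ∀ x y : ι → F, B x y = B y x := by
    intro x y
    rw [hBapp, hBapp, Matrix.dotProduct_mulVec, dotProduct_comm, ← Matrix.mulVec_transpose, hG]
  have hnd : ∀ z : ι → F, z ≠ 0 → ∃ z' : ι → F, B z z' ≠ 0 := by
    intro z hz
    obtain ⟨z', hz'⟩ := (Matrix.nondegenerate_of_det_ne_zero hdet).exists_not_ortho_of_ne_zero hz
    exact ⟨z', by rwa [hBapp]⟩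
  have hker : ∀ f g : (ι → F) →ₗ[F] F, ∃ c : ι → F, c ≠ 0 ∧ f c = 0 ∧ g c = 0 := by
    intro f g
    have hlt : Module.finrank F (F × F) < Module.finrank F (ι → F) := by
      rw [Module.finrank_prod, Module.finrank_self, Module.finrank_fintype_fun_eq_card]
      omega
    have hne := LinearMap.ker_ne_bot_of_finrank_lt (f := f.prod g) hlt
    obtain ⟨c, hc, hc0⟩ := (Submodule.ne_bot_iff _).mp hne
    have hc' : (f c, g c) = (0 : F × F) := hc
    rw [Prod.mk_eq_zero] at hc'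
    exact ⟨c, hc0, hc'.1, hc'.2⟩
  obtain ⟨u, hu1, hu2⟩ := ogeo_abstract h2 B hsymm hnd hker v w (by rwa [hBapp]) (by rwa [hBapp])
    hvw
  refine ⟨u, by rwa [← hBapp], ?_⟩
  have e1 : ∀ x y : ι → F, (G *ᵥ x) ⬝ᵥ y = B x y := by
    intro x y
    rw [dotProduct_comm, ← hBapp, hsymm]
  rw [← Matrix.mulVec_mulVec, refl_mulVec, refl_mulVec]
  simp only [e1, ← hBapp]
  simp only [map_sub, map_smul, smul_eq_mul]
  rw [hsymm u v, hsymm u w, hsymm w v]
  linear_combination hu2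

end Cfsg.Agent.Lib.helper27.S2686
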