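import Mathlib

/-!
# S2687 piece GAL (also needed by S2686 F-CENT)

An automorphism `τ` of a finite field fixing every element fixed by `σ` is a power of `σ`
(Artin's theorem for the cyclic group generated by `σ`).
-/

set_option autoImplicit false

namespace Cfsg.Agent.Lib.helper27.S2687

universe u

theorem mem_zpowers_of_fix {F : Type u} [Field F] [Fintype F] (σ τ : F ≃+* F)
    (h : ∀ x : F, σ x = x → τ x = x) : τ ∈ Subgroup.zpowers σ := by
  classical
  have : Finite (F ≃+* F) :=
    Finite.of_injective (fun f : F ≃+* F => (f : F → F)) DFunLike.coe_injective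
  have hτK : ∀ x : FixedPoints.subfield (Subgroup.zpowers σ) F,
      τ (algebraMap (FixedPoints.subfield (Subgroup.zpowers σ) F) F x)
        = algebraMap (FixedPoints.subfield (Subgroup.zpowers σ) F) F x := by
    intro x
    apply h
    exact x.2 ⟨σ, Subgroup.mem_zpowers σ⟩
  obtain ⟨g, hg⟩ := (FixedPoints.toAlgAut_bijective (Subgroup.zpowers σ) F).2
    (AlgEquiv.ofRingEquiv (f := τ) hτK)
  have hgτ : (g : F ≃+* F) = τ := by
    ext x
    have h1 := congrArg (fun f : F ≃ₐ[FixedPoints.subfield (Subgroup.zpowers σ) F] F => f x) hg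
    exact h1
  rw [← hgτ]
  exact g.2

end Cfsg.Agent.Lib.helper27.S2687
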