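import Mathlib

/-!
# S6002, piece BTV (racing copy by helper27): the pure group-theoretic core
-/

set_option autoImplicit false

namespace Cfsg.Agent.Lib.helper27

/-- group core of BTV -/
theorem h27_btv_group {G : Type*} [Group G] (R : Subgroup G) (z : G)
    (hzc : ∀ g : G, z * g = g * z) (hz2 : z * z = 1) (hz1 : z ≠ 1)
    (hcomm : ∀ s ∈ R, ∀ t ∈ R, s * t = t * s ∨ s * t = z * (t * s))
    (hanti : ∀ s ∈ R, ∀ t ∈ R, s * s = 1 → t * t = 1 → s ≠ 1 → s ≠ z → t ≠ 1 → t ≠ z →
      s * t = t * s → t = s ∨ t = z * s)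
    (y : G) (hy : ∀ s ∈ R, y * s * y⁻¹ ∈ R)
    (hA : ∀ s ∈ R, (s⁻¹ * (y * s * y⁻¹)) * (s⁻¹ * (y * s * y⁻¹)) = 1 ∧ s⁻¹ * (y * s * y⁻¹) ≠ z)
    (k : ℕ) (hk : Odd k) (hyk : y ^ k = 1) : ∀ s ∈ R, y * s = s * y := by
  -- notation
  have hdR : ∀ s ∈ R, s⁻¹ * (y * s * y⁻¹) ∈ R := fun s hs => R.mul_mem (R.inv_mem hs) (hy s hs)
  -- multiplicativity up to sign
  have hmul : ∀ s ∈ R, ∀ t ∈ R,
      (s * t)⁻¹ * (y * (s * t) * y⁻¹) = (s⁻¹ * (y * s * y⁻¹)) * (t⁻¹ * (y * t * y⁻¹)) ∨
      (s * t)⁻¹ * (y * (s * t) * y⁻¹) = z * ((s⁻¹ * (y * s * y⁻¹)) * (t⁻¹ * (y * t * y⁻¹))) := by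
    intro s hs t ht
    have h0 : (s * t)⁻¹ * (y * (s * t) * y⁻¹) =
        t⁻¹ * ((s⁻¹ * (y * s * y⁻¹)) * t) * (t⁻¹ * (y * t * y⁻¹)) := by group
    rcases hcomm _ (hdR s hs) t ht with h | h
    · left
      rw [h0, h]; group
    · right
      rw [h0, h]
      have hz' : t⁻¹ * (z * (t * (s⁻¹ * (y * s * y⁻¹)))) = z * (s⁻¹ * (y * s * y⁻¹)) := by
        rw [← mul_assoc t⁻¹ z, ← hzc t⁻¹]; group
      rw [hz']; group
  -- two nontrivial values are proportional
  have hprop : ∀ s ∈ R, ∀ t ∈ R, s⁻¹ * (y * s * y⁻¹) ≠ 1 → t⁻¹ * (y * t * y⁻¹) ≠ 1 →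
      t⁻¹ * (y * t * y⁻¹) = s⁻¹ * (y * s * y⁻¹) ∨ t⁻¹ * (y * t * y⁻¹) = z * (s⁻¹ * (y * s * y⁻¹)) := by
    intro s hs t ht hs1 ht1
    set a := s⁻¹ * (y * s * y⁻¹) with ha
    set b := t⁻¹ * (y * t * y⁻¹) with hb
    have ha2 : a * a = 1 := (hA s hs).1
    have hb2 : b * b = 1 := (hA t ht).1
    rcases hcomm a (hdR s hs) b (hdR t ht) with h | h
    · exact hanti a (hdR s hs) b (hdR t ht) ha2 hb2 hs1 (hA s hs).2 ht1 (hA t ht).2 h
    · exfalso
      have hba : b * a = z * (a * b) := by
        rw [h, ← mul_assoc z z, hz2, one_mul]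
      have hsq : (a * b) * (a * b) = z := by
        calc (a * b) * (a * b) = a * (b * a) * b := by group
          _ = a * (z * (a * b)) * b := by rw [hba]
          _ = z * ((a * a) * (b * b)) := by
              rw [← mul_assoc a z, ← hzc a]; group
          _ = z := by rw [ha2, hb2, mul_one, mul_one]
      have hst := (hA (s * t) (R.mul_mem hs ht)).1
      rcases hmul s hs t ht with h' | h'
      · rw [h'] at hst
        rw [← ha, ← hb] at hst
        exact hz1 (hsq.symm.trans hst)
      · rw [h'] at hst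
        rw [← ha, ← hb] at hst
        have : z * (a * b) * (z * (a * b)) = z := by
          calc z * (a * b) * (z * (a * b)) = z * ((a * b) * z) * (a * b) := by group
            _ = z * (z * (a * b)) * (a * b) := by rw [← hzc (a * b)]
            _ = (z * z) * ((a * b) * (a * b)) := by group
            _ = z := by rw [hz2, hsq, one_mul]
        exact hz1 (this.symm.trans hst)
  -- y² centralizes R
  have hsq : ∀ s ∈ R, y * (y * s * y⁻¹) * y⁻¹ = s := by
    intro s hs
    by_cases h1 : s⁻¹ * (y * s * y⁻¹) = 1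
    · have : y * s * y⁻¹ = s := by
        have := congrArg (fun g => s * g) h1
        simpa using this
      rw [this, this]
    · set c := s⁻¹ * (y * s * y⁻¹) with hc
      have hcR : c ∈ R := hdR s hs
      have hc2 : c * c = 1 := (hA s hs).1
      have hys : y * s * y⁻¹ = s * c := by rw [hc]; group
      by_cases h2 : c⁻¹ * (y * c * y⁻¹) = 1
      · have hyc : y * c * y⁻¹ = c := by
          have := congrArg (fun g => c * g) h2
          simpa using this
        calc y * (y * s * y⁻¹) * y⁻¹ = y * (s * c) * y⁻¹ := by rw [hys]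
          _ = (y * s * y⁻¹) * (y * c * y⁻¹) := by group
          _ = s * c * c := by rw [hys, hyc]
          _ = s := by rw [mul_assoc, hc2, mul_one]
      · exfalso
        rcases hprop s hs c hcR h1 h2 with h | h
        · -- y c y⁻¹ = c * c = 1
          have hyc : y * c * y⁻¹ = c * c := by
            have := congrArg (fun g => c * g) h
            simpa using this
          rw [hc2] at hyc
          have : c = 1 := by
            have := congrArg (fun g => y⁻¹ * g * y) hyc
            simpa [mul_assoc] using this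
          exact h1 this
        · have hyc : y * c * y⁻¹ = c * (z * c) := by
            have := congrArg (fun g => c * g) h
            simpa using this
          have hczc : c * (z * c) = z := by
            rw [← mul_assoc, ← hzc c, mul_assoc, hc2, mul_one]
          rw [hczc] at hyc
          have : c = z := by
            have := congrArg (fun g => y⁻¹ * g * y) hyc
            have h3 : y⁻¹ * z * y = z := by rw [mul_assoc, hzc y, ← mul_assoc, inv_mul_cancel, one_mul]
            rw [h3] at this
            simpa [mul_assoc] using this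
          exact (hA s hs).2 this
  intro s hs
  have hcomm2 : Commute (y * y) s := by
    have := hsq s hs
    have h' : y * y * s = s * (y * y) := by
      have h'' : y * (y * s * y⁻¹) * y⁻¹ * (y * y) = s * (y * y) := by rw [this]
      rw [← h'']; group
    exact h'
  obtain ⟨m, rfl⟩ := hk
  have hinv : y⁻¹ = (y * y) ^ m := by
    have : (y * y) ^ m * y = 1 := by
      rw [← pow_two, ← pow_mul, ← pow_succ]; exact hyk
    exact (eq_inv_of_mul_eq_one_left this).symm ▸ rfl
  have h3 : Commute (y⁻¹) s := by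
    rw [hinv]; exact hcomm2.pow_left m
  have h4 : Commute y s := by
    have := h3.inv_left
    simpa using this
  exact h4

end Cfsg.Agent.Lib.helper27
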