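import Mathlib
import Cfsg.Agent.Lib.helper24.S6eDefs
import Cfsg.Agent.Lib.helper27.S6eBTVcore

/-!
# S6002, piece BTV (racing copy by helper27): a transvection-like element of odd order
normalizing `R` centralizes `R`
-/

set_option autoImplicit false

namespace Cfsg.Agent.Lib.helper24

open Matrix Cfsg Cfsg.Geo

/-- two linear functionals on a four-dimensional space have a common nonzero kernel vector -/
theorem h27_s6_common_ker {F : Type*} [Field F] (w w' : S6I → F) :
    ∃ x : S6I → F, x ≠ 0 ∧ w ⬝ᵥ x = 0 ∧ w' ⬝ᵥ x = 0 := by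
  classical
  let M : Matrix S6I S6I F := Matrix.of (fun i j =>
    if i = Sum.inl 0 then w j else if i = Sum.inl 1 then w' j else 0)
  have hdet : M.det = 0 := by
    apply Matrix.det_eq_zero_of_row_eq_zero (Sum.inr 0)
    intro j
    simp [M]
  obtain ⟨x, hx0, hx⟩ := (Matrix.exists_mulVec_eq_zero_iff (M := M)).mpr hdet
  refine ⟨x, hx0, ?_, ?_⟩
  · have := congrFun hx (Sum.inl 0)
    simpa [M, Matrix.mulVec, dotProduct] using this
  · have := congrFun hx (Sum.inl 1)
    simpa [M, Matrix.mulVec, dotProduct] using this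

/-- a fixed nonzero vector excludes `-x = x` -/
theorem h27_s6_neg_fix {F : Type*} [Field F] (h2 : (2 : F) ≠ 0) (x : S6I → F) (hx : -x = x) :
    x = 0 := by
  funext i
  have := congrFun hx i
  simp only [Pi.neg_apply] at this
  have h : (2 : F) * x i = 0 := by linear_combination -this
  rcases mul_eq_zero.mp h with h | h
  · exact absurd h h2
  · simpa using h

/-- BTV (racing copy) -/
theorem h27_s6_transv_central {F : Type*} [Field F] [Fintype F] (h2 : (2 : F) ≠ 0) (R : Subgroup (GL S6I F)) (hG : S6Good R)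
    (y : GL S6I F) (hy : y ∈ subgroupNormalizer R) (k : ℕ) (hk : Odd k) (hyk : y ^ k = 1)
    (u w : S6I → F) (hyu : (y : Matrix S6I S6I F) = 1 + Matrix.vecMulVec u w) :
    ∀ s ∈ R, y * s = s * y := by
  classical
  obtain ⟨z, hzR, hz⟩ := hG.neg
  have hzc : ∀ g : GL S6I F, z * g = g * z := by
    intro g
    apply Units.ext
    rw [Units.val_mul, Units.val_mul, hz]
    simp
  have hz2 : z * z = 1 := by
    apply Units.ext
    rw [Units.val_mul, hz]
    simp
  have hz1 : z ≠ 1 := by
    intro h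
    have h' : (z : Matrix S6I S6I F) = 1 := by rw [h]; rfl
    rw [hz] at h'
    have := congrFun (congrFun h' (Sum.inl 0)) (Sum.inl 0)
    simp only [Matrix.neg_apply, Matrix.one_apply_eq] at this
    apply h2
    linear_combination -this
  have hy' : ∀ s ∈ R, y * s * y⁻¹ ∈ R := fun s hs =>
    (Subgroup.mem_set_normalizer_iff.mp hy s).mp hs
  have hcomm : ∀ s ∈ R, ∀ t ∈ R, s * t = t * s ∨ s * t = z * (t * s) := by
    intro s hs t ht
    rcases hG.comm s hs t ht with h | h
    · left
      apply Units.ext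
      rw [Units.val_mul, Units.val_mul]; exact h
    · right
      apply Units.ext
      rw [Units.val_mul, Units.val_mul, Units.val_mul, hz, h]
      simp
  have hval1 : ∀ s : GL S6I F, (s : Matrix S6I S6I F) = 1 → s = 1 := fun s h => Units.ext h
  have hvalz : ∀ s : GL S6I F, (s : Matrix S6I S6I F) = -1 → s = z := fun s h =>
    Units.ext (h.trans hz.symm)
  have hanti : ∀ s ∈ R, ∀ t ∈ R, s * s = 1 → t * t = 1 → s ≠ 1 → s ≠ z → t ≠ 1 → t ≠ z →
      s * t = t * s → t = s ∨ t = z * s := by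
    intro s hs t ht hs2 ht2 hs1 hsz ht1 htz hst
    have e1 : (s : Matrix S6I S6I F) * (s : Matrix S6I S6I F) = 1 := by
      rw [← Units.val_mul, hs2]; rfl
    have e2 : (t : Matrix S6I S6I F) * (t : Matrix S6I S6I F) = 1 := by
      rw [← Units.val_mul, ht2]; rfl
    have e3 : (s : Matrix S6I S6I F) * (t : Matrix S6I S6I F) =
        (t : Matrix S6I S6I F) * (s : Matrix S6I S6I F) := by
      rw [← Units.val_mul, ← Units.val_mul, hst]
    rcases hG.anti s hs t ht e1 e2 (fun h => hs1 (hval1 s h)) (fun h => hsz (hvalz s h))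
      (fun h => ht1 (hval1 t h)) (fun h => htz (hvalz t h)) e3 with h | h
    · left; exact Units.ext h
    · right
      apply Units.ext
      rw [Units.val_mul, hz, h]; simp
  have hA : ∀ s ∈ R, (s⁻¹ * (y * s * y⁻¹)) * (s⁻¹ * (y * s * y⁻¹)) = 1 ∧
      s⁻¹ * (y * s * y⁻¹) ≠ z := by
    intro s hs
    have hdR : s⁻¹ * (y * s * y⁻¹) ∈ R := R.mul_mem (R.inv_mem hs) (hy' s hs)
    obtain ⟨x, hx0, hx1, hx2⟩ :=
      h27_s6_common_ker w (w ᵥ* (s : Matrix S6I S6I F))
    -- Y S = S' Y
    have hYS : (y : Matrix S6I S6I F) * (s : Matrix S6I S6I F) =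
        ((y * s * y⁻¹ : GL S6I F) : Matrix S6I S6I F) * (y : Matrix S6I S6I F) := by
      rw [← Units.val_mul, ← Units.val_mul]
      congr 1
      group
    have hSx : (s : Matrix S6I S6I F) *ᵥ x =
        ((y * s * y⁻¹ : GL S6I F) : Matrix S6I S6I F) *ᵥ x := by
      have h := congrArg (fun A => A *ᵥ x) hYS
      rw [hyu, Matrix.add_mul, Matrix.mul_add, Matrix.one_mul, Matrix.mul_one,
        Matrix.add_mulVec, Matrix.add_mulVec, ← Matrix.mulVec_mulVec, ← Matrix.mulVec_mulVec,
        Matrix.vecMulVec_mulVec, Matrix.vecMulVec_mulVec, Matrix.dotProduct_mulVec, hx1, hx2] at h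
      simpa using h
    have hDx : ((s⁻¹ * (y * s * y⁻¹) : GL S6I F) : Matrix S6I S6I F) *ᵥ x = x := by
      rw [Units.val_mul, ← Matrix.mulVec_mulVec, ← hSx, Matrix.mulVec_mulVec, ← Units.val_mul,
        inv_mul_cancel]
      simp
    have hne : ((s⁻¹ * (y * s * y⁻¹) : GL S6I F) : Matrix S6I S6I F) ≠ -1 := by
      intro h
      rw [h, Matrix.neg_mulVec, Matrix.one_mulVec] at hDx
      exact hx0 (h27_s6_neg_fix h2 x hDx)
    refine ⟨?_, fun h => hne (by rw [h]; exact hz)⟩
    rcases hG.sq _ hdR with h | h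
    · apply Units.ext
      rw [Units.val_mul]; exact h
    · exfalso
      have h' := congrArg (fun A => A *ᵥ x) h
      rw [← Matrix.mulVec_mulVec, hDx, hDx, Matrix.neg_mulVec, Matrix.one_mulVec] at h'
      exact hx0 (h27_s6_neg_fix h2 x h'.symm)
  exact Cfsg.Agent.Lib.helper27.h27_btv_group R z hzc hz2 hz1 hcomm hanti y hy' hA k hk hyk

end Cfsg.Agent.Lib.helper24
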