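import Mathlib
import Cfsg.Agent.Lib.helper14.DicksonCount

/-!
# S4073 piece CT-A (`ct_sylow2_normalizer`), race copy by helper27

A simple CT-group of order `q (q-1) (q+1)`, `q = 2^n`, `q - 1` prime: the Sylow 2-subgroup `P` is
abelian, self-centralizing (`C_G(u) = P` for `1 ≠ u ∈ P`) and `|N_G(P)| = q (q-1)`.
-/

set_option autoImplicit false

namespace Cfsg.Agent.Lib.helper27.SNG

universe u v

open Subgroup

theorem h27_two_pow_eq (k n a b : ℕ) (ha : ¬ 2 ∣ a) (hb : ¬ 2 ∣ b) (h : 2 ^ k * a = 2 ^ n * b) :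
    2 ^ k = 2 ^ n := by
  have c1 : Nat.Coprime (2 ^ k) b :=
    Nat.Coprime.pow_left k ((Nat.Prime.coprime_iff_not_dvd Nat.prime_two).mpr hb)
  have c2 : Nat.Coprime (2 ^ n) a :=
    Nat.Coprime.pow_left n ((Nat.Prime.coprime_iff_not_dvd Nat.prime_two).mpr ha)
  apply Nat.dvd_antisymm
  · exact c1.dvd_of_dvd_mul_right ⟨a, h.symm⟩
  · exact c2.dvd_of_dvd_mul_right ⟨b, h⟩

/-- arithmetic core: `d ≡ 1 mod (r+1)` and `d * s = r (r+2)` force `d = 1` or `d = r + 2`. -/
theorem h27_ctA_arith (r d s k : ℕ) (hr : 0 < r) (hd : d = k * (r + 1) + 1)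
    (hds : d * s = r * (r + 2)) : (d = 1 ∧ s = r * (r + 2)) ∨ (d = r + 2 ∧ s = r) := by
  subst hd
  have h1 : (r + 1) ∣ s + 1 := by
    have h2 : (r + 1) ∣ (r + 1) * (k * s) + (s + 1) := by
      refine ⟨r + 1, ?_⟩
      have : (r + 1) * (k * s) + (s + 1) = (k * (r + 1) + 1) * s + 1 := by ring
      rw [this, hds]; ring
    exact (Nat.dvd_add_right (dvd_mul_right _ _)).mp h2
  obtain ⟨m, hm⟩ := h1
  have hm1 : 1 ≤ m := by
    rcases Nat.eq_zero_or_pos m with h0 | h0
    · subst h0; simp at hm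
    · exact h0
  have hsr : r ≤ s := by nlinarith
  have h4 : (k * (r + 1) + 1) * r ≤ (r + 2) * r := by
    calc (k * (r + 1) + 1) * r ≤ (k * (r + 1) + 1) * s := Nat.mul_le_mul_left _ hsr
      _ = r * (r + 2) := hds
      _ = (r + 2) * r := by ring
  have h5 : k * (r + 1) + 1 ≤ r + 2 := Nat.le_of_mul_le_mul_right h4 hr
  have hk : k ≤ 1 := by
    have h6 : k * (r + 1) ≤ 1 * (r + 1) := by omega
    exact Nat.le_of_mul_le_mul_right h6 (by omega)
  interval_cases k
  · left
    constructor
    · simp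
    · simpa using hds
  · right
    have h7 : (r + 2) * s = (r + 2) * r := by
      have : (1 * (r + 1) + 1) * s = (r + 2) * s := by ring
      rw [← this, hds]; ring
    constructor
    · ring
    · exact Nat.eq_of_mul_eq_mul_left (by omega) h7

/-- **[CT-A]** -/
theorem ct_sylow2_normalizer {G : Type u} [Group G] [Finite G] [IsSimpleGroup G]
    (hna : ¬ IsMulCommutative G)
    (hCT : ∀ a b c : G, b ≠ 1 → Commute a b → Commute b c → Commute a c)
    {n : ℕ} (hn : 2 ≤ n) (hp : (2 ^ n - 1).Prime)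
    (hcard : Nat.card G = 2 ^ n * (2 ^ n - 1) * (2 ^ n + 1)) (P : Sylow 2 G) :
    Nat.card (Subgroup.normalizer ((P : Subgroup G) : Set G)) = 2 ^ n * (2 ^ n - 1) ∧
    IsMulCommutative P ∧
    ∀ u ∈ P, u ≠ 1 → ∀ g : G, Commute g u → g ∈ P := by
  have : Fact (Nat.Prime 2) := ⟨Nat.prime_two⟩
  obtain ⟨r, hr⟩ : ∃ r, 2 ^ n = r + 1 := ⟨2 ^ n - 1, (Nat.sub_add_cancel Nat.one_le_two_pow).symm⟩
  have hr' : 2 ^ n - 1 = r := by omega
  rw [hr'] at hp hcard ⊢
  have h4 : 2 ^ 2 ≤ 2 ^ n := Nat.pow_le_pow_right (by norm_num) hn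
  have hr3 : 3 ≤ r := by omega
  have hrodd : ¬ 2 ∣ r := by
    intro h2
    have h3 : 2 ∣ 2 ^ n := dvd_pow_self 2 (by omega)
    rw [hr] at h3
    omega
  have hr2odd : ¬ 2 ∣ r * (r + 2) := by
    intro h2
    rcases (Nat.Prime.dvd_mul Nat.prime_two).mp h2 with h | h
    · exact hrodd h
    · exact hrodd (by omega)
  have hcard' : Nat.card G = (r + 1) * r * (r + 2) := by
    rw [hcard, hr]
  -- the order of P
  have hPcard : Nat.card (P : Subgroup G) = r + 1 := by
    obtain ⟨k, hk⟩ := IsPGroup.exists_card_eq P.isPGroup'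
    have hidx := P.not_dvd_index
    have hmul := (P : Subgroup G).card_mul_index
    rw [hk, hcard] at hmul
    have e2 : 2 ^ n + 1 = r + 2 := by omega
    have := h27_two_pow_eq k n _ _ hidx hr2odd (by rw [hmul, e2]; ring)
    rw [hk, this, hr]
  have hPab : ∀ a ∈ (P : Subgroup G), ∀ c ∈ (P : Subgroup G), Commute a c := by
    have : Nontrivial (P : Subgroup G) := by
      rw [← Finite.one_lt_card_iff_nontrivial, hPcard]; omega
    have := P.isPGroup'.center_nontrivial
    obtain ⟨z, hz⟩ := exists_ne (1 : Subgroup.center (P : Subgroup G))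
    intro a ha c hc
    have hz1 : ((z : (P : Subgroup G)) : G) ≠ 1 := by
      intro h
      apply hz
      ext
      simpa using h
    have h1 : Commute a ((z : (P : Subgroup G)) : G) := by
      have := Subgroup.mem_center_iff.mp z.2 ⟨a, ha⟩
      exact congrArg Subtype.val this
    have h2 : Commute ((z : (P : Subgroup G)) : G) c := by
      have := Subgroup.mem_center_iff.mp z.2 ⟨c, hc⟩
      exact (congrArg Subtype.val this).symm
    exact hCT a _ c hz1 h1 h2
  set N : Subgroup G := Subgroup.normalizer ((P : Subgroup G) : Set G) with hN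
  have hPN : (P : Subgroup G) ≤ N := Subgroup.le_normalizer
  have hC : ∀ u ∈ (P : Subgroup G), u ≠ 1 → ∀ g : G, Commute g u →
      g ∈ Subgroup.centralizer ((P : Subgroup G) : Set G) := by
    intro u hu hu1 g hg
    rw [Subgroup.mem_centralizer_iff]
    intro h hh
    exact (hCT g u h hu1 hg (hPab u hu h hh)).eq.symm
  have hCN : Subgroup.centralizer ((P : Subgroup G) : Set G) ≤ N :=
    Subgroup.centralizer_le_normalizer _
  have hTI : ∀ g : G, g ∉ N → ∀ u ∈ (P : Subgroup G), g⁻¹ * u * g ∈ N → u = 1 := by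
    intro g hg u hu hv
    by_contra hu1
    apply hg
    set v := g⁻¹ * u * g with hvdef
    have hv1 : v ≠ 1 := by
      intro h
      apply hu1
      have h0 : u = g * v * g⁻¹ := by rw [hvdef]; group
      rw [h0, h]; group
    have hvP : v ∈ (P : Subgroup G) := by
      have hpg : IsPGroup 2 (Subgroup.zpowers v) := by
        obtain ⟨k, hk⟩ := P.isPGroup' ⟨u, hu⟩
        have huk : u ^ 2 ^ k = 1 := by simpa using congrArg Subtype.val hk
        have hvk : v ^ 2 ^ k = 1 := by
          have h0 : v ^ 2 ^ k = g⁻¹ * u ^ 2 ^ k * g := by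
            rw [hvdef]
            have := conj_pow (a := g⁻¹) (b := u) (i := 2 ^ k)
            simpa using this
          rw [h0, huk]; group
        rintro ⟨x, hx⟩
        obtain ⟨i, rfl⟩ := Subgroup.mem_zpowers_iff.mp hx
        refine ⟨k, Subtype.ext ?_⟩
        show (v ^ i) ^ 2 ^ k = 1
        rw [← zpow_natCast, ← zpow_mul, mul_comm, zpow_mul, zpow_natCast, hvk, one_zpow]
      have hle : Subgroup.zpowers v ≤ N := (Subgroup.zpowers_le).mpr hv
      have hfix := (Subgroup.sylow_mem_fixedPoints_iff (Subgroup.zpowers v) (P := P)).mpr hle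
      exact (hpg.sylow_mem_fixedPoints_iff.mp hfix) (Subgroup.mem_zpowers v)
    have hQle : ∀ x ∈ (P : Subgroup G), g⁻¹ * x * g ∈ N := by
      intro x hx
      apply hCN
      apply hC v hvP hv1
      have hxu : x * u = u * x := (hPab x hx u hu).eq
      show g⁻¹ * x * g * v = v * (g⁻¹ * x * g)
      rw [hvdef]
      calc g⁻¹ * x * g * (g⁻¹ * u * g) = g⁻¹ * (x * u) * g := by group
        _ = g⁻¹ * (u * x) * g := by rw [hxu]
        _ = g⁻¹ * u * g * (g⁻¹ * x * g) := by group
    set Q : Subgroup G := (P : Subgroup G).map (MulAut.conj g⁻¹).toMonoidHom with hQ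
    have hQN : Q ≤ N := by
      rintro y ⟨x, hx, rfl⟩
      have := hQle x hx
      simpa using this
    have hQpg : IsPGroup 2 Q := P.isPGroup'.map _
    have hQP : Q ≤ (P : Subgroup G) :=
      hQpg.sylow_mem_fixedPoints_iff.mp ((Subgroup.sylow_mem_fixedPoints_iff Q (P := P)).mpr hQN)
    have hQeq : Q = (P : Subgroup G) := by
      apply Subgroup.eq_of_le_of_card_ge hQP
      rw [hQ, Subgroup.card_map_of_injective (MulEquiv.injective _)]
    rw [hN, Subgroup.mem_normalizer_iff'']
    intro h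
    constructor
    · intro hh
      apply hQP
      exact ⟨h, hh, by simp⟩
    · intro hh
      have h0 : g⁻¹ * h * g ∈ Q := hQeq ▸ hh
      obtain ⟨x, hx, hxe⟩ := h0
      have hxh : x = h := by
        have h3 : g⁻¹ * x * g = g⁻¹ * h * g := by simpa using hxe
        have h5 := congrArg (fun t => g * t * g⁻¹) h3
        simpa [mul_assoc] using h5
      rw [← hxh]; exact hx
  have hdvd : Nat.card (P : Subgroup G) ∣ N.index - 1 :=
    Cfsg.Agent.Lib.helper14.card_dvd_index_sub_one (P : Subgroup G) N hPN hTI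
  rw [hPcard] at hdvd
  have hidx_pos : 0 < N.index := Nat.pos_of_ne_zero Subgroup.index_ne_zero_of_finite
  obtain ⟨k, hk⟩ := hdvd
  have hd : N.index = k * (r + 1) + 1 := by
    have := (Nat.sub_eq_iff_eq_add hidx_pos).mp hk
    rw [this]; ring
  obtain ⟨s, hs⟩ : (r + 1) ∣ Nat.card N := by
    rw [← hPcard]; exact Subgroup.card_dvd_of_le hPN
  have hmul := N.card_mul_index
  rw [hs, hcard'] at hmul
  have hds : N.index * s = r * (r + 2) := by
    have h0 : (r + 1) * (N.index * s) = (r + 1) * (r * (r + 2)) := by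
      rw [← mul_assoc (r + 1) r, ← hmul]; ring
    exact Nat.eq_of_mul_eq_mul_left (by omega) h0
  rcases h27_ctA_arith r N.index s k (by omega) hd hds with ⟨h1, -⟩ | ⟨h2, hsr⟩
  · exfalso
    have hNtop : N = ⊤ := Subgroup.index_eq_one.mp h1
    have hnorm : (P : Subgroup G).Normal := Subgroup.normalizer_eq_top_iff.mp hNtop
    rcases IsSimpleGroup.eq_bot_or_eq_top_of_normal (P : Subgroup G) hnorm with hb | ht
    · rw [hb, Subgroup.card_bot] at hPcard; omega
    · rw [ht, Subgroup.card_top, hcard'] at hPcard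
      nlinarith
  · have hNcard : Nat.card N = (r + 1) * r := by rw [hs, hsr]
    rw [hr]
    refine ⟨hNcard, ⟨⟨fun a b => Subtype.ext (hPab a a.2 b b.2).eq⟩⟩, ?_⟩
    set C₀ := Subgroup.centralizer ((P : Subgroup G) : Set G) with hC₀
    have hPC : (P : Subgroup G) ≤ C₀ := by
      intro x hx
      rw [hC₀, Subgroup.mem_centralizer_iff]
      intro h hh
      exact (hPab h hh x hx).eq
    have hC₀card : Nat.card C₀ = r + 1 := by
      obtain ⟨m, hm⟩ : (r + 1) ∣ Nat.card C₀ := by
        rw [← hPcard]; exact Subgroup.card_dvd_of_le hPC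
      have h2 : Nat.card C₀ ∣ (r + 1) * r := by
        rw [← hNcard]; exact Subgroup.card_dvd_of_le hCN
      rw [hm] at h2
      have hmr : m ∣ r := Nat.dvd_of_mul_dvd_mul_left (by omega) h2
      rcases (Nat.dvd_prime hp).mp hmr with h1 | h1
      · rw [hm, h1, mul_one]
      · exfalso
        have hCN' : C₀ = N := Subgroup.eq_of_le_of_card_ge hCN (by rw [hNcard, hm, h1])
        have hle : Subgroup.normalizer ((P : Subgroup G) : Set G) ≤
            Subgroup.centralizer ((P : Subgroup G) : Set G) := hCN'.ge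
        have hcomp := MonoidHom.ker_transferSylow_isComplement' P hle
        have hcc := hcomp.card_mul_card
        rcases IsSimpleGroup.eq_bot_or_eq_top_of_normal _
          (MonoidHom.normal_ker (MonoidHom.transferSylow P hle)) with hb | ht
        · rw [hb, Subgroup.card_bot, one_mul, hPcard, hcard'] at hcc
          nlinarith
        · rw [ht, Subgroup.card_top, hPcard, hcard'] at hcc
          nlinarith
    have hC₀P : C₀ = (P : Subgroup G) :=
      (Subgroup.eq_of_le_of_card_ge hPC (by rw [hC₀card, hPcard])).symm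
    intro u hu hu1 g hg
    have h9 : g ∈ C₀ := hC u hu hu1 g hg
    rw [hC₀P] at h9
    exact h9

end Cfsg.Agent.Lib.helper27.SNG
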