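import Mathlib
import Cfsg.Agent.Lib.helper49.SPEDefs

/-!
# S2333, piece ESPAN (helper27): two linear forms with the same anisotropic binary form
-/

set_option autoImplicit false

namespace Cfsg.Agent.Lib.helper49.SPE

open Matrix

/-- Dual vectors for an independent pair of linear forms (own copy of DUALV, explicit construction). -/
theorem h27_dual_vecs {F : Type*} [Field F] {n : ℕ} (l m : Fin n → F) (h : Indep l m) :
    ∃ x₁ x₂ : Fin n → F, l ⬝ᵥ x₁ = 1 ∧ m ⬝ᵥ x₁ = 0 ∧ l ⬝ᵥ x₂ = 0 ∧ m ⬝ᵥ x₂ = 1 := by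
  classical
  obtain ⟨i, hi⟩ : ∃ i, l i ≠ 0 := by
    by_contra hcon
    push Not at hcon
    have hl0 : l = 0 := funext hcon
    have h1 := h 1 0 (by rw [hl0]; simp)
    exact one_ne_zero h1.1
  obtain ⟨j, hj⟩ : ∃ j, m j - m i / l i * l j ≠ 0 := by
    by_contra hcon
    push Not at hcon
    have h0 : (m i / l i) • l + (-1 : F) • m = 0 := by
      ext k
      have hk := hcon k
      simp only [Pi.add_apply, Pi.smul_apply, smul_eq_mul, Pi.zero_apply]
      linear_combination -hk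
    have h1 := h _ _ h0
    have h2 : (-1 : F) = 0 := h1.2
    exact one_ne_zero (neg_eq_zero.1 h2)
  obtain ⟨κ, hκdef⟩ : ∃ κ : F, κ = m j - m i / l i * l j := ⟨_, rfl⟩
  rw [← hκdef] at hj
  have e1 : l j - l j / l i * l i = 0 := by
    rw [div_mul_cancel₀ _ hi, sub_self]
  have e2 : m j - l j / l i * m i = κ := by
    rw [hκdef]
    field_simp
  refine ⟨(l i)⁻¹ • Pi.single i 1 - (m i / l i) •
      (κ⁻¹ • (Pi.single j 1 - (l j / l i) • Pi.single i 1)),
    κ⁻¹ • (Pi.single j 1 - (l j / l i) • Pi.single i 1), ?_, ?_, ?_, ?_⟩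
  · simp only [dotProduct_sub, dotProduct_smul, dotProduct_single_one, smul_eq_mul]
    rw [e1, mul_zero, mul_zero, sub_zero, inv_mul_cancel₀ hi]
  · simp only [dotProduct_sub, dotProduct_smul, dotProduct_single_one, smul_eq_mul]
    rw [e2, inv_mul_cancel₀ hj, mul_one]
    field_simp
    ring
  · simp only [dotProduct_sub, dotProduct_smul, dotProduct_single_one, smul_eq_mul]
    rw [e1, mul_zero]
  · simp only [dotProduct_sub, dotProduct_smul, dotProduct_single_one, smul_eq_mul]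
    rw [e2, inv_mul_cancel₀ hj]

/-- ESPAN (L) -/
theorem ell_span {F : Type*} [Field F] {n : ℕ} (a b c : F)
    (haniso : ∀ s t : F, bq a b c s t = 0 → s = 0 ∧ t = 0) (l m l' m' : Fin n → F)
    (h : Indep l m)
    (heq : ∀ x, bq a b c (l' ⬝ᵥ x) (m' ⬝ᵥ x) = bq a b c (l ⬝ᵥ x) (m ⬝ᵥ x)) :
    ∃ p r s t : F, l' = p • l + r • m ∧ m' = s • l + t • m ∧
      ∀ S T : F, bq a b c (p * S + r * T) (s * S + t * T) = bq a b c S T := by
  classical
  obtain ⟨x₁, x₂, h11, h21, h12, h22⟩ := h27_dual_vecs l m h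
  have hker : ∀ x : Fin n → F,
      l' ⬝ᵥ (x - (l ⬝ᵥ x) • x₁ - (m ⬝ᵥ x) • x₂) = 0 ∧
      m' ⬝ᵥ (x - (l ⬝ᵥ x) • x₁ - (m ⬝ᵥ x) • x₂) = 0 := by
    intro x
    apply haniso
    rw [heq]
    have hl : l ⬝ᵥ (x - (l ⬝ᵥ x) • x₁ - (m ⬝ᵥ x) • x₂) = 0 := by
      rw [dotProduct_sub, dotProduct_sub, dotProduct_smul, dotProduct_smul, h11, h12]
      simp
    have hm : m ⬝ᵥ (x - (l ⬝ᵥ x) • x₁ - (m ⬝ᵥ x) • x₂) = 0 := by
      rw [dotProduct_sub, dotProduct_sub, dotProduct_smul, dotProduct_smul, h21, h22]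
      simp
    rw [hl, hm]
    simp [bq]
  have hl' : ∀ x : Fin n → F, l' ⬝ᵥ x = (l' ⬝ᵥ x₁) * (l ⬝ᵥ x) + (l' ⬝ᵥ x₂) * (m ⬝ᵥ x) := by
    intro x
    have h1 := (hker x).1
    rw [dotProduct_sub, dotProduct_sub, dotProduct_smul, dotProduct_smul, smul_eq_mul,
      smul_eq_mul] at h1
    linear_combination h1
  have hm' : ∀ x : Fin n → F, m' ⬝ᵥ x = (m' ⬝ᵥ x₁) * (l ⬝ᵥ x) + (m' ⬝ᵥ x₂) * (m ⬝ᵥ x) := by
    intro x
    have h1 := (hker x).2
    rw [dotProduct_sub, dotProduct_sub, dotProduct_smul, dotProduct_smul, smul_eq_mul,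
      smul_eq_mul] at h1
    linear_combination h1
  refine ⟨l' ⬝ᵥ x₁, l' ⬝ᵥ x₂, m' ⬝ᵥ x₁, m' ⬝ᵥ x₂, ?_, ?_, ?_⟩
  · ext k
    have h1 := hl' (Pi.single k 1)
    simp only [dotProduct_single_one] at h1
    simp only [Pi.add_apply, Pi.smul_apply, smul_eq_mul]
    exact h1
  · ext k
    have h1 := hm' (Pi.single k 1)
    simp only [dotProduct_single_one] at h1
    simp only [Pi.add_apply, Pi.smul_apply, smul_eq_mul]
    exact h1
  · intro S T
    have h1 := heq (S • x₁ + T • x₂)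
    have e1 : l ⬝ᵥ (S • x₁ + T • x₂) = S := by
      rw [dotProduct_add, dotProduct_smul, dotProduct_smul, h11, h12]
      simp
    have e2 : m ⬝ᵥ (S • x₁ + T • x₂) = T := by
      rw [dotProduct_add, dotProduct_smul, dotProduct_smul, h21, h22]
      simp
    rw [hl', hm', e1, e2] at h1
    exact h1

end Cfsg.Agent.Lib.helper49.SPE
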