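import Mathlib
import Cfsg.Agent.Lib.helper49.SPEDefs
import Cfsg.Agent.Lib.helper27.SPEESPAN

/-!
# S2333, piece ESTAB, core (helper27): the fibre embeds in the isometry set of the binary form
-/

set_option autoImplicit false

namespace Cfsg.Agent.Lib.helper49.SPE

open Matrix

/-- ESTAB, core: the bound of EISO is a hypothesis. -/
theorem h27_card_fibre_le_core {F : Type*} [Field F] [Fintype F] {n : ℕ} (a b c : F)
    (haniso : ∀ s t : F, bq a b c s t = 0 → s = 0 ∧ t = 0) (l m : Fin n → F)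
    (h : Indep l m)
    (hEISO : Nat.card {g : (F × F) × (F × F) // ∀ S T : F,
        bq a b c (g.1.1 * S + g.1.2 * T) (g.2.1 * S + g.2.2 * T) = bq a b c S T} ≤
      2 * (Fintype.card F + 1)) :
    Nat.card {p : (Fin n → F) × (Fin n → F) //
        ∀ x, bq a b c (p.1 ⬝ᵥ x) (p.2 ⬝ᵥ x) = bq a b c (l ⬝ᵥ x) (m ⬝ᵥ x)} ≤
      2 * (Fintype.card F + 1) := by
  classical
  refine le_trans ?_ hEISO
  have key : ∀ p : {p : (Fin n → F) × (Fin n → F) //
        ∀ x, bq a b c (p.1 ⬝ᵥ x) (p.2 ⬝ᵥ x) = bq a b c (l ⬝ᵥ x) (m ⬝ᵥ x)},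
      ∃ g : {g : (F × F) × (F × F) // ∀ S T : F,
        bq a b c (g.1.1 * S + g.1.2 * T) (g.2.1 * S + g.2.2 * T) = bq a b c S T},
        p.1.1 = g.1.1.1 • l + g.1.1.2 • m ∧ p.1.2 = g.1.2.1 • l + g.1.2.2 • m := by
    intro p
    obtain ⟨pp, r, s, t, h1, h2, h3⟩ := ell_span a b c haniso l m p.1.1 p.1.2 h p.2
    exact ⟨⟨((pp, r), (s, t)), h3⟩, h1, h2⟩
  choose f hf using key
  apply Nat.card_le_card_of_injective f
  intro p p' hpp
  apply Subtype.ext
  apply Prod.ext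
  · rw [(hf p).1, (hf p').1, hpp]
  · rw [(hf p).2, (hf p').2, hpp]

end Cfsg.Agent.Lib.helper49.SPE
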