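import Mathlib
import Cfsg.Agent.Lib.helper49.SPEDefs
import Cfsg.Agent.Lib.helper27.SPEESTABcore
import Cfsg.Agent.Lib.helper66.SPEEISOcore
import Cfsg.Agent.Lib.helper46.SPEENORM

/-!
# S2333, piece ESTAB (helper27): fibres of `(l', m') ↦ N(l'·x, m'·x)` have at most `2(q+1)` elements
-/

set_option autoImplicit false

namespace Cfsg.Agent.Lib.helper49.SPE

open Matrix

/-- ESTAB (M): from ESPAN + EISO -/
theorem card_fibre_le {F : Type*} [Field F] [Fintype F] {n : ℕ} (h2 : (2 : F) = 0) (a b c : F)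
    (hb : b ≠ 0) (haniso : ∀ s t : F, bq a b c s t = 0 → s = 0 ∧ t = 0) (l m : Fin n → F)
    (h : Indep l m) :
    Nat.card {p : (Fin n → F) × (Fin n → F) //
        ∀ x, bq a b c (p.1 ⬝ᵥ x) (p.2 ⬝ᵥ x) = bq a b c (l ⬝ᵥ x) (m ⬝ᵥ x)} ≤
      2 * (Fintype.card F + 1) :=
  h27_card_fibre_le_core a b c haniso l m h
    (h66_card_iso_le_core h2 a b c hb haniso (card_norm_le h2 a b c haniso))

end Cfsg.Agent.Lib.helper49.SPE
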