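import Mathlib
import Cfsg.Agent.Lib.helper17.Herm
import Cfsg.Agent.Lib.helper44.SUWDefs
import Cfsg.Agent.Lib.helper44.SUODefs
import Cfsg.Agent.Lib.helper57.SUWANISO
import Cfsg.Agent.Lib.helper61.SUWFSKEW

/-!
# S2334, piece OHEIS (helper27): the Heisenberg data (pure linear algebra)
-/

set_option autoImplicit false

namespace Cfsg.Agent.Lib.helper44.SUW

open Matrix

/-- `tr (Y (t t'† - t' t†)) = w + σ w` with `w = t'† Y t`, for skew-Hermitian `Y`. -/
theorem h27_trace_cmat {K : Type*} [Field K] (σ : K →+* K) (hσσ : ∀ x, σ (σ x) = x) {m : ℕ}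
    (Y : Matrix (Fin m) (Fin m) K) (hY : Y ∈ skewH σ m) (t t' : Fin m → K) :
    Matrix.trace (Y * cmat σ t t') =
      (∑ i, ∑ l, σ (t' i) * Y i l * t l) + σ (∑ i, ∑ l, σ (t' i) * Y i l * t l) := by
  have h1 : Matrix.trace (Y * cmat σ t t') =
      (∑ i, ∑ l, σ (t' i) * Y i l * t l) - ∑ i, ∑ l, σ (t i) * Y i l * t' l := by
    simp only [Matrix.trace, Matrix.diag_apply, Matrix.mul_apply, cmat, Matrix.sub_apply,
      Matrix.vecMulVec_apply]
    rw [← Finset.sum_sub_distrib]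
    refine Finset.sum_congr rfl (fun i _ => ?_)
    rw [← Finset.sum_sub_distrib]
    refine Finset.sum_congr rfl (fun l _ => ?_)
    ring
  have h2 : σ (∑ i, ∑ l, σ (t' i) * Y i l * t l) = - ∑ i, ∑ l, σ (t i) * Y i l * t' l := by
    simp only [map_sum, map_mul, hσσ]
    rw [Finset.sum_comm, ← Finset.sum_neg_distrib]
    refine Finset.sum_congr rfl (fun i _ => ?_)
    rw [← Finset.sum_neg_distrib]
    refine Finset.sum_congr rfl (fun l _ => ?_)
    rw [hY l i]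
    ring
  rw [h1, h2, sub_eq_add_neg]

/-- The value `t'† Y t` for `t' = τ e_{i₀}` and `t = s e_{l₀}`. -/
theorem h27_sum_single {K : Type*} [Field K] (σ : K →+* K) {m : ℕ}
    (Y : Matrix (Fin m) (Fin m) K) (i₀ l₀ : Fin m) (τ s : K) :
    (∑ i, ∑ l, σ ((Pi.single i₀ τ : Fin m → K) i) * Y i l *
      (s • (Pi.single l₀ (1 : K) : Fin m → K)) l) = σ τ * Y i₀ l₀ * s := by
  classical
  rw [Finset.sum_eq_single i₀ (fun i _ hi => ?_) (fun h => absurd (Finset.mem_univ _) h)]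
  · rw [Finset.sum_eq_single l₀ (fun l _ hl => ?_) (fun h => absurd (Finset.mem_univ _) h)]
    · simp
    · simp [Pi.single_eq_of_ne hl]
  · simp [Pi.single_eq_of_ne hi]

/-- OHEIS (L) -/
theorem heis_data {K : Type*} [Field K] [Fintype K] {q m : ℕ} (hK : Fintype.card K = q ^ 2)
    (σ : K →+* K) (hσ : ∀ x, σ x = x ^ q) (ψ : AddChar K ℂ) (hψ : ψ 1 ≠ 1)
    (Y : Matrix (Fin m) (Fin m) K) (hY : Y ∈ skewH σ m) (hY0 : Y ≠ 0) :
    ∃ (r : ℕ) (tx : Fin r → Fin m → K) (tz : Fin q → Fin m → K),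
      (∀ i i', cmat σ (tx i) (tx i') = 0) ∧
      ∀ j j', j ≠ j' → ∃ i, ψ (Matrix.trace (Y * cmat σ (tx i) (tz j))) ≠
        ψ (Matrix.trace (Y * cmat σ (tx i) (tz j'))) := by
  classical
  have hσσ : ∀ x, σ (σ x) = x := fun x => by
    rw [hσ, hσ]; exact Cfsg.Agent.Lib.helper17.pow_q_pow_q hK x
  obtain ⟨i₀, l₀, hy0⟩ : ∃ i l, Y i l ≠ 0 := by
    by_contra hcon
    push Not at hcon
    exact hY0 (by ext i l; exact hcon i l)
  obtain ⟨θ, hθ⟩ := h57_exists_not_fixed hK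
  have hδ : θ - σ θ ≠ 0 := by
    rw [hσ]
    exact sub_ne_zero.2 (Ne.symm hθ)
  have hcs := card_skew hK σ hσ
  obtain ⟨f, hf⟩ : ∃ f : Fin q → K, Function.Injective f ∧ ∀ j, σ (f j) = - f j := by
    refine ⟨fun j => ((Finite.equivFinOfCardEq hcs).symm j).1, ?_, fun j => ?_⟩
    · exact Subtype.val_injective.comp (Finite.equivFinOfCardEq hcs).symm.injective
    · exact ((Finite.equivFinOfCardEq hcs).symm j).2
  obtain ⟨hfinj, hfs⟩ := hf
  obtain ⟨π, hπ⟩ : ∃ π : K → K, (∀ s, σ (π s) = π s) ∧ ∀ s, σ s = s → π s = s := by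
    refine ⟨fun s => if σ s = s then s else 0, fun s => ?_, fun s hs => ?_⟩
    · by_cases h : σ s = s
      · simp only [if_pos h]; exact h
      · simp only [if_neg h]; exact map_zero σ
    · simp only [if_pos hs]
  obtain ⟨hπσ, hπfix⟩ := hπ
  obtain ⟨e⟩ : Nonempty (Fin (Fintype.card K) ≃ K) := ⟨(Fintype.equivFin K).symm⟩
  have hne0 : ∀ x, ψ x ≠ 0 := by
    intro x h
    have h1 := AddChar.map_add_eq_mul ψ x (-x)
    rw [add_neg_cancel, AddChar.map_zero_eq_one, h, zero_mul] at h1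
    exact one_ne_zero h1
  refine ⟨Fintype.card K, fun i => π (e i) • (Pi.single l₀ (1 : K) : Fin m → K),
    fun j => Pi.single i₀ (σ (f j * θ / Y i₀ l₀)), ?_, ?_⟩
  · intro i i'
    ext k l
    simp only [cmat, Matrix.sub_apply, Matrix.vecMulVec_apply, Pi.smul_apply, smul_eq_mul,
      map_mul, hπσ, Matrix.zero_apply]
    ring
  · intro j j' hjj
    have key : ∀ (i : Fin (Fintype.card K)) (j : Fin q),
        Matrix.trace (Y * cmat σ (π (e i) • (Pi.single l₀ (1 : K) : Fin m → K))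
          (Pi.single i₀ (σ (f j * θ / Y i₀ l₀)))) = π (e i) * (f j * (θ - σ θ)) := by
      intro i j
      rw [h27_trace_cmat σ hσσ Y hY, h27_sum_single, hσσ, div_mul_cancel₀ _ hy0, map_mul, map_mul,
        hπσ, hfs]
      ring
    have hd : (f j - f j') * (θ - σ θ) ≠ 0 :=
      mul_ne_zero (sub_ne_zero.2 (fun h => hjj (hfinj h))) hδ
    have hσd : σ ((f j - f j') * (θ - σ θ)) = (f j - f j') * (θ - σ θ) := by
      rw [map_mul, map_sub, map_sub, hfs, hfs, hσσ]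
      ring
    have hσdinv : σ ((f j - f j') * (θ - σ θ))⁻¹ = ((f j - f j') * (θ - σ θ))⁻¹ := by
      rw [map_inv₀, hσd]
    refine ⟨e.symm ((f j - f j') * (θ - σ θ))⁻¹, ?_⟩
    rw [key, key, Equiv.apply_symm_apply, hπfix _ hσdinv]
    have hsplit : ((f j - f j') * (θ - σ θ))⁻¹ * (f j * (θ - σ θ)) =
        ((f j - f j') * (θ - σ θ))⁻¹ * (f j' * (θ - σ θ)) + 1 := by
      have h1 : f j * (θ - σ θ) = f j' * (θ - σ θ) + (f j - f j') * (θ - σ θ) := by ring
      rw [h1, mul_add, inv_mul_cancel₀ hd]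
    rw [hsplit, AddChar.map_add_eq_mul]
    intro heq
    apply hψ
    have h2 : ψ (((f j - f j') * (θ - σ θ))⁻¹ * (f j' * (θ - σ θ))) * ψ 1 =
        ψ (((f j - f j') * (θ - σ θ))⁻¹ * (f j' * (θ - σ θ))) * 1 := by
      rw [heq, mul_one]
    exact mul_left_cancel₀ (hne0 _) h2

end Cfsg.Agent.Lib.helper44.SUW
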