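import Mathlib
import Cfsg.Agent.Lib.helper17.HermForm
import Cfsg.Agent.Lib.helper17.Herm
import Cfsg.Agent.Lib.helper44.SUWDefs
import Cfsg.Agent.Lib.helper44.SUODefs
import Cfsg.Agent.Lib.helper57.SUWANISO
import Cfsg.Agent.Lib.helper61.SUWFSKEW

/-!
# S2334, piece OHORB1 (helper27): the orbit count for `1 × 1` skew-Hermitian matrices
-/

set_option autoImplicit false

namespace Cfsg.Agent.Lib.helper44.SUW

open Matrix

/-- OHORB1 (M) -/
theorem herm_orbit_one {K : Type*} [Field K] [Fintype K] {q : ℕ} (hK : Fintype.card K = q ^ 2)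
    (σ : K →+* K) (hσ : ∀ x, σ x = x ^ q) (S : Set (Matrix (Fin 1) (Fin 1) K))
    (hS : ∀ Y ∈ S, Y ∈ skewH σ 1)
    (hstab : ∀ Y ∈ S, ∀ B : Matrix (Fin 1) (Fin 1) K, B.det ≠ 0 → (B.map σ)ᵀ * Y * B ∈ S)
    (h0 : (0 : Matrix (Fin 1) (Fin 1) K) ∉ S) (hne : S.Nonempty) :
    (q ^ (1 + 1) - 1) / (q + 1) ≤ Nat.card S := by
  classical
  have hσσ : ∀ x, σ (σ x) = x := fun x => by
    rw [hσ, hσ]; exact Cfsg.Agent.Lib.helper17.pow_q_pow_q hK x
  have hσid : σ ≠ RingHom.id K := by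
    intro hid
    obtain ⟨μ, hμ⟩ := h57_exists_not_fixed hK
    apply hμ
    rw [← hσ μ, hid]
    rfl
  have hq : 1 ≤ q := by
    have := Cfsg.Agent.Lib.helper17.two_le_of_card_eq_sq hK
    omega
  have harith : (q ^ (1 + 1) - 1) / (q + 1) = q - 1 := by
    obtain ⟨t, rfl⟩ : ∃ t, q = t + 1 := ⟨q - 1, by omega⟩
    have h1 : (t + 1) ^ (1 + 1) - 1 = (t + 1 + 1) * t := by
      have : (t + 1) ^ (1 + 1) = (t + 1 + 1) * t + 1 := by ring
      omega
    rw [h1, Nat.mul_div_cancel_left _ (by omega)]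
    omega
  obtain ⟨Y₀, hY₀⟩ := hne
  have hc₀ : Y₀ 0 0 ≠ 0 := by
    intro h
    apply h0
    have : Y₀ = 0 := by
      ext i j
      rw [Subsingleton.elim i 0, Subsingleton.elim j 0, h]
      rfl
    rw [← this]
    exact hY₀
  have hc₀σ : σ (Y₀ 0 0) = - Y₀ 0 0 := hS Y₀ hY₀ 0 0
  let φ : K → Matrix (Fin 1) (Fin 1) K := fun c => Matrix.of (fun _ _ => c)
  have hφinj : Function.Injective φ := by
    intro c c' h
    have := congrFun (congrFun h 0) 0
    simpa [φ] using this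
  set A0 : Set K := {c | σ c = -c} \ {0} with hA0
  have hA0card : A0.ncard = q - 1 := by
    have hmem : (0 : K) ∈ {c : K | σ c = -c} := by simp
    rw [hA0, Set.ncard_sdiff_singleton_of_mem hmem, ← Nat.card_coe_set_eq]
    exact congrArg (fun n => n - 1) (card_skew hK σ hσ)
  have hsub : φ '' A0 ⊆ S := by
    rintro _ ⟨c, ⟨hcs, hc0⟩, rfl⟩
    have hc0' : c ≠ 0 := fun h => hc0 h
    have hβ0 : c / Y₀ 0 0 ≠ 0 := div_ne_zero hc0' hc₀
    have hβσ : σ (c / Y₀ 0 0) = c / Y₀ 0 0 := by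
      rw [map_div₀, hcs, hc₀σ, neg_div_neg_eq]
    obtain ⟨β, hβ⟩ := Cfsg.Agent.Lib.helper17.norm_surj σ hσid hσσ (c / Y₀ 0 0) hβ0 hβσ
    have hβne : β ≠ 0 := by
      rintro rfl
      rw [zero_mul] at hβ
      exact hβ0 hβ.symm
    have hdet : (φ β).det ≠ 0 := by
      rw [Matrix.det_fin_one]
      exact hβne
    have hmem := hstab Y₀ hY₀ (φ β) hdet
    have heq : ((φ β).map σ)ᵀ * Y₀ * φ β = φ c := by
      ext i j
      rw [Subsingleton.elim i 0, Subsingleton.elim j 0]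
      simp only [Matrix.mul_apply, Matrix.transpose_apply, Matrix.map_apply, Finset.univ_unique,
        Finset.sum_singleton, φ, Matrix.of_apply, Fin.default_eq_zero]
      have h1 : c = β * σ β * Y₀ 0 0 := by rw [hβ, div_mul_cancel₀ _ hc₀]
      rw [h1]
      ring
    rw [← heq]
    exact hmem
  rw [harith, Nat.card_coe_set_eq]
  calc q - 1 = A0.ncard := hA0card.symm
    _ = (φ '' A0).ncard := (Set.ncard_image_of_injective _ hφinj).symm
    _ ≤ S.ncard := Set.ncard_le_ncard hsub (Set.toFinite _)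

end Cfsg.Agent.Lib.helper44.SUW
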