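import Mathlib
import Cfsg.Agent.Lib.helper44.SUWDefs

/-!
# S2335, piece CASEA, core (helper27): counting first columns
-/

set_option autoImplicit false

namespace Cfsg.Agent.Lib.helper44.SUW

open Matrix

/-- The arithmetic identity behind CASEA. -/
theorem h27_case_a_arith (q m : ℕ) (hq : 1 ≤ q) (hm : 1 ≤ m) :
    (q ^ (m + m) - 1) / (q + 1) =
      (q - 1) * q ^ ((m - 1) + (m - 1)) + (q ^ ((m - 1) + (m - 1)) - 1) / (q + 1) := by
  obtain ⟨t, rfl⟩ : ∃ t, q = t + 1 := ⟨q - 1, by omega⟩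
  obtain ⟨l, rfl⟩ : ∃ l, m = l + 1 := ⟨m - 1, by omega⟩
  simp only [Nat.add_sub_cancel]
  set N := (t + 1) ^ (l + l) with hN
  have hN1 : 1 ≤ N := Nat.one_le_pow _ _ (by omega)
  have h1 : (t + 1) ^ (l + 1 + (l + 1)) = (t + 1) ^ 2 * N := by
    rw [hN, ← pow_add]; congr 1; omega
  have h2 : (t + 1) ^ 2 * N - 1 = (t + 1 + 1) * (t * N) + (N - 1) := by
    have h3 : (t + 1) ^ 2 * N = (t + 1 + 1) * (t * N) + N := by ring
    omega
  rw [h1, h2, Nat.mul_add_div (by omega)]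

/-- CASEA, core: the statements of FSKEW, COLNZ and COLZ are hypotheses. -/
theorem h27_case_a_core {K : Type*} [Field K] [Fintype K] [DecidableEq K] {q m : ℕ}
    (hK : Fintype.card K = q ^ 2) (hm : 2 ≤ m) (σ : K →+* K)
    (S : Set (Matrix (Fin m) (Fin m) K))
    (hFSKEW : Nat.card {c : K // σ c = -c} = q)
    (hCOLNZ : ∀ b : Fin m → K, b ⟨0, by omega⟩ ≠ 0 → σ (b ⟨0, by omega⟩) = - b ⟨0, by omega⟩ →
      ∃ Y ∈ S, ∀ i, Y i ⟨0, by omega⟩ = b i)
    (hCOLZ : (q ^ ((m - 1) + (m - 1)) - 1) / (q + 1) ≤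
      Nat.card {b : Fin m → K // b ⟨0, by omega⟩ = 0 ∧ b ≠ 0 ∧
        ∃ Y' ∈ S, ∀ i, Y' i ⟨0, by omega⟩ = b i}) :
    (q ^ (m + m) - 1) / (q + 1) ≤ Nat.card S := by
  classical
  have hq : 1 ≤ q := by
    rcases Nat.eq_zero_or_pos q with h0 | h0
    · exfalso
      rw [h0] at hK
      have := Fintype.card_pos (α := K)
      simp at hK
    · exact h0
  set i0 : Fin m := ⟨0, by omega⟩ with hi0
  let col : Matrix (Fin m) (Fin m) K → (Fin m → K) := fun Y i => Y i i0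
  set A : Set (Fin m → K) := {b | b i0 ≠ 0 ∧ σ (b i0) = - b i0} with hA
  set Bz : Set (Fin m → K) := {b | b i0 = 0 ∧ b ≠ 0 ∧ ∃ Y' ∈ S, ∀ i, Y' i i0 = b i} with hBz
  have hsub : A ∪ Bz ⊆ col '' S := by
    rintro b (hb | hb)
    · obtain ⟨Y, hY, hYb⟩ := hCOLNZ b hb.1 hb.2
      exact ⟨Y, hY, funext hYb⟩
    · obtain ⟨_, _, Y, hY, hYb⟩ := hb
      exact ⟨Y, hY, funext hYb⟩
  have hdisj : Disjoint A Bz := by
    rw [Set.disjoint_left]
    intro b hb hb'
    exact hb.1 hb'.1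
  have h1 : (A ∪ Bz).ncard ≤ S.ncard :=
    (Set.ncard_le_ncard hsub (Set.toFinite _)).trans (Set.ncard_image_le (Set.toFinite S))
  rw [Set.ncard_union_eq hdisj (Set.toFinite _) (Set.toFinite _)] at h1
  have hBz' : (q ^ ((m - 1) + (m - 1)) - 1) / (q + 1) ≤ Bz.ncard := by
    rw [← Nat.card_coe_set_eq]
    exact hCOLZ
  -- the count of `A`
  set A0 : Set K := {c | σ c = -c} \ {0} with hA0
  have hA0card : A0.ncard = q - 1 := by
    have hmem : (0 : K) ∈ {c : K | σ c = -c} := by simp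
    rw [hA0, Set.ncard_sdiff_singleton_of_mem hmem, ← Nat.card_coe_set_eq]
    exact congrArg (fun n => n - 1) hFSKEW
  let Φ : K × ({j : Fin m // j ≠ i0} → K) → (Fin m → K) := (Equiv.funSplitAt i0 K).symm
  have hΦinj : Function.Injective Φ := (Equiv.funSplitAt i0 K).symm.injective
  have hΦsub : Φ '' (A0 ×ˢ (Set.univ : Set ({j : Fin m // j ≠ i0} → K))) ⊆ A := by
    rintro b ⟨⟨c, f⟩, ⟨hc, -⟩, rfl⟩
    have hval : Φ (c, f) i0 = c := by
      simp [Φ, Equiv.funSplitAt, Equiv.piSplitAt]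
    refine ⟨?_, ?_⟩
    · rw [hval]; exact fun h => hc.2 h
    · rw [hval]; exact hc.1
  have hcardfun : Nat.card ({j : Fin m // j ≠ i0} → K) = q ^ ((m - 1) + (m - 1)) := by
    rw [Nat.card_eq_fintype_card, Fintype.card_fun, hK, Fintype.card_subtype_compl,
      Fintype.card_subtype_eq, Fintype.card_fin, ← pow_mul]
    congr 1; omega
  have hA' : (q - 1) * q ^ ((m - 1) + (m - 1)) ≤ A.ncard := by
    have h2 := Set.ncard_le_ncard hΦsub (Set.toFinite _)
    rw [Set.ncard_image_of_injective _ hΦinj, Set.ncard_prod, Set.ncard_univ, hA0card,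
      hcardfun] at h2
    exact h2
  rw [Nat.card_coe_set_eq, h27_case_a_arith q m hq (by omega)]
  omega

end Cfsg.Agent.Lib.helper44.SUW
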