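import Mathlib
import Cfsg.Agent.Lib.helper17.HermForm
import Cfsg.Agent.Lib.helper17.Herm
import Cfsg.Agent.Lib.helper44.SUWDefs
import Cfsg.Agent.Lib.helper57.SUWANISO
import Cfsg.Agent.Lib.helper75.SUWSLTR

/-!
# S2335, piece COLNZ (helper27): every first column with non-zero skew top entry occurs
-/

set_option autoImplicit false

namespace Cfsg.Agent.Lib.helper44.SUW

open Matrix

/-- `σ` is an involution different from the identity (own copy of FSIG). -/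
theorem h27_sigma_facts {K : Type*} [Field K] [Fintype K] {q : ℕ} (hK : Fintype.card K = q ^ 2)
    (σ : K →+* K) (hσ : ∀ x, σ x = x ^ q) :
    (∀ x, σ (σ x) = x) ∧ σ ≠ RingHom.id K := by
  refine ⟨fun x => by rw [hσ, hσ]; exact Cfsg.Agent.Lib.helper17.pow_q_pow_q hK x, ?_⟩
  intro hid
  obtain ⟨μ, hμ⟩ := h57_exists_not_fixed hK
  apply hμ
  rw [← hσ μ, hid]
  rfl

/-- The value `v† Y v` of a skew-Hermitian matrix is skew. -/
theorem h27_hval_skew {K : Type*} [Field K] (σ : K →+* K) (hσσ : ∀ x, σ (σ x) = x) {m : ℕ}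
    (Y : Matrix (Fin m) (Fin m) K) (hY : Y ∈ skewH σ m) (v : Fin m → K) :
    σ (hval σ Y v) = - hval σ Y v := by
  unfold hval
  simp only [map_sum, map_mul, hσσ]
  rw [Finset.sum_comm, ← Finset.sum_neg_distrib]
  refine Finset.sum_congr rfl (fun i _ => ?_)
  rw [← Finset.sum_neg_distrib]
  refine Finset.sum_congr rfl (fun j _ => ?_)
  rw [hY j i]
  ring

/-- COLNZ (L) -/
theorem col_nonzero {K : Type*} [Field K] [Fintype K] [DecidableEq K] {q m : ℕ}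
    (hK : Fintype.card K = q ^ 2) (hm : 2 ≤ m) (σ : K →+* K) (hσ : ∀ x, σ x = x ^ q)
    (S : Set (Matrix (Fin m) (Fin m) K)) (hS : ∀ Y ∈ S, Y ∈ skewH σ m)
    (hstab : ∀ Y ∈ S, ∀ B : Matrix (Fin m) (Fin m) K, B.det = 1 → (B.map σ)ᵀ * Y * B ∈ S)
    (hne : ∃ Y ∈ S, Y ≠ 0) (b : Fin m → K) (hb0 : b ⟨0, by omega⟩ ≠ 0)
    (hbs : σ (b ⟨0, by omega⟩) = - b ⟨0, by omega⟩) :
    ∃ Y ∈ S, ∀ i, Y i ⟨0, by omega⟩ = b i := by
  classical
  obtain ⟨hσσ, hσid⟩ := h27_sigma_facts hK σ hσ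
  set i0 : Fin m := ⟨0, by omega⟩ with hi0
  obtain ⟨Y, hYS, hY0⟩ := hne
  obtain ⟨v, hv⟩ := exists_aniso hK σ hσ Y (hS Y hYS) hY0
  have haσ : σ (hval σ Y v) = - hval σ Y v := h27_hval_skew σ hσσ Y (hS Y hYS) v
  have hv0 : v ≠ 0 := by
    rintro rfl
    apply hv
    simp [hval]
  have hβ : b i0 / hval σ Y v ≠ 0 := div_ne_zero hb0 hv
  have hβσ : σ (b i0 / hval σ Y v) = b i0 / hval σ Y v := by
    rw [map_div₀, hbs, haσ, neg_div_neg_eq]
  obtain ⟨α, hα⟩ := Cfsg.Agent.Lib.helper17.norm_surj σ hσid hσσ (b i0 / hval σ Y v) hβ hβσ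
  have hα0 : α ≠ 0 := by
    rintro rfl
    rw [zero_mul] at hα
    exact hβ hα.symm
  have he0 : (Pi.single i0 (1 : K) : Fin m → K) ≠ 0 := by
    intro h
    have h1 := congrFun h i0
    simp at h1
  have hαv : α • v ≠ 0 := smul_ne_zero hα0 hv0
  obtain ⟨B₁, hB₁det, hB₁⟩ := sl_trans hm (Pi.single i0 (1 : K)) (α • v) he0 hαv
  have hB₁col : ∀ k, B₁ k i0 = α * v k := by
    intro k
    have h1 := congrFun hB₁ k
    simpa [Matrix.mulVec, dotProduct, Pi.single_apply] using h1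
  have hY₁S : (B₁.map σ)ᵀ * Y * B₁ ∈ S := hstab Y hYS B₁ hB₁det
  obtain ⟨Y₁, hY₁⟩ : ∃ Y₁, Y₁ = (B₁.map σ)ᵀ * Y * B₁ := ⟨_, rfl⟩
  rw [← hY₁] at hY₁S
  have hc : ∀ i, Y₁ i i0 = ∑ k, ∑ l, σ (B₁ k i) * Y k l * B₁ l i0 := by
    intro i
    simp only [hY₁, Matrix.mul_apply, Matrix.transpose_apply, Matrix.map_apply, Finset.sum_mul]
    rw [Finset.sum_comm]
  have hc0 : Y₁ i0 i0 = b i0 := by
    rw [hc]
    simp only [hB₁col, map_mul]
    have h1 : ∑ k, ∑ l, σ α * σ (v k) * Y k l * (α * v l) = (α * σ α) * hval σ Y v := by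
      unfold hval
      rw [Finset.mul_sum]
      refine Finset.sum_congr rfl (fun k _ => ?_)
      rw [Finset.mul_sum]
      refine Finset.sum_congr rfl (fun l _ => ?_)
      ring
    rw [h1, hα, div_mul_cancel₀ _ hv]
  have hc0ne : Y₁ i0 i0 ≠ 0 := by rw [hc0]; exact hb0
  obtain ⟨r, hr⟩ : ∃ r : Fin m → K, r = fun i => σ ((b i - Y₁ i i0) / Y₁ i0 i0) := ⟨_, rfl⟩
  have hr0 : r i0 = 0 := by
    rw [hr]
    simp only
    rw [hc0, sub_self, zero_div, map_zero]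
  have hσr : ∀ i, σ (r i) = (b i - Y₁ i i0) / Y₁ i0 i0 := by
    intro i
    rw [hr]
    simp only
    rw [hσσ]
  obtain ⟨B₂, hB₂⟩ : ∃ B₂ : Matrix (Fin m) (Fin m) K,
      B₂ = 1 + Matrix.vecMulVec (Pi.single i0 (1 : K)) r := ⟨_, rfl⟩
  have hB₂det : B₂.det = 1 := by
    rw [hB₂, Matrix.vecMulVec_eq Unit, Matrix.det_one_add_replicateCol_mul_replicateRow]
    simp [hr0]
  have hB₂entry : ∀ k l, B₂ k l = (if k = l then 1 else 0) + (if k = i0 then r l else 0) := by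
    intro k l
    rw [hB₂]
    simp [Matrix.one_apply, Matrix.vecMulVec_apply, Pi.single_apply]
  have hcol : ∀ l, B₂ l i0 = if l = i0 then 1 else 0 := by
    intro l
    rw [hB₂entry]
    by_cases h : l = i0
    · subst h
      simp [hr0]
    · simp [h]
  refine ⟨(B₂.map σ)ᵀ * Y₁ * B₂, hstab Y₁ hY₁S B₂ hB₂det, fun i => ?_⟩
  have hsum : ∑ k, σ (B₂ k i) * Y₁ k i0 = Y₁ i i0 + σ (r i) * Y₁ i0 i0 := by
    have h1 : ∀ k, σ (B₂ k i) * Y₁ k i0 =
        (if k = i then Y₁ k i0 else 0) + (if k = i0 then σ (r i) * Y₁ k i0 else 0) := by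
      intro k
      rw [hB₂entry]
      by_cases h1 : k = i
      · subst h1
        by_cases h2 : k = i0
        · subst h2
          simp [add_mul]
        · simp [h2]
      · by_cases h2 : k = i0
        · subst h2
          simp [h1]
        · simp [h1, h2]
    simp only [h1, Finset.sum_add_distrib, Finset.sum_ite_eq', Finset.mem_univ, if_true]
  have hentry : ((B₂.map σ)ᵀ * Y₁ * B₂) i i0 = ∑ k, σ (B₂ k i) * Y₁ k i0 := by
    simp only [Matrix.mul_apply, Matrix.transpose_apply, Matrix.map_apply, hcol, mul_ite, mul_one,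
      mul_zero, Finset.sum_ite_eq', Finset.mem_univ, if_true]
  rw [hentry, hsum, hσr, div_mul_cancel₀ _ hc0ne]
  ring

end Cfsg.Agent.Lib.helper44.SUW
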