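import Mathlib
import Cfsg.Agent.Lib.helper44.SUWDefs
import Cfsg.Agent.Lib.helper27.SUWCASEAcore
import Cfsg.Agent.Lib.helper27.SUWCOLNZ
import Cfsg.Agent.Lib.helper61.SUWFSKEW
import Cfsg.Agent.Lib.helper61.SUWCOLZ

/-!
# S2335, piece CASEA (helper27): the orbit bound in the case of an isotropic vector outside the kernel
-/

set_option autoImplicit false

namespace Cfsg.Agent.Lib.helper44.SUW

open Matrix

/-- CASEA (M): from COLNZ + COLZ + FSKEW -/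
theorem case_a {K : Type*} [Field K] [Fintype K] [DecidableEq K] {q m : ℕ}
    (hK : Fintype.card K = q ^ 2) (hm : 2 ≤ m) (σ : K →+* K) (hσ : ∀ x, σ x = x ^ q)
    (S : Set (Matrix (Fin m) (Fin m) K)) (hS : ∀ Y ∈ S, Y ∈ skewH σ m)
    (hstab : ∀ Y ∈ S, ∀ B : Matrix (Fin m) (Fin m) K, B.det = 1 → (B.map σ)ᵀ * Y * B ∈ S)
    (Y : Matrix (Fin m) (Fin m) K) (hY : Y ∈ S) (x : Fin m → K) (hx : hval σ Y x = 0)
    (hYx : Y *ᵥ x ≠ 0) :
    (q ^ (m + m) - 1) / (q + 1) ≤ Nat.card S := by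
  have hne : ∃ Y ∈ S, Y ≠ 0 := ⟨Y, hY, by rintro rfl; exact hYx (Matrix.zero_mulVec x)⟩
  exact h27_case_a_core hK hm σ S (card_skew hK σ hσ)
    (fun b hb0 hbs => col_nonzero hK hm σ hσ S hS hstab hne b hb0 hbs)
    (col_zero hK hm σ hσ S hS hstab Y hY x hx hYx)

end Cfsg.Agent.Lib.helper44.SUW
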