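import Mathlib
import Cfsg.Agent.Lib.helper24.SfoDefs
import Cfsg.Agent.Lib.helper27.SfoCNTcore
import Cfsg.Agent.Lib.helper61.SfoCNTDO

/-!
# S5981, piece CNTO (racing copy by helper27): count of `Q = c` in odd dimension
-/

set_option autoImplicit false

namespace Cfsg.Agent.Lib.helper24

open Module Matrix Cfsg.Geo

/-- CNTO (racing copy) -/
theorem h27_sfo_count_odd {F : Type*} [Field F] [Fintype F] (h2 : (2 : F) ≠ 0) (d k : ℕ)
    (hdk : d = 2 * k + 1) (Q : (Fin d → F) → F) (hQ : IsNondegenerateQuadraticForm Q) :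
    ∃ E : ℤ, (E = 1 ∨ E = -1) ∧
      (∀ c : F, c ≠ 0 → IsSquare c →
        (sfoCount Q c : ℤ) = (Fintype.card F : ℤ) ^ k * ((Fintype.card F : ℤ) ^ k + E)) ∧
      (∀ c : F, c ≠ 0 → ¬ IsSquare c →
        (sfoCount Q c : ℤ) = (Fintype.card F : ℤ) ^ k * ((Fintype.card F : ℤ) ^ k - E)) := by
  classical
  exact h27_sfo_count_odd_core h2 (fun k d hd => sfo_count_diag_odd h2 k d hd) d k hdk Q hQ

end Cfsg.Agent.Lib.helper24
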