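import Mathlib
import Cfsg.Agent.Lib.helper24.SfuDefs

/-!
# S5982, piece NORMFIB (spare copy by helper27): fibres of the norm map `x ↦ x^(q₀+1)`
-/

set_option autoImplicit false

namespace Cfsg.Agent.Lib.helper24

open Module Matrix Cfsg.Geo

theorem h27_sfu_fib_le {F : Type*} [Field F] [Fintype F] [DecidableEq F] (k : ℕ) (hk : 0 < k)
    (c : F) : (Finset.univ.filter (fun x : F => x ^ k = c)).card ≤ k := by
  classical
  have hsub : Finset.univ.filter (fun x : F => x ^ k = c) ⊆ (Polynomial.nthRoots k c).toFinset := by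
    intro x hx
    rw [Finset.mem_filter] at hx
    rw [Multiset.mem_toFinset, Polynomial.mem_nthRoots hk]
    exact hx.2
  calc (Finset.univ.filter (fun x : F => x ^ k = c)).card
      ≤ (Polynomial.nthRoots k c).toFinset.card := Finset.card_le_card hsub
    _ ≤ Multiset.card (Polynomial.nthRoots k c) := Multiset.toFinset_card_le _
    _ ≤ k := Polynomial.card_nthRoots k c

/-- NORMFIB (spare) -/
theorem h27_sfu_norm_fiber {F : Type*} [Field F] [Fintype F] [DecidableEq F] (q₀ : ℕ)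
    (hcard : Fintype.card F = q₀ ^ 2) (c : F) (hc : c ≠ 0) (hc₀ : c ^ q₀ = c) :
    (Finset.univ.filter (fun x : F => x ^ (q₀ + 1) = c)).card = q₀ + 1 := by
  classical
  have hq2 : 2 ≤ q₀ := by
    have h1 := Fintype.one_lt_card (α := F)
    rw [hcard] at h1
    by_contra hlt
    have : q₀ ≤ 1 := by omega
    have : q₀ ^ 2 ≤ 1 ^ 2 := Nat.pow_le_pow_left this 2
    omega
  set T : Finset F := Finset.univ.filter (fun y : F => y ^ (q₀ - 1) = 1) with hT
  have hTcard : T.card ≤ q₀ - 1 := h27_sfu_fib_le (q₀ - 1) (by omega) 1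
  have hT0 : ∀ y ∈ T, y ≠ 0 := by
    intro y hy h0
    rw [hT, Finset.mem_filter] at hy
    rw [h0, zero_pow (by omega)] at hy
    exact zero_ne_one hy.2
  have hcT : c ∈ T := by
    rw [hT, Finset.mem_filter]
    refine ⟨Finset.mem_univ _, ?_⟩
    have h1 : c ^ (q₀ - 1) * c = c := by
      rw [← pow_succ]
      have : q₀ - 1 + 1 = q₀ := by omega
      rw [this]; exact hc₀
    have h2 : c ^ (q₀ - 1) * c = 1 * c := by rw [h1, one_mul]
    exact mul_right_cancel₀ hc h2
  set s : Finset F := Finset.univ.filter (fun x : F => x ≠ 0) with hs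
  have hscard : s.card = q₀ ^ 2 - 1 := by
    rw [hs, Finset.filter_ne' Finset.univ (0 : F), Finset.card_erase_of_mem (Finset.mem_univ _),
      Finset.card_univ, hcard]
  have hmap : ∀ x ∈ s, x ^ (q₀ + 1) ∈ T := by
    intro x hx
    rw [hs, Finset.mem_filter] at hx
    rw [hT, Finset.mem_filter]
    refine ⟨Finset.mem_univ _, ?_⟩
    rw [← pow_mul]
    have h3 : (q₀ + 1) * (q₀ - 1) = Fintype.card F - 1 := by
      rw [hcard]
      have : q₀ ^ 2 = (q₀ - 1) * (q₀ + 1) + 1 := by
        obtain ⟨k, rfl⟩ : ∃ k, q₀ = k + 1 := ⟨q₀ - 1, by omega⟩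
        simp only [Nat.add_sub_cancel]
        ring
      rw [this, Nat.add_sub_cancel, mul_comm]
    rw [h3]
    exact FiniteField.pow_card_sub_one_eq_one x hx.2
  have hsum := Finset.card_eq_sum_card_fiberwise hmap
  have hfib : ∀ y ∈ T, (s.filter (fun x => x ^ (q₀ + 1) = y)).card =
      (Finset.univ.filter (fun x : F => x ^ (q₀ + 1) = y)).card := by
    intro y hy
    congr 1
    ext x
    simp only [hs, Finset.mem_filter, Finset.mem_univ, true_and]
    constructor
    · exact fun h => h.2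
    · intro h
      refine ⟨?_, h⟩
      intro h0
      rw [h0, zero_pow (by omega)] at h
      exact hT0 y hy h.symm
  rw [Finset.sum_congr rfl hfib, hscard] at hsum
  have hle : ∀ y ∈ T, (Finset.univ.filter (fun x : F => x ^ (q₀ + 1) = y)).card ≤ q₀ + 1 :=
    fun y _ => h27_sfu_fib_le (q₀ + 1) (by omega) y
  by_contra hne
  have hlt : (Finset.univ.filter (fun x : F => x ^ (q₀ + 1) = c)).card < q₀ + 1 :=
    lt_of_le_of_ne (hle c hcT) hne
  have hlt2 : ∑ y ∈ T, (Finset.univ.filter (fun x : F => x ^ (q₀ + 1) = y)).card <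
      ∑ _y ∈ T, (q₀ + 1) := Finset.sum_lt_sum hle ⟨c, hcT, hlt⟩
  rw [Finset.sum_const, smul_eq_mul, ← hsum] at hlt2
  have h4 : T.card * (q₀ + 1) ≤ (q₀ - 1) * (q₀ + 1) := Nat.mul_le_mul_right _ hTcard
  have h5 : (q₀ - 1) * (q₀ + 1) = q₀ ^ 2 - 1 := by
    obtain ⟨k, rfl⟩ : ∃ k, q₀ = k + 1 := ⟨q₀ - 1, by omega⟩
    simp only [Nat.add_sub_cancel]
    have : (k + 1) ^ 2 = k * (k + 1 + 1) + 1 := by ring
    rw [this, Nat.add_sub_cancel]
  omega

end Cfsg.Agent.Lib.helper24
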