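import Cfsg.Agent.Lib.helper81.WTDefs
import Cfsg.Agent.Lib.helper32.WTPC
import Cfsg.Agent.Lib.helper46.WTSUPPT

/-!
# S4414, piece B1 (racing copy by helper27): the support of a fixed vector inside one orbit
-/

set_option autoImplicit false

namespace Cfsg.Agent.Lib.helper81.WT

open scoped TensorProduct

universe u v w

/-- [B1] a nonzero T-fixed vector supported in one T-orbit has the whole orbit as support; uses PC, SUPPT -/
theorem helper27_supp_eq_orb {S : Type u} [Group S] [Finite S] {F : Type w} [Field F] [Finite F] [CharP F 2]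
    {V : Type v} [AddCommGroup V] [Module F V]
    (R : Representation F S V) (Y : Subgroup S) [Y.Normal] [Fintype ↥Y]
    (hYc : ∀ a b : ↥Y, a * b = b * a) [HasEnoughRootsOfUnity F (Monoid.exponent ↥Y)]
    (hodd : Odd (Fintype.card ↥Y))
    (T : Subgroup S) (μ₀ : ↥Y →* Fˣ) (v : V) (hv0 : v ≠ 0) (hv : v ∈ fixT R T)
    (hs : supp R Y v ⊆ orb Y T μ₀) : supp R Y v = orb Y T μ₀ := by
  refine Set.Subset.antisymm hs ?_
  have hne : ∃ ν, ν ∈ supp R Y v := by
    by_contra hcon
    apply hv0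
    refine helper32_proj_complete R Y hYc hodd v (fun μ => ?_)
    by_contra hμ
    exact hcon ⟨μ, hμ⟩
  obtain ⟨ν, hν⟩ := hne
  obtain ⟨t, ht, rfl⟩ := hs hν
  rintro κ ⟨s, hsT, rfl⟩
  have h1 : cj Y s μ₀ = cj Y (s * t⁻¹) (cj Y t μ₀) := by
    rw [← cj_mul, inv_mul_cancel_right]
  rw [h1]
  exact supp_fix R Y T v hv (s * t⁻¹) (T.mul_mem hsT (T.inv_mem ht)) _ hν

end Cfsg.Agent.Lib.helper81.WT
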